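import Mathlib
import Cfsg.Agent.P4.Pre
import Cfsg.Agent.G2T.FWInd
import Cfsg.Prelude.Def_PhanSystems

/-!
Groups with Sylow 2-subgroups of type `L₄(q)`, `q` odd: the notions of the generic part.
The class of `z` is written `𝒯`; `K₁ = σ.range`, `K₂ = (tw σ s).range`, `N₀ = 𝐍[K₁]`; the elements of
`C(z)` outside `N₀` are the swaps.  See `stubs/Cfsg/Agent/L4/PLAN.md`.
-/

set_option autoImplicit false
set_option linter.unusedSectionVars false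

namespace Cfsg.Agent.L4

open Cfsg.Agent.Loc.Mss Cfsg.Agent.GW Subgroup Cfsg.Agent.P4 Cfsg.Agent.G2T Cfsg.Agent.Cl.GL2
open scoped MatrixGroups

variable {G X : Type*} [Group G] [Group X] {F : Type} [Field F] [Fintype F]

/-- The determinant of an invertible matrix. -/
abbrev dt (M : GL (Fin 2) F) : F := (M : Mat F).det

/-- The trace of an invertible matrix. -/
abbrev tr (M : GL (Fin 2) F) : F := (M : Mat F).trace

/-- Two matrices anticommute. -/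
def Anti (M N : GL (Fin 2) F) : Prop := (M : Mat F) * (N : Mat F) = -((N : Mat F) * (M : Mat F))

/-- The centralizer of both factors. -/
def Zt (σ : SL(2, F) →* G) (s : G) : Subgroup G := 𝐂[σ.range] ⊓ 𝐂[(tw σ s).range]

theorem mem_Zt {σ : SL(2, F) →* G} {s c : G} :
    c ∈ Zt σ s ↔ (∀ a, Commute c (σ a)) ∧ ∀ a, Commute c (tw σ s a) :=
  ⟨fun h => ⟨fun a => (h.1 _ ⟨a, rfl⟩).symm, fun a => (h.2 _ ⟨a, rfl⟩).symm⟩,
    fun h => ⟨by rintro _ ⟨a, rfl⟩; exact (h.1 a).symm, by rintro _ ⟨a, rfl⟩; exact (h.2 a).symm⟩⟩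

/-- The centralizer of `z = σ (-1)` is of type `L₄(q)` or `U₄(q)`, up to field automorphisms of odd
order and the structure of `Zt σ s`. -/
structure Cz (σ : SL(2, F) →* G) (s : G) : Prop where
  odd : Odd (Fintype.card F)
  big : 3 < Fintype.card F
  inj : Function.Injective σ
  ss : s * s = 1
  sz : Commute s (σ (-1))
  comm : ∀ a b, Commute (σ a) (tw σ s b)
  nrm : ∀ g, Commute g (σ (-1)) → g ∈ 𝐍[σ.range] ∨ g * s ∈ 𝐍[σ.range]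
  gl : ∀ g ∈ 𝐍[σ.range], ∃ m, Odd m ∧ ∃ M N, Ind σ (g ^ m) M ∧ Ind (tw σ s) (g ^ m) N ∧
    IsSquare (dt M * dt N)
  uniq : ∀ c ∈ Zt σ s, c * c = 1 → c = 1 ∨ c = σ (-1)
  inv : ∀ f, f * f = 1 → Commute f (σ (-1)) → f ∉ 𝐍[σ.range] → ∀ c ∈ Zt σ s, f * c * f⁻¹ = c⁻¹
  two : ∀ g ∈ 𝐍[σ.range], (∃ n : ℕ, g ^ 2 ^ n = 1) → ∀ c ∈ Zt σ s, Commute g c
  out : ∃ f f', f * f = 1 ∧ Commute f (σ (-1)) ∧ f ∉ 𝐍[σ.range] ∧ f' * f' = 1 ∧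
    Commute f' (σ (-1)) ∧ f' ∉ 𝐍[σ.range] ∧ ∃ M, Ind σ (f * f') M ∧ ¬ IsSquare (dt M)

/-- An element of `C(a, b)` permutes the involutions of a four-group of `C(a, b)` cyclically. -/
def A4 (a b : G) : Prop := ∃ v g : G, v * v = 1 ∧ Commute v a ∧ Commute v b ∧ Commute g a ∧
  Commute g b ∧ Commute v (g * v * g⁻¹) ∧ g * v * g⁻¹ ≠ v ∧
  g * (g * v * g⁻¹) * g⁻¹ = v * (g * v * g⁻¹)

theorem A4.symm {a b : G} (h : A4 a b) : A4 b a := by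
  obtain ⟨v, g, h1, h2, h3, h4, h5, h6⟩ := h
  exact ⟨v, g, h1, h3, h2, h5, h4, h6⟩

/-- Elementary abelian of order 16. -/
def E16 (E : Subgroup G) : Prop := IsElementaryAbelian 2 E ∧ Nat.card E = 16

/-- The local data at an involution `a`; the elements of `C(a)` outside `C₀` are the swaps. -/
structure Lo (a : G) (C₀ : Subgroup G) : Prop where
  le : C₀ ≤ Cen a
  self : a ∈ C₀
  half : ∀ g g', Commute g a → Commute g' a → g ∉ C₀ → g' ∉ C₀ → g * g' ∈ C₀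
  a4 : ∀ b, b * b = 1 → Commute b a → b ∉ C₀ → A4 a b
  na4 : ∀ E, E16 E → a ∈ E → ∀ b ∈ E, b ∈ C₀ → b ≠ 1 → b ≠ a → ¬ A4 a b
  nd : ∀ E, E16 E → a ∈ E → ∃ b ∈ E, b ∉ C₀
  b1 : ∀ b, b * b = 1 → Commute b a → b ∉ C₀ → ∀ Y : Subgroup G, Odd (Nat.card Y) →
    Y ≤ Cen a ⊓ Cen b → Cen a ⊓ Cen b ≤ 𝐍[Y] → Y ≤ UU a
  hard : ∀ E, E16 E → a ∈ E → ∀ d ∈ E, ∀ d' ∈ E, ∀ f ∈ E, d ∈ C₀ → d' ∈ C₀ → f ∉ C₀ →
    d ≠ 1 → d ≠ a → d' ≠ 1 → d' ≠ a → d' ≠ d → d' ≠ a * d → ∀ Y : Subgroup G, Odd (Nat.card Y) →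
    Y ≤ Cen a ⊓ Cen d → Cen a ⊓ Cen d ≤ 𝐍[Y] → (∀ y ∈ Y, f * y * f⁻¹ * y ∈ UU a) →
    Y ⊓ Cen d' ≤ UU a

/-- Type A: Sylow 2-subgroups `D ≀ 2`, `D` dihedral. -/
structure TA (z s : G) (π : G → X) (σ : SL(2, F) →* X) : Prop where
  cen : ∀ c ∈ Zt σ (π s), c = 1 ∨ c = σ (-1)
  out : ∀ t, IsConj z t → Commute t z → t ≠ z → ∀ M, Ind σ (π t) M → ¬ IsSquare (dt M)
  lo : ∀ E, E16 E → ∀ a ∈ E, a ≠ 1 → ¬ IsConj z a → ∃ C₀, Lo a C₀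

/-- Type B: Sylow 2-subgroups of `L₄(q)`, `q ≡ 1 mod 4`. -/
structure TB (z s : G) (π : G → X) (σ : SL(2, F) →* X) : Prop where
  inn : ∀ v, v * v = 1 → ∀ M, Ind σ v M → IsSquare (dt M)
  act : ∀ t, IsConj z t → Commute t z → t ≠ z → ¬ ∀ a, Commute (π t) (σ a)
  sw : ∀ f, f * f = 1 → Commute f z → π f ∉ 𝐍[σ.range] → IsConj z f
  tor : (∃ c ∈ Zt σ (π s), c * c = σ (-1)) ∨ ∀ a : SL(2, F), a * a * (a * a) ≠ -1

/-- The data before the signalizer functor argument; `π : C(z) → X = C(z) / O(C(z))`. -/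
structure Gen (z s t : G) (π : G → X) (σ : SL(2, F) →* X) : Prop where
  quo : Quo z π
  cz : Cz σ (π s)
  z2 : IsPGroup 2 (Zt σ (π s))
  hz : π z = σ (-1)
  zz : z * z = 1
  syl : ∀ P : Subgroup G, IsPGroup 2 P → ∃ g, cj(g, P) ≤ Cen z
  ss : s * s = 1
  sz : Commute s z
  zs : IsConj z s
  zt : IsConj z t
  tz : Commute t z
  ne : t ≠ z
  tn : π t ∈ 𝐍[σ.range]
  st : Commute s t
  typ : TA z s π σ ∨ TB z s π σ

/-- The preimage of `N₀` in `C(z)`. -/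
def Gen.C0 {z s t : G} {π : G → X} {σ : SL(2, F) →* X} (h : Gen z s t π σ) : Subgroup G :=
  ((𝐍[σ.range]).comap h.quo.hom).map (Cen z).subtype

theorem Gen.mem_C0 {z s t g : G} {π : G → X} {σ : SL(2, F) →* X} (h : Gen z s t π σ) :
    g ∈ h.C0 ↔ Commute g z ∧ π g ∈ 𝐍[σ.range] :=
  ⟨fun ⟨y, hy, e⟩ => e ▸ ⟨(mem_Cen.1 y.2).symm, hy⟩,
    fun ⟨c, hy⟩ => ⟨⟨g, mem_Cen.2 c.symm⟩, hy, rfl⟩⟩

/-- The data after the signalizer functor argument; `z = σ (-1)`. -/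
structure Rg (σ : SL(2, F) →* G) (s t : G) : Prop where
  cz : Cz σ s
  zs : IsConj (σ (-1)) s
  zt : IsConj (σ (-1)) t
  ne : t ≠ σ (-1)
  tn : t ∈ 𝐍[σ.range]
  st : Commute s t
  act : ∀ t', IsConj (σ (-1)) t' → Commute t' (σ (-1)) → t' ≠ σ (-1) → ¬ ∀ a, Commute t' (σ a)
  cl : ∀ t', IsConj (σ (-1)) t' → t' ≠ σ (-1) → ∀ M M', Ind σ t M → Ind σ t' M' →
    IsSquare (dt M * dt M')
  typ : ((∀ c ∈ Zt σ s, c * c ≠ σ (-1)) ∧ ∀ M, Ind σ t M → ¬ IsSquare (dt M)) ∨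
    ((∀ v, v * v = 1 → ∀ M, Ind σ v M → IsSquare (dt M)) ∧
      (∀ f, f * f = 1 → Commute f (σ (-1)) → f ∉ 𝐍[σ.range] → IsConj (σ (-1)) f) ∧
      ((∃ c ∈ Zt σ s, c * c = σ (-1)) ∨ ∀ a : SL(2, F), a * a * (a * a) ≠ -1))
  term : ∀ P : Subgroup G, Cen (σ (-1)) ≤ P → Cen t ≤ P → P = ⊤

/-- The first factor at `g z g⁻¹`. -/
abbrev cjh (g : G) (σ : SL(2, F) →* G) : SL(2, F) →* G := (MulAut.conj g).toMonoidHom.comp σ

theorem cjh_apply (g : G) (σ : SL(2, F) →* G) (a : SL(2, F)) : cjh g σ a = g * σ a * g⁻¹ := rfl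

/-- The factors at the three involutions `z = σ (-1)`, `t = ρ (-1)`, `z t = μ (-1)` of a four-group;
`⟨z, t, v, w⟩` is elementary abelian of order 16. -/
structure Tri (σ ρ μ : SL(2, F) →* G) (v w : G) : Prop where
  c1 : Cz σ v
  c2 : Cz ρ w
  c3 : Cz μ v
  zt : μ (-1) = σ (-1) * ρ (-1)
  ne : ρ (-1) ≠ σ (-1)
  vw : Commute v w
  t1 : ρ (-1) ∈ 𝐍[σ.range]
  w1 : w ∈ 𝐍[σ.range]
  z2 : σ (-1) ∈ 𝐍[ρ.range]
  v2 : v ∈ 𝐍[ρ.range]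
  z3 : σ (-1) ∈ 𝐍[μ.range]
  vw3 : v * w ∈ 𝐍[μ.range]

/-- The configuration of the recognition step: `K₁ = σ.range`, `K₂ = (tw σ s).range` at `z = σ (-1)`,
`K' = ρ.range`, `K'' = (tw ρ r).range` at `t = ρ (-1)`; `x` centralizes `K₁` and `K'`. -/
structure Cfg (σ ρ : SL(2, F) →* G) (s r x : G) : Prop where
  c1 : Cz σ s
  c2 : Cz ρ r
  ne : ρ (-1) ≠ σ (-1)
  t1 : ρ (-1) ∈ 𝐍[σ.range]
  z2 : σ (-1) ∈ 𝐍[ρ.range]
  s2 : s ∈ 𝐍[ρ.range]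
  st : Commute s (ρ (-1))
  rz : Commute r (σ (-1))
  fr : ∃ g, ρ = cjh g σ
  act : ∀ t', IsConj (σ (-1)) t' → Commute t' (σ (-1)) → t' ≠ σ (-1) → ¬ ∀ a, Commute t' (σ a)
  x1 : ∃ h, h ≠ 1 ∧ h ≠ -1 ∧ Commute (ρ (-1)) (tw σ s h) ∧ ∃ c ∈ Zt σ s, x = tw σ s h * c
  x2 : ∃ h, h ≠ 1 ∧ h ≠ -1 ∧ Commute (σ (-1)) (tw ρ r h) ∧ ∃ c ∈ Zt ρ r, x = tw ρ r h * c
  f1 : ∀ a, Commute a x → (∀ b, Commute a (σ b)) → (∃ n : ℕ, a ^ 2 ^ n = 1) →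
    (∀ b, Commute (a * a) (ρ b)) → (∀ b, Commute a (ρ b)) ∨ ∀ b, Commute (a * σ (-1)) (ρ b)
  gen : σ.range ⊔ ρ.range ⊔ (tw σ s).range = ⊤

/-- The first factor as a subgroup of the join. -/
def jl (σ ρ : SL(2, F) →* G) : SL(2, F) →* ↥(σ.range ⊔ ρ.range) :=
  σ.codRestrict _ fun a => mem_sup_left (MonoidHom.mem_range.2 ⟨a, rfl⟩)

/-- The second factor as a subgroup of the join. -/
def jr (σ ρ : SL(2, F) →* G) : SL(2, F) →* ↥(σ.range ⊔ ρ.range) :=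
  ρ.codRestrict _ fun a => mem_sup_right (MonoidHom.mem_range.2 ⟨a, rfl⟩)

@[simp] theorem coe_jl (σ ρ : SL(2, F) →* G) (a : SL(2, F)) : (jl σ ρ a : G) = σ a := rfl

@[simp] theorem coe_jr (σ ρ : SL(2, F) →* G) (a : SL(2, F)) : (jr σ ρ a : G) = ρ a := rfl

/-- Two copies of `SL₂(F)` generating `G`, mapped into a group `X` of 2-rank two. -/
structure Pr (σ ρ : SL(2, F) →* G) (φ : G →* X) : Prop where
  odd : Odd (Fintype.card F)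
  big : 3 < Fintype.card F
  gen : σ.range ⊔ ρ.range = ⊤
  ker : φ.ker ≤ center G
  inj1 : Function.Injective (φ.comp σ)
  inj2 : Function.Injective (φ.comp ρ)
  comm : Commute (σ (-1)) (ρ (-1))
  ne : φ (σ (-1)) ≠ φ (ρ (-1))
  n1 : Cen (φ (σ (-1))) ≤ 𝐍[(φ.comp σ).range]
  n2 : Cen (φ (ρ (-1))) ≤ 𝐍[(φ.comp ρ).range]
  rk : Cfsg.PRankLE 2 2 X

/-- The conclusion of the generic part; `I` says that `t` acts on `K₁` as an inner automorphism. -/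
def Res (G : Type*) [Group G] (F : Type) [Field F] [Fintype F] (I : Prop) : Prop :=
  (Nonempty (G ≃* Matrix.ProjectiveSpecialLinearGroup (Fin 4) F) ∧ (Fintype.card F % 4 = 1 → I)) ∨
    ∃ (K : Type) (_ : Field K) (_ : Fintype K), Fintype.card K = Fintype.card F ^ 2 ∧
      Nonempty (G ≃* Cfsg.PSU 4 K (Fintype.card F)) ∧ (Fintype.card F % 4 = 3 → I)

end Cfsg.Agent.L4
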