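import Mathlib
import Cfsg.Agent.L4.Defs
import Cfsg.Agent.P4.SL
import Cfsg.Agent.G2I.LC0
import Cfsg.Agent.Cl.UField

/-! Invertible matrices of size two and trace zero; automorphisms of `SL₂(F)` of odd order; tori. -/

set_option autoImplicit false
set_option linter.unusedSectionVars false

namespace Cfsg.Agent.L4

open Cfsg.Agent.Loc.Mss Cfsg.Agent.GW Subgroup Cfsg.Agent.P4 Cfsg.Agent.G2T Cfsg.Agent.Cl.GL2
open scoped MatrixGroups

variable {F : Type} [Field F] [Fintype F] {M M' N : GL (Fin 2) F}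

namespace SL

theorem two (hF : Odd (Fintype.card F)) : (2 : F) ≠ 0 := Cl.GL2.two_ne_zero_of_odd hF

theorem dt_ne (M : GL (Fin 2) F) : dt M ≠ 0 := M.det_ne_zero

theorem dt_mul (M N : GL (Fin 2) F) : dt (M * N) = dt M * dt N := Matrix.det_mul _ _

theorem dt_tG (a : SL(2, F)) : dt (tG a) = 1 := a.det_coe

theorem ns (hF : Odd (Fintype.card F)) (hM : tr M = 0) : ¬ IsScal (M : Mat F) := fun ⟨h1, h2, h3⟩ => by
  have h := det_entries_ne_zero M
  rw [tr, Matrix.trace_fin_two, ← h3, ← two_mul] at hM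
  rw [h1, ← h3, (mul_eq_zero.1 hM).resolve_left (two hF)] at h
  simp at h

theorem sq_iff {a : SL(2, F)} : a * a = -1 ↔ tr (tG a) = 0 := by
  rw [Inv.SLF.mul_self_eq_neg_one_iff, tr, Matrix.trace_fin_two]; rfl

theorem tor_det (hF : Odd (Fintype.card F)) (hM : tr M = 0) (a : Fˣ) :
    ∃ x ∈ torus M, Matrix.GeneralLinearGroup.det x = a := by
  by_cases h : IsEll (M : Mat F)
  · exact exists_mem_torus_det h a
  rw [isEll_iff] at h
  push Not at h
  obtain ⟨c, hc⟩ := h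
  rw [cp, show (M : Mat F).trace = 0 from hM] at hc
  refine exists_mem_torus_det_hyp (x := c) (y := -c) (fun e => dt_ne M ?_) (by rw [add_neg_cancel]; exact hM)
    (by linear_combination hc) a
  have : c = 0 := (mul_eq_zero.1 (show 2 * c = 0 by linear_combination e)).resolve_left (two hF)
  rw [this] at hc
  linear_combination hc

theorem conj_sl (hF : Odd (Fintype.card F)) (hM : tr M = 0) (hN : tr N = 0) (h : dt M = dt N) :
    ∃ k : SL(2, F), tG k * M * (tG k)⁻¹ = N := by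
  obtain ⟨g, hg⟩ := isConj_iff.1 (isConj_of_trace_det (ns hF hM) (ns hF hN) (hM.trans hN.symm) h)
  obtain ⟨x, hx, e⟩ := tor_det hF hM (Matrix.GeneralLinearGroup.det g)⁻¹
  refine ⟨⟨(g * x : GL (Fin 2) F), ?_⟩, ?_⟩
  · rw [← Matrix.GeneralLinearGroup.val_det_apply, map_mul, e, mul_inv_cancel, Units.val_one]
  · rw [show tG (⟨(g * x : GL (Fin 2) F), _⟩ : SL(2, F)) = g * x from Units.ext rfl, ← hg, mul_assoc g,
      mem_centralizer_singleton_iff.1 hx]
    group

theorem scal_of_eq (h : ∀ a, cjM M a = cjM N a) : ∃ c : Fˣ, M = scalGL c * N := by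
  have : IsScal ((N⁻¹ * M : GL (Fin 2) F) : Mat F) := isScal_of_comm_all fun x =>
    cjM_eq_iff'.1 (by rw [cjM_mul, h, ← cjM_mul, inv_mul_cancel, cjM_one])
  obtain ⟨c, hc⟩ := this.exists_scalGL
  exact ⟨c, by rw [(isScal_scalGL c).gl_comm, ← hc, mul_inv_cancel_left]⟩

theorem coe_scal_mul (c : Fˣ) (M : GL (Fin 2) F) :
    ((scalGL c * M : GL (Fin 2) F) : Mat F) = (c : F) • (M : Mat F) := by
  rw [Units.val_mul, coe_scalGL, smul_mul_assoc, one_mul]

theorem dt_scal (c : Fˣ) (M : GL (Fin 2) F) : dt (scalGL c * M) = (c : F) ^ 2 * dt M := by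
  rw [dt, coe_scal_mul, Matrix.det_smul, Fintype.card_fin]

theorem tr_scal (c : Fˣ) (M : GL (Fin 2) F) : tr (scalGL c * M) = c * tr M := by
  rw [tr, coe_scal_mul, Matrix.trace_smul, smul_eq_mul]

theorem anti_symm (h : Anti M N) : Anti N M := by rw [Anti, h, neg_neg]

theorem anti_iff {a b : SL(2, F)} : Anti (tG a) (tG b) ↔ a * b = -(b * a) :=
  ⟨fun h => Subtype.ext h, fun h => congrArg Subtype.val h⟩

end SL

open SL

theorem tr_of_anti (hF : Odd (Fintype.card F)) (h : Anti M N) : tr M = 0 := by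
  have h1 : (M : Mat F) = -((N : Mat F) * M * (N⁻¹ : GL (Fin 2) F)) := by
    rw [← neg_mul, ← h, mul_assoc, Units.mul_inv, mul_one]
  have h2 := congrArg Matrix.trace h1
  rw [Matrix.trace_neg, Matrix.trace_mul_comm, ← mul_assoc, Units.inv_mul, one_mul] at h2
  exact (mul_eq_zero.1 (show 2 * tr M = 0 by linear_combination h2)).resolve_left (two hF)

theorem exists_anti (hF : Odd (Fintype.card F)) (hM : tr M = 0) :
    ∃ a : SL(2, F), a * a = -1 ∧ Anti (tG a) M := by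
  obtain ⟨k, hk⟩ := conj_sl hF hM (N := scalGL (-1) * M) (by rw [tr_scal, hM, mul_zero])
    (by rw [dt_scal]; simp)
  have h : Anti (tG k) M := by
    have := congrArg Units.val (mul_inv_eq_iff_eq_mul.1 hk)
    rw [Units.val_mul, Units.val_mul, coe_scal_mul] at this
    rw [Anti, this]; simp
  exact ⟨k, sq_iff.2 (tr_of_anti hF h), h⟩

theorem comm_or_anti (hF : Odd (Fintype.card F)) (hM : tr M = 0)
    (h : ∀ a, cjM M (cjM N a) = cjM N (cjM M a)) : M * N = N * M ∨ Anti M N := by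
  obtain ⟨c, hc⟩ := scal_of_eq (M := M * N) (N := N * M) fun a => by rw [cjM_mul, cjM_mul, h]
  have h1 := congrArg dt hc
  rw [dt_scal, dt_mul, dt_mul, mul_comm (dt N), eq_comm,
    mul_eq_right₀ (mul_ne_zero (dt_ne M) (dt_ne N))] at h1
  have h2 := congrArg Units.val hc
  rw [coe_scal_mul] at h2
  rcases sq_eq_one_iff.1 h1 with e | e <;> rw [e] at h2
  · exact Or.inl (Units.ext (by rwa [one_smul] at h2))
  · exact Or.inr (by rwa [neg_one_smul] at h2)

theorem eq_of_comm (hF : Odd (Fintype.card F)) (hM : tr M = 0) (hN : tr N = 0) (h : M * N = N * M) :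
    ∃ c : Fˣ, N = scalGL c * M := by
  obtain ⟨a, b, e⟩ := (comm_iff_of_not_isScal (ns hF hM) (N : Mat F)).1 (congrArg Units.val h.symm)
  have h1 := congrArg Matrix.trace e
  rw [trace_comb, show (M : Mat F).trace = 0 from hM, show (N : Mat F).trace = 0 from hN, mul_zero,
    add_zero] at h1
  rw [(mul_eq_zero.1 h1.symm).resolve_left (two hF), zero_smul, zero_add] at e
  have hb : b ≠ 0 := fun h0 => N.ne_zero (by rw [e, h0, zero_smul])
  exact ⟨Units.mk0 b hb, Units.ext (by rw [coe_scal_mul]; exact e)⟩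

theorem scal_of_comm (hF : Odd (Fintype.card F)) (h : Anti M M') (h1 : N * M = M * N)
    (h2 : N * M' = M' * N) : IsScal (N : Mat F) := by
  have hM := ns hF (tr_of_anti hF h)
  obtain ⟨a, b, e⟩ := (comm_iff_of_not_isScal hM (N : Mat F)).1 (congrArg Units.val h1)
  have h3 := congrArg Units.val h2
  rw [Units.val_mul, Units.val_mul, e, add_mul, mul_add, smul_mul_assoc, smul_mul_assoc, mul_smul_comm,
    mul_smul_comm, one_mul, mul_one, add_right_inj, h] at h3
  have h4 : (2 * b) • ((M' * M : GL (Fin 2) F) : Mat F) = 0 := by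
    rw [Units.val_mul]; linear_combination (norm := module) -h3
  rw [e, isScal_comb_iff hM]
  exact (mul_eq_zero.1 ((smul_eq_zero.1 h4).resolve_right (Units.ne_zero _))).resolve_left (two hF)

theorem conj_tr_zero (hF : Odd (Fintype.card F)) (hM : tr M = 0) (hM' : tr M' = 0)
    (h : IsSquare (dt M * dt M')) : ∃ (k : SL(2, F)) (c : Fˣ), tG k * M * (tG k)⁻¹ = scalGL c * M' := by
  obtain ⟨r, hr⟩ := h
  have h0 : r ≠ 0 := fun e => mul_ne_zero (dt_ne M) (dt_ne M') (by rw [hr, e, zero_mul])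
  have h1 := dt_ne M'
  obtain ⟨k, hk⟩ := conj_sl hF hM (N := scalGL (Units.mk0 (r / dt M') (div_ne_zero h0 h1)) * M')
    (by rw [tr_scal, hM', mul_zero]) (by rw [dt_scal, Units.val_mk0]; field_simp; linear_combination hr)
  exact ⟨k, _, hk⟩

theorem SL.conn_of {α : Type*} (Φ : GL (Fin 2) F → α) (h1 : ∀ M N, Anti M N → Φ M = Φ N) (hM : tr M = 0)
    (hN : tr N = 0) (h : tr (M * N) ^ 2 ≠ 4 * dt M * dt N) : Φ M = Φ N := by
  simp only [tr, dt, Matrix.trace_fin_two, Matrix.det_fin_two, Units.val_mul, mul00, mul11] at hM hN h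
  have m : (M : Mat F) 1 1 = -(M : Mat F) 0 0 := by linear_combination hM
  have n : (N : Mat F) 1 1 = -(N : Mat F) 0 0 := by linear_combination hN
  let W : GL (Fin 2) F := Matrix.GeneralLinearGroup.mkOfDetNeZero ((M : Mat F) * N - (N : Mat F) * M) fun e => h (by
    simp only [Matrix.det_fin_two, Matrix.sub_apply, mul00, mul01, mul10, mul11, m, n] at e ⊢
    linear_combination -e)
  have hW : (W : Mat F) = (M : Mat F) * N - (N : Mat F) * M := rfl
  refine (h1 M W ?_).trans (h1 W N ?_) <;> rw [Anti, hW, mat_ext_iff] <;>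
    simp only [Matrix.sub_apply, Matrix.neg_apply, mul00, mul01, mul10, mul11, m, n] <;>
    refine ⟨?_, ?_, ?_, ?_⟩ <;> ring

theorem conn_gl (hF : Odd (Fintype.card F)) {α : Type*} (Φ : GL (Fin 2) F → α)
    (h1 : ∀ M N, Anti M N → Φ M = Φ N) (hM : tr M = 0) (hN : tr N = 0) : Φ M = Φ N := by
  obtain ⟨a, -, ha⟩ := exists_anti hF hM
  have hb : Anti (M * tG a) M := by rw [Anti, Units.val_mul, mul_assoc, ha, mul_neg]
  have ta := tr_of_anti hF ha
  have tb := tr_of_anti hF hb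
  by_cases c1 : tr (M * N) ^ 2 = 4 * dt M * dt N
  swap
  · exact conn_of Φ h1 hM hN c1
  by_cases c2 : tr (tG a * N) ^ 2 = 4 * dt (tG a) * dt N
  swap
  · exact (h1 _ _ ha).symm.trans (conn_of Φ h1 ta hN c2)
  refine (h1 _ _ hb).symm.trans (conn_of Φ h1 tb hN fun c3 => ?_)
  have d := dt_tG a
  have h0 := mul_ne_zero (pow_ne_zero 3 (two hF)) (mul_ne_zero (dt_ne M) (dt_ne N))
  rw [dt_mul] at c3
  generalize tG a = A at *
  simp only [tr, dt, Matrix.trace_fin_two, Matrix.det_fin_two, Units.val_mul, mul00, mul01, mul10, mul11]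
    at hM hN ta tb c1 c2 c3 d h0
  have m : (M : Mat F) 1 1 = -(M : Mat F) 0 0 := by linear_combination hM
  have n : (N : Mat F) 1 1 = -(N : Mat F) 0 0 := by linear_combination hN
  have a' : (A : Mat F) 1 1 = -(A : Mat F) 0 0 := by linear_combination ta
  simp only [m, n, a'] at tb c1 c2 c3 d h0
  generalize (M : Mat F) 0 0 = m0 at *
  generalize (M : Mat F) 0 1 = m1 at *
  generalize (M : Mat F) 1 0 = m2 at *
  generalize (N : Mat F) 0 0 = n0 at *
  generalize (N : Mat F) 0 1 = n1 at *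
  generalize (N : Mat F) 1 0 = n2 at *
  generalize (A : Mat F) 0 0 = a0 at *
  generalize (A : Mat F) 0 1 = a1 at *
  generalize (A : Mat F) 1 0 = a2 at *
  refine h0 ?_
  linear_combination -c3 - (m0 * -m0 - m1 * m2) * c2 - (a0 * -a0 - a1 * a2) * c1 -
    ((n0 * -n0 - n1 * n2) * (2 * m0 * a0 + m1 * a2 + m2 * a1) +
      (2 * a0 * n0 + a1 * n2 + a2 * n1) * (2 * m0 * n0 + m1 * n2 + m2 * n1)) * tb -
    8 * (m0 * -m0 - m1 * m2) * (n0 * -n0 - n1 * n2) * d

theorem exists_a4 (hF : Odd (Fintype.card F)) : ∃ a g : SL(2, F), Anti (tG a) (tG (g * a * g⁻¹)) ∧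
    g * (g * a * g⁻¹) * g⁻¹ = a * (g * a * g⁻¹) := by
  have ha := Inv.SLF.w0_mul_self (F := F)
  obtain ⟨b, hb, hab⟩ := sl_exists_inv hF ha
  generalize Inv.SLF.w0 F = a at ha hab
  have h2 := two hF
  have d : ∀ {x : SL(2, F)}, x * x = -1 → ((1 : Mat F) + x).det = 2 := fun {x} hx => by
    have := det_comb (x : Mat F) 1 1
    rw [one_smul, one_smul, show (x : Mat F).trace = 0 from sq_iff.1 hx, x.det_coe] at this
    rw [this]; ring
  let g : SL(2, F) := ⟨(2⁻¹ : F) • (((1 : Mat F) + a) * (1 + b)), by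
    rw [Matrix.det_smul, Matrix.det_mul, d ha, d hb, Fintype.card_fin]; field_simp⟩
  have hg : (g : Mat F) = (2⁻¹ : F) • (((1 : Mat F) + a) * (1 + b)) := rfl
  have aa := sl_coe_sq ha
  have bb := sl_coe_sq hb
  have ba : (b : Mat F) * a = -((a : Mat F) * b) := congrArg Subtype.val hab
  have aa' : ∀ x : Mat F, (a : Mat F) * ((a : Mat F) * x) = -x := fun x => by rw [← mul_assoc, aa, neg_one_mul]
  have bb' : ∀ x : Mat F, (b : Mat F) * ((b : Mat F) * x) = -x := fun x => by rw [← mul_assoc, bb, neg_one_mul]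
  have ba' : ∀ x : Mat F, (b : Mat F) * ((a : Mat F) * x) = -((a : Mat F) * ((b : Mat F) * x)) := fun x => by
    rw [← mul_assoc, ba, neg_mul, mul_assoc]
  have e1 : g * a * g⁻¹ = b := mul_inv_eq_iff_eq_mul.2 (Subtype.ext (by
    simp only [Matrix.SpecialLinearGroup.coe_mul, hg, smul_mul_assoc, mul_smul_comm, add_mul, mul_add, one_mul,
      mul_one, mul_assoc, aa, bb, ba, aa', bb', ba', mul_neg, neg_neg]
    module))
  refine ⟨a, g, by rw [e1, anti_iff, hab, neg_neg], ?_⟩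
  rw [e1]
  exact mul_inv_eq_iff_eq_mul.2 (Subtype.ext (by
    simp only [Matrix.SpecialLinearGroup.coe_mul, hg, smul_mul_assoc, mul_smul_comm, add_mul, mul_add, one_mul,
      mul_one, mul_assoc, aa, bb, ba, aa', bb', ba', mul_neg, neg_neg]
    module))

namespace SL

variable {α : SL(2, F) ≃* SL(2, F)} {g : GL (Fin 2) F} {τ : F ≃+* F}

theorem rep (α : SL(2, F) ≃* SL(2, F)) :
    ∃ (g : GL (Fin 2) F) (τ : F ≃+* F), ∀ s, α s = cjM g (G2I.smap τ s) := by
  obtain ⟨g, τ, h⟩ := Phan.exists_aut_sl2 α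
  exact ⟨g, τ, fun s => Subtype.ext (h s)⟩

theorem tG_pow (k : SL(2, F)) (n : ℕ) : tG (k ^ n) = tG k ^ n := map_pow _ _ _

theorem tG_mul (k l : SL(2, F)) : tG (k * l) = tG k * tG l := map_mul _ _ _

theorem tr_cjM (g : GL (Fin 2) F) (s : SL(2, F)) : tr (tG (cjM g s)) = tr (tG s) := by
  rw [tG_cjM, tr, Units.val_mul, Matrix.trace_mul_comm, ← Units.val_mul, inv_mul_cancel_left]

theorem tr_rep (h : ∀ s, α s = cjM g (G2I.smap τ s)) (s : SL(2, F)) : tr (tG (α s)) = τ (tr (tG s)) := by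
  rw [h, tr_cjM, tr, tr, Matrix.trace_fin_two, Matrix.trace_fin_two, map_add]; rfl

theorem ex_tr (x : F) : ∃ s : SL(2, F), tr (tG s) = x :=
  ⟨mkSL x (-1) 1 0 (by simp), by rw [tr, Matrix.trace_fin_two]; exact add_zero x⟩

theorem tau_one (h : ∀ s, α s = cjM g (G2I.smap τ s)) (ho : Odd (orderOf α)) (h2 : ∀ x, τ (τ x) = x) :
    τ = 1 := by
  have key : ∀ (n : ℕ) s, tr (tG ((α ^ (2 * n + 1)) s)) = τ (tr (tG s)) := fun n => by
    induction n with
    | zero => exact tr_rep h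
    | succ n ih =>
      intro s
      rw [show 2 * (n + 1) + 1 = 2 * n + 1 + 1 + 1 by ring, pow_succ', pow_succ', MulAut.mul_apply,
        MulAut.mul_apply, tr_rep h, tr_rep h, h2, ih]
  obtain ⟨n, hn⟩ := ho
  refine RingEquiv.ext fun x => ?_
  obtain ⟨s, rfl⟩ := ex_tr x
  rw [← key n, ← hn, pow_orderOf_eq_one]; rfl

theorem cj_pow (h : ∀ s, α s = cjM g s) (n : ℕ) (s : SL(2, F)) : (α ^ n) s = cjM (g ^ n) s := by
  induction n with
  | zero => rw [pow_zero, pow_zero, cjM_one]; rfl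
  | succ n ih => rw [pow_succ', pow_succ', MulAut.mul_apply, ih, h, cjM_mul]

theorem inner_of_sq (h : IsSquare (dt g)) : ∃ k : SL(2, F), ∀ a, cjM g a = k * a * k⁻¹ := by
  obtain ⟨c, k, rfl⟩ := exists_scal_mul h
  exact ⟨k, fun a => by rw [cjM_mul, cjM_scal (isScal_scalGL c), cjM_tG]⟩

theorem pm_of_conj (hF : Odd (Fintype.card F)) {k l : SL(2, F)} (h : ∀ a, k * a * k⁻¹ = l * a * l⁻¹) :
    k = l ∨ k = -l := by
  have : l⁻¹ * k ∈ center SL(2, F) := mem_center_iff.2 fun a => by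
    calc a * (l⁻¹ * k) = l⁻¹ * (l * a * l⁻¹) * k := by group
      _ = _ := by rw [← h]; group
  rcases (sl_mem_center hF).1 this with e | e
  · exact Or.inl (inv_mul_eq_one.1 e).symm
  · exact Or.inr (by rw [inv_mul_eq_iff_eq_mul.1 e, mul_neg, mul_one])

theorem inner_of_odd (hF : Odd (Fintype.card F)) (h : ∀ s, α s = cjM g s) (ho : Odd (orderOf α)) :
    ∃ k : SL(2, F), Odd (orderOf k) ∧ ∀ a, α a = k * a * k⁻¹ := by
  obtain ⟨c, hc⟩ := scal_of_eq (M := g ^ orderOf α) (N := 1) fun a => by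
    rw [← cj_pow h, pow_orderOf_eq_one, cjM_one]; rfl
  have h1 := congrArg dt hc
  obtain ⟨j, hj⟩ := ho
  rw [dt_scal, dt, dt, Units.val_pow_eq_pow_val, Matrix.det_pow, hj, Units.val_one, Matrix.det_one] at h1
  have h0 := dt_ne g
  obtain ⟨k, hk⟩ := inner_of_sq (g := g) ⟨c / dt g ^ j, by field_simp; linear_combination h1⟩
  have h2 := pm_of_conj hF (k := k ^ orderOf α) (l := 1) fun a => by
    rw [← cjM_tG, tG_pow, ← cj_pow (α := α) (fun s => by rw [h, hk, cjM_tG]), pow_orderOf_eq_one]; simp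
  have ho : Odd (orderOf α) := ⟨j, hj⟩
  rcases h2 with e | e
  · exact ⟨k, ho.of_dvd_nat (orderOf_dvd_of_pow_eq_one e), fun a => by rw [h, hk]⟩
  · exact ⟨-k, ho.of_dvd_nat (orderOf_dvd_of_pow_eq_one (by rw [ho.neg_pow, e, neg_neg])),
      fun a => by rw [h, hk]; simp⟩

theorem ex_tor (hM : tr M = 0) {x y : F} (h : x ^ 2 + y ^ 2 * dt M = 1) : ∃ c : SL(2, F),
    (c : Mat F) = x • (1 : Mat F) + y • (M : Mat F) ∧ tG c * M = M * tG c ∧ tr (tG c) = 2 * x := by
  have hM' : (M : Mat F).trace = 0 := hM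
  refine ⟨⟨x • (1 : Mat F) + y • (M : Mat F), by rw [det_comb, hM']; linear_combination h⟩, rfl,
    Units.ext ?_, (trace_comb _ _ _).trans (by rw [hM']; ring)⟩
  change (x • (1 : Mat F) + y • (M : Mat F)) * M = M * (x • (1 : Mat F) + y • (M : Mat F))
  simp [add_mul, mul_add]

theorem ex_tor' (hM : tr M = 0) {u : F} (h : 1 + dt M * u ^ 2 ≠ 0) : ∃ c : SL(2, F),
    (c : Mat F) = (2 / (1 + dt M * u ^ 2) - 1) • (1 : Mat F) + (2 * u / (1 + dt M * u ^ 2)) • (M : Mat F) ∧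
      tG c * M = M * tG c ∧ tr (tG c) = 2 * (2 / (1 + dt M * u ^ 2) - 1) :=
  ex_tor hM (by field_simp; ring)

open Polynomial in
theorem ex_u (h3 : 3 < Fintype.card F) (l : F) : ∃ u : F, u ≠ 0 ∧ 1 + l * u ^ 2 ≠ 0 := by
  by_contra! h
  have := eq_zero_of_natDegree_lt_card_of_eval_eq_zero (X * (1 + C l * X ^ 2) : F[X]) Function.injective_id
    (fun u => by by_cases e : u = 0 <;> simp [e, h]) (lt_of_le_of_lt (by compute_degree) h3)
  simpa using congrArg (eval 0) ((mul_eq_zero.1 this).resolve_left X_ne_zero)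

open Polynomial in
theorem ex_u' (h5 : 5 < Fintype.card F) (l : F) : ∃ u : F, u ≠ 0 ∧ 1 + l * u ^ 2 ≠ 0 ∧ 1 - l * u ^ 2 ≠ 0 := by
  by_contra! h
  have := eq_zero_of_natDegree_lt_card_of_eval_eq_zero (X * ((1 + C l * X ^ 2) * (1 - C l * X ^ 2)) : F[X])
    Function.injective_id (fun u => by
      by_cases e : u = 0 <;> by_cases e' : 1 + l * u ^ 2 = 0 <;> simp [e, e', h])
    (lt_of_le_of_lt (by compute_degree) h5)
  simpa using congrArg (eval 0) ((mul_eq_zero.1 this).resolve_left X_ne_zero)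

theorem pair_aux (hF : Odd (Fintype.card F)) {a b b' : SL(2, F)} (h : Anti (tG a) (tG b))
    (h' : Anti (tG a) (tG b')) (ne : tr (tG (b * b')) ≠ 2) : ∃ g, cjM g a = a ∧ cjM g b' = b := by
  have bb := sl_coe_sq (sq_iff.2 (tr_of_anti hF (anti_symm h)))
  have cc := sl_coe_sq (sq_iff.2 (tr_of_anti hF (anti_symm h')))
  have ba : (b : Mat F) * a = -((a : Mat F) * b) := anti_symm h
  have ca : (b' : Mat F) * a = -((a : Mat F) * b') := anti_symm h'
  refine ⟨Matrix.GeneralLinearGroup.mkOfDetNeZero ((1 : Mat F) - (b : Mat F) * b') fun e => ne ?_,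
    cjM_eq_iff'.2 ?_, cjM_eq_iff'.2 ?_⟩
  · have := det_comb ((b * b' : SL(2, F)) : Mat F) 1 (-1)
    rw [one_smul, neg_one_smul, ← sub_eq_add_neg, (b * b').det_coe, Matrix.SpecialLinearGroup.coe_mul, e] at this
    change ((b : Mat F) * b').trace = 2
    linear_combination this
  · change ((1 : Mat F) - (b : Mat F) * b') * a = a * ((1 : Mat F) - (b : Mat F) * b')
    rw [sub_mul, mul_sub, mul_assoc, ca, mul_neg, ← mul_assoc, ba]; simp [mul_assoc]
  · change ((1 : Mat F) - (b : Mat F) * b') * b' = b * ((1 : Mat F) - (b : Mat F) * b')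
    rw [sub_mul, mul_sub, mul_assoc, cc, ← mul_assoc, bb]; simp [add_comm]

theorem anti_map (α : SL(2, F) ≃* SL(2, F)) (hF : Odd (Fintype.card F)) {a b : SL(2, F)}
    (h : Anti (tG a) (tG b)) : Anti (tG (α a)) (tG (α b)) := by
  have h1 : α (-1) = -1 := by
    refine (Inv.SLF.eq_of_mul_self_eq_one (two hF) (by rw [← map_mul]; simp)).resolve_left fun e => ?_
    exact Inv.SLF.neg_one_ne_one (two hF) (α.map_eq_one_iff.1 e)
  rw [anti_iff] at h ⊢
  rw [← map_mul, h, ← neg_one_mul, map_mul, map_mul, h1, neg_one_mul]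

theorem pair_conj (hF : Odd (Fintype.card F)) {a b a' b' : SL(2, F)} (h : Anti (tG a) (tG b))
    (h' : Anti (tG a') (tG b')) : ∃ g, cjM g a' = a ∧ cjM g b' = b := by
  obtain ⟨k, hk⟩ := sl_conj hF (sq_iff.2 (tr_of_anti hF h')) (sq_iff.2 (tr_of_anti hF h))
  have h1 := anti_map (MulAut.conj k) hF h'
  rw [MulAut.conj_apply, MulAut.conj_apply, hk] at h1
  by_cases c : tr (tG (b * (k * b' * k⁻¹))) = 2
  · have h2 := anti_map (MulAut.conj a) hF h1
    rw [MulAut.conj_apply, MulAut.conj_apply, mul_inv_cancel_right] at h2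
    obtain ⟨g, e1, e2⟩ := pair_aux hF h h2 fun e => by
      rw [anti_iff.1 h1, neg_mul, mul_inv_cancel_right, mul_neg] at e
      have : tr (tG (-(b * (k * b' * k⁻¹)))) = -tr (tG (b * (k * b' * k⁻¹))) := Matrix.trace_neg _
      exact mul_ne_zero (two hF) (two hF) (by linear_combination this - e - c)
    exact ⟨g * tG a * tG k, by rw [cjM_mul, cjM_mul, cjM_tG, cjM_tG, hk, mul_inv_cancel_right, e1],
      by rw [cjM_mul, cjM_mul, cjM_tG, cjM_tG, e2]⟩
  · obtain ⟨g, e1, e2⟩ := pair_aux hF h h1 c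
    exact ⟨g * tG k, by rw [cjM_mul, cjM_tG, hk, e1], by rw [cjM_mul, cjM_tG, e2]⟩

theorem sqrt_of {h : SL(2, F)} (h1 : IsSquare (tr (tG h) + 2)) (h0 : tr (tG h) + 2 ≠ 0) :
    ∃ k : SL(2, F), k * k = h := by
  obtain ⟨s, hs⟩ := h1
  have s0 : s ≠ 0 := fun e => h0 (by rw [hs, e, mul_zero])
  have ht : (h : Mat F).trace = s * s - 2 := eq_sub_of_add_eq hs
  refine ⟨⟨s⁻¹ • (1 : Mat F) + s⁻¹ • (h : Mat F), by rw [det_comb, ht, h.det_coe]; field_simp; ring⟩,
    Subtype.ext ?_⟩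
  change (s⁻¹ • (1 : Mat F) + s⁻¹ • (h : Mat F)) * (s⁻¹ • (1 : Mat F) + s⁻¹ • (h : Mat F)) = h
  simp only [add_mul, mul_add, smul_mul_assoc, mul_smul_comm, one_mul, mul_one]
  rw [mul_self_eq, ht, h.det_coe]
  match_scalars <;> field_simp <;> ring

end SL

theorem aut_tor (hF : Odd (Fintype.card F)) (h3 : 3 < Fintype.card F) (α : SL(2, F) ≃* SL(2, F)) (ho : Odd (orderOf α))
    (hM : tr M = 0) (h1 : ∀ c, tG c * M = M * tG c → α c = c) :
    ∃ k : SL(2, F), Odd (orderOf k) ∧ tG k * M = M * tG k ∧ ∀ a, α a = k * a * k⁻¹ := by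
  obtain ⟨g, τ, hg⟩ := rep α
  have h2 := two hF
  have t2 : τ 2 = 2 := map_ofNat τ 2
  have hl : ∀ u : F, τ (dt M * u ^ 2) = dt M * u ^ 2 := fun u => by
    by_cases h0 : 1 + dt M * u ^ 2 = 0
    · rw [show dt M * u ^ 2 = -1 by linear_combination h0]; simp
    obtain ⟨c, -, hc, e⟩ := ex_tor' hM h0
    have := tr_rep hg c
    rw [h1 c hc, e, map_mul, t2, mul_right_inj' h2, map_sub, map_one, map_div₀, t2, sub_left_inj,
      div_eq_mul_inv, div_eq_mul_inv, mul_right_inj' h2, inv_inj, map_add, map_one] at this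
    exact (add_left_cancel this).symm
  have hsq : ∀ u : F, τ (u ^ 2) = u ^ 2 := fun u => by
    have := hl u
    rwa [map_mul, show τ (dt M) = dt M by simpa using hl 1, mul_right_inj' (dt_ne M)] at this
  obtain rfl : τ = 1 := RingEquiv.ext fun r => by
    have : r = ((r + 1) / 2) ^ 2 - ((r - 1) / 2) ^ 2 := by field_simp; ring
    rw [this, map_sub, hsq, hsq]; rfl
  obtain ⟨k, ok, hk⟩ := inner_of_odd hF (fun s => (hg s).trans (by rw [G2I.smap_one])) ho
  obtain ⟨u, u0, hu⟩ := ex_u h3 (dt M)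
  obtain ⟨c, e, hc, -⟩ := ex_tor' hM hu
  refine ⟨k, ok, Units.ext ?_, hk⟩
  have h5 : k * c = c * k := mul_inv_eq_iff_eq_mul.1 ((hk c).symm.trans (h1 c hc))
  have h4 : (k : Mat F) * c = c * k := congrArg Subtype.val h5
  rw [e, add_mul, mul_add, smul_mul_assoc, smul_mul_assoc, mul_smul_comm, mul_smul_comm, one_mul, mul_one,
    add_right_inj] at h4
  exact smul_right_injective _ (div_ne_zero (mul_ne_zero h2 u0) hu) h4

theorem aut_triv (hF : Odd (Fintype.card F)) (h3 : 3 < Fintype.card F) (α : SL(2, F) ≃* SL(2, F)) (ho : Odd (orderOf α))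
    (h : Anti M M') (h1 : ∀ c, tG c * M = M * tG c → α c = c)
    (h2 : ∀ a, α (cjM M' a) = cjM M' (α a)) (a : SL(2, F)) : α a = a := by
  obtain ⟨k, ok, e, hk⟩ := aut_tor hF h3 α ho (tr_of_anti hF h) h1
  rcases comm_or_anti hF (N := tG k) (tr_of_anti hF (anti_symm h))
    (fun a => by rw [cjM_tG, cjM_tG, ← hk, ← hk, h2]) with c | c
  · rcases isScal_sl_iff.1 (scal_of_comm hF h e c.symm) with rfl | rfl <;> simp [hk]
  · have := congrArg (· ^ orderOf k) (sq_iff.2 (tr_of_anti hF (anti_symm c)))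
    simp only [← sq, ← pow_mul, ok.neg_one_pow, mul_comm 2] at this
    rw [pow_mul, pow_orderOf_eq_one, one_pow] at this
    exact absurd this.symm (Inv.SLF.neg_one_ne_one (two hF))

theorem aut_inv (hF : Odd (Fintype.card F)) (α : SL(2, F) ≃* SL(2, F)) (ho : Odd (orderOf α))
    (h : ∀ a, α (cjM M (α a)) = cjM M a) :
    ∃ k : SL(2, F), Odd (orderOf k) ∧ ∀ a, α a = k * a * k⁻¹ := by
  obtain ⟨g, τ, hg⟩ := rep α
  obtain rfl := tau_one hg ho fun x => by
    obtain ⟨s, rfl⟩ := ex_tr x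
    rw [← tr_rep hg, ← tr_cjM M, ← tr_rep hg, h, tr_cjM]
  exact inner_of_odd hF (fun s => (hg s).trans (by rw [G2I.smap_one])) ho

theorem aut_ind (α : SL(2, F) ≃* SL(2, F)) (M : GL (Fin 2) F) : ∃ M' : GL (Fin 2) F,
    (∀ a, α (cjM M' a) = cjM M (α a)) ∧ (IsSquare (dt M') ↔ IsSquare (dt M)) := by
  obtain ⟨g, τ, hg⟩ := rep α
  refine ⟨G2I.gmap τ⁻¹ (g⁻¹ * M * g), fun a => ?_, ?_⟩
  · rw [hg, hg, G2I.smap_cjM, ← G2I.gmap_mul, mul_inv_cancel, G2I.gmap_one, ← cjM_mul, ← cjM_mul,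
      mul_assoc, mul_inv_cancel_left]
  · rw [dt, G2I.det_gmap, G2I.isSquare_map_iff, Units.val_mul, Matrix.det_mul_comm, ← Units.val_mul,
      mul_inv_cancel_left]

theorem aut_pair (hF : Odd (Fintype.card F)) (α : SL(2, F) ≃* SL(2, F)) (ho : Odd (orderOf α))
    {a b : SL(2, F)} (h : Anti (tG a) (tG b)) :
    ∃ k : SL(2, F), k * α a * k⁻¹ = a ∧ k * α b * k⁻¹ = b := by
  obtain ⟨m, hm⟩ := ho
  obtain ⟨β, hβ⟩ : ∃ β : SL(2, F) ≃* SL(2, F), ∀ x, β (β x) = α x := ⟨α ^ (m + 1), fun x => by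
    rw [← MulAut.mul_apply, ← pow_add, show m + 1 + (m + 1) = orderOf α + 1 by omega, pow_succ,
      pow_orderOf_eq_one, one_mul]⟩
  obtain ⟨g, e1, e2⟩ := pair_conj hF h (anti_map β hF h)
  obtain ⟨g', hg, d⟩ := aut_ind β.symm g
  obtain ⟨k, hk⟩ := inner_of_sq (g := g * g')
    (by rw [dt_mul]; exact (G2I.isSquare_mul_iff (dt_ne g) (dt_ne g')).2 d.symm)
  have key : ∀ x, cjM g (β x) = x → k * α x * k⁻¹ = x := fun x e => by
    have := hg (α x)
    rw [← hβ, β.symm_apply_apply, e, β.symm_apply_eq] at this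
    rw [← hk, cjM_mul, ← hβ, this, e]
  exact ⟨k, key a e1, key b e2⟩

theorem exists_odd_tor (hF : Odd (Fintype.card F)) (h3 : 3 < Fintype.card F) (hM : tr M = 0)
    (h : ¬ IsSquare (dt M) ∨ (Fintype.card F ≠ 5 ∧ ∀ a : SL(2, F), a * a * (a * a) ≠ -1)) :
    ∃ k : SL(2, F), k ≠ 1 ∧ Odd (orderOf k) ∧ tG k * M = M * tG k := by
  by_contra! H
  have h2 := two hF
  have pm := fun (c : SL(2, F)) => Inv.SLF.eq_of_mul_self_eq_one (g := c) h2
  have key : ∀ c : SL(2, F), tG c * M = M * tG c → ∃ n : ℕ, c ^ 2 ^ n = 1 := fun c hc => by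
    obtain ⟨n, hn⟩ := exists_pow_coprime (p := 2) c
    refine ⟨n, by_contra fun e => H _ e (Nat.coprime_two_right.1 hn) ?_⟩
    rw [tG_pow]; exact (Commute.pow_left hc _).eq
  have nsc : ∀ {u : F} {c : SL(2, F)} {x : F}, u ≠ 0 → 1 + dt M * u ^ 2 ≠ 0 →
      (c : Mat F) = x • (1 : Mat F) + (2 * u / (1 + dt M * u ^ 2)) • (M : Mat F) → c * c ≠ 1 :=
    fun u0 hu e cc => div_ne_zero (mul_ne_zero h2 u0) hu
      ((isScal_comb_iff (ns hF hM) _ _).1 (e ▸ isScal_sl_iff.2 (pm _ cc)))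
  rcases h with h | ⟨h5, h⟩
  · have ind : ∀ (n : ℕ) (c : SL(2, F)), tG c * M = M * tG c → c ^ 2 ^ n = 1 → c * c = 1 := fun n => by
      induction n with
      | zero => intro c _ e; rw [pow_zero, pow_one] at e; rw [e, one_mul]
      | succ n ih =>
        intro c hc e
        refine (pm _ (ih (c * c) (by rw [tG_mul]; exact (Commute.mul_left hc hc).eq)
          (by rw [← sq, ← pow_mul, ← pow_succ', e]))).resolve_right fun e' => h ?_
        obtain ⟨d, hd⟩ := eq_of_comm hF hM (sq_iff.1 e') hc.symm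
        have := congrArg dt hd
        rw [dt_scal, dt_tG] at this
        exact ⟨(d : F)⁻¹, by field_simp; linear_combination -this⟩
    obtain ⟨u, u0, hu⟩ := ex_u h3 (dt M)
    obtain ⟨c, e, hc, -⟩ := ex_tor' hM hu
    obtain ⟨n, hn⟩ := key c hc
    exact nsc u0 hu e (ind n c hc hn)
  · have ind : ∀ (n : ℕ) (c : SL(2, F)), c ^ 2 ^ n = 1 → c * c * (c * c) = 1 := fun n => by
      induction n with
      | zero => intro c e; rw [pow_zero, pow_one] at e; simp [e]
      | succ n ih =>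
        intro c e
        exact (pm _ (ih (c * c) (by rw [← sq, ← pow_mul, ← pow_succ', e]))).resolve_right (h c)
    obtain ⟨u, u0, hu, hu'⟩ := ex_u' (F := F) (by obtain ⟨j, hj⟩ := hF; omega) (dt M)
    obtain ⟨c, e, hc, t⟩ := ex_tor' hM hu
    obtain ⟨n, hn⟩ := key c hc
    rcases pm _ (ind n c hn) with cc | cc
    · exact nsc u0 hu e cc
    · rw [sq_iff.1 cc, eq_comm, mul_eq_zero, sub_eq_zero, div_eq_one_iff_eq hu] at t
      exact hu' (by linear_combination t.resolve_left h2)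

theorem aut_sqrt (hF : Odd (Fintype.card F)) (α : SL(2, F) ≃* SL(2, F)) {h : SL(2, F)} {n : ℕ}
    (h2 : h ^ 2 ^ (n + 1) = -1) (h1 : α h = h) (hα : ∀ a, α (α a) = h * a * h⁻¹)
    (hs : ∀ k : SL(2, F), k * k ≠ h ∧ k * k ≠ -h) :
    ∃ M : GL (Fin 2) F, (∀ a, α a = cjM M a) ∧ ¬ IsSquare (dt M) := by
  obtain ⟨g, τ, hg⟩ := rep α
  by_cases hτ : ∀ x, τ x = x
  · obtain rfl : τ = 1 := RingEquiv.ext hτ
    simp only [G2I.smap_one] at hg
    refine ⟨g, hg, fun sq => ?_⟩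
    obtain ⟨k, hk⟩ := inner_of_sq sq
    exact (pm_of_conj hF (k := k * k) (l := h) fun a => by rw [← hα, hg, hg, hk, hk]; group).elim
      (hs k).1 (hs k).2
  exfalso
  have U : Cl.UInvol (τ : F →+* F) := ⟨fun x => by
    obtain ⟨s, rfl⟩ := ex_tr x
    change τ (τ _) = _
    rw [← tr_rep hg, ← tr_rep hg, hα, ← cjM_tG, tr_cjM], not_forall.1 hτ⟩
  by_cases h0 : tr (tG h) + 2 = 0
  · have e : tr (tG (-h)) + 2 = 2 * 2 := by
      rw [show tr (tG (-h)) = -tr (tG h) from Matrix.trace_neg _]; linear_combination -h0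
    obtain ⟨k, hk⟩ := sqrt_of (h := -h) ⟨2, e⟩ (e ▸ mul_ne_zero (two hF) (two hF))
    exact (hs k).2 hk
  obtain ⟨b, hb⟩ := U.exists_norm_eq (a := tr (tG h) + 2) (by
    change τ _ = _
    rw [map_add, ← tr_rep hg, h1, map_ofNat])
  obtain ⟨k, hk⟩ := sqrt_of (h := h) (by
    rw [← hb, mul_comm]
    exact G2I.isSquare_map_mul τ fun e => h0 (by rw [← hb, e, zero_mul])) h0
  exact (hs k).1 hk

end Cfsg.Agent.L4
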