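import Mathlib
import Cfsg.Agent.L4.SL

/-! Basic facts on `Cz`. -/

set_option autoImplicit false
set_option linter.unusedSectionVars false

namespace Cfsg.Agent.L4

open Cfsg.Agent.Loc.Mss Cfsg.Agent.GW Subgroup Cfsg.Agent.P4 Cfsg.Agent.G2T Cfsg.Agent.Cl.GL2
open scoped MatrixGroups

variable {G : Type*} [Group G] {F : Type} [Field F] [Fintype F]

namespace Cz

variable {σ : SL(2, F) →* G} {s : G} (h : Cz σ s) {g g' f b c t t' : G} {M M' N : GL (Fin 2) F}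
include h

theorem two_ne : (2 : F) ≠ 0 := Inv.SLF.two_ne_zero_of_odd h.odd

theorem s_inv : s⁻¹ = s := inv_eq_of_mul_eq_one_right h.ss

theorem zz : σ (-1) * σ (-1) = 1 := by rw [← map_mul]; simp

theorem z_inv : (σ (-1))⁻¹ = σ (-1) := inv_eq_of_mul_eq_one_right h.zz

theorem z_ne : σ (-1) ≠ 1 := fun e => Inv.SLF.neg_one_ne_one h.two_ne (h.inj (by rw [e, map_one]))

theorem tw_z : tw σ s (-1) = σ (-1) := by rw [tw_apply, h.sz.eq, mul_inv_cancel_right]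

theorem σ_neg (a : SL(2, F)) : σ (-a) = σ (-1) * σ a := by rw [← map_mul]; simp

theorem tw_neg (a : SL(2, F)) : tw σ s (-a) = σ (-1) * tw σ s a := by rw [Cx.σ_neg, h.tw_z]

theorem σ_z (a : SL(2, F)) : Commute (σ a) (σ (-1)) := Commute.map (by simp [Commute, SemiconjBy]) σ

theorem tw_z' (a : SL(2, F)) : Commute (tw σ s a) (σ (-1)) := h.tw_z ▸ Cx.σ_z a

theorem conj_tw (a : SL(2, F)) : s * tw σ s a * s⁻¹ = σ a := by
  rw [tw_apply, h.s_inv]
  calc s * (s * σ a * s) * s = s * s * σ a * (s * s) := by group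
    _ = σ a := by rw [h.ss]; simp

theorem tw_tw : tw (tw σ s) s = σ := MonoidHom.ext h.conj_tw

theorem s_σ (a : SL(2, F)) : s * σ a = tw σ s a * s := by rw [tw_apply]; group

theorem s_tw (a : SL(2, F)) : s * tw σ s a = σ a * s := by rw [← h.conj_tw]; group

theorem tw_inj : Function.Injective (tw σ s) := (MulAut.conj s).injective.comp h.inj

theorem mul_mul (a b c d : SL(2, F)) :
    σ a * tw σ s b * (σ c * tw σ s d) = σ (a * c) * tw σ s (b * d) := by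
  rw [map_mul, map_mul, mul_assoc, ← mul_assoc (tw σ s b), ← (h.comm c b).eq]; group

theorem mul_inv (a b : SL(2, F)) : (σ a * tw σ s b)⁻¹ = σ a⁻¹ * tw σ s b⁻¹ :=
  inv_eq_of_mul_eq_one_right (by rw [h.mul_mul]; simp)

theorem conj_s (a b : SL(2, F)) : s * (σ a * tw σ s b) * s⁻¹ = σ b * tw σ s a := by
  rw [(h.comm b a).eq, ← h.conj_tw b, tw_apply σ s a]; group

theorem eq_one_iff {a b : SL(2, F)} :
    σ a * tw σ s b = 1 ↔ (a = 1 ∧ b = 1) ∨ (a = -1 ∧ b = -1) := by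
  refine ⟨fun e => ?_, ?_⟩
  · have e' : σ a = tw σ s b⁻¹ := by rw [map_inv]; exact eq_inv_of_mul_eq_one_left e
    rcases sl_center h.two_ne (a := a) (fun c => h.inj (by
      rw [map_mul, map_mul, e']; exact (h.comm c _).eq)) with rfl | rfl
    · exact Or.inl ⟨rfl, h.tw_inj (by simpa using e)⟩
    · refine Or.inr ⟨rfl, h.tw_inj ?_⟩
      rw [h.tw_z, ← h.z_inv]; exact eq_inv_of_mul_eq_one_right e
  · rintro (⟨rfl, rfl⟩ | ⟨rfl, rfl⟩)
    · simp
    · rw [h.tw_z, h.zz]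

theorem eq_iff {a b c d : SL(2, F)} :
    σ a * tw σ s b = σ c * tw σ s d ↔ (a = c ∧ b = d) ∨ (a = -c ∧ b = -d) := by
  rw [← mul_inv_eq_one, h.mul_inv, h.mul_mul, h.eq_one_iff, mul_inv_eq_one, mul_inv_eq_one,
    mul_inv_eq_iff_eq_mul, mul_inv_eq_iff_eq_mul, neg_one_mul, neg_one_mul]

theorem neg_left (a b : SL(2, F)) : σ (-a) * tw σ s b = σ a * tw σ s b * σ (-1) := by
  rw [h.σ_neg, mul_assoc, ← ((h.σ_z a).mul_left (h.tw_z' b)).eq]

theorem neg_right (a b : SL(2, F)) : σ a * tw σ s (-b) = σ a * tw σ s b * σ (-1) := by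
  rw [h.tw_neg, ← (h.tw_z' b).eq, mul_assoc]

theorem K_z (a b : SL(2, F)) : Commute (σ a * tw σ s b) (σ (-1)) := (h.σ_z a).mul_left (h.tw_z' b)

theorem not_comm : ¬ ∀ a b : SL(2, F), a * b = b * a := fun hc => by
  rcases sl_center h.two_ne (a := Inv.SLF.w0 F) (fun b => hc _ _) with e | e <;>
    have := Inv.SLF.w0_mul_self (F := F) <;> rw [e] at this <;>
    exact Inv.SLF.neg_one_ne_one h.two_ne (by simpa using this.symm)

theorem s_not_mem : s ∉ 𝐍[σ.range] := fun hs => h.not_comm fun a b => by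
  obtain ⟨c, hc⟩ := conj_mem_of_norm' hs (show σ b ∈ σ.range from ⟨b, rfl⟩)
  refine h.inj ?_
  have : tw σ s c = σ b := by rw [tw_apply, hc]; group
  rw [map_mul, map_mul, ← this, (h.comm a c).eq]

theorem range_tw : (tw σ s).range = cj(s, σ.range) := by rw [tw, MonoidHom.range_comp]

theorem z_of_norm (hg : g ∈ 𝐍[σ.range]) : Commute g (σ (-1)) := by
  obtain ⟨c, hc⟩ := conj_mem_of_norm hg (show σ (-1) ∈ σ.range from ⟨_, rfl⟩)
  rcases Inv.SLF.eq_of_mul_self_eq_one h.two_ne (g := c) (h.inj (by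
    rw [map_mul, hc, conj_mul, h.zz]; simp)) with rfl | rfl
  · exact absurd (by simpa using hc.symm) h.z_ne
  · exact (mul_inv_eq_iff_eq_mul.1 hc.symm)

theorem conj_norm (hg : g ∈ 𝐍[σ.range]) : s * g * s⁻¹ ∈ 𝐍[σ.range] := by
  refine (h.nrm _ ((h.sz.mul_left (h.z_of_norm hg)).mul_left h.sz.inv_left)).resolve_right
    fun e => h.s_not_mem ?_
  simpa using mul_mem e (inv_mem hg)

theorem norm_tw : g ∈ 𝐍[(tw σ s).range] ↔ g ∈ 𝐍[σ.range] := by
  rw [h.range_tw, ← cj_norm, mem_cj]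
  refine ⟨fun e => by simpa [mul_assoc] using h.conj_norm e, fun e => ?_⟩
  simpa [h.s_inv] using h.conj_norm e

theorem σ_norm (a : SL(2, F)) : σ a ∈ 𝐍[σ.range] := le_normalizer ⟨a, rfl⟩

theorem tw_norm (a : SL(2, F)) : tw σ s a ∈ 𝐍[σ.range] := h.norm_tw.1 (le_normalizer ⟨a, rfl⟩)

theorem K_norm (a b : SL(2, F)) : σ a * tw σ s b ∈ 𝐍[σ.range] :=
  mul_mem (h.σ_norm a) (h.tw_norm b)

theorem not_norm_iff (hg : Commute g (σ (-1))) :
    g ∉ 𝐍[σ.range] ↔ g * s ∈ 𝐍[σ.range] :=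
  ⟨(h.nrm g hg).resolve_left, fun e e' => h.s_not_mem (by simpa using mul_mem (inv_mem e') e)⟩

theorem mul_norm (hg : Commute g (σ (-1))) (hg' : Commute g' (σ (-1)))
    (n : g ∉ 𝐍[σ.range]) (n' : g' ∉ 𝐍[σ.range]) : g * g' ∈ 𝐍[σ.range] := by
  have := mul_mem ((h.not_norm_iff hg).1 n) (h.conj_norm ((h.not_norm_iff hg').1 n'))
  rwa [show g * s * (s * (g' * s) * s⁻¹) = g * (s * s) * g' by group, h.ss, mul_one] at this

theorem norm_of_odd (hg : Commute g (σ (-1))) (ho : Odd (orderOf g)) :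
    g ∈ 𝐍[σ.range] := by
  by_contra n
  exact n (mem_of_pow_mem (p := 2) (k := 1) (Nat.coprime_two_right.2 ho)
    (by simpa [sq] using h.mul_norm hg hg n n))

/-- `N₀` is normal in `C(z)`. -/
theorem conj_norm' (hg : Commute g (σ (-1))) (hg' : g' ∈ 𝐍[σ.range]) :
    g * g' * g⁻¹ ∈ 𝐍[σ.range] := by
  rcases h.nrm g hg with e | e
  · exact mul_mem (mul_mem e hg') (inv_mem e)
  · convert mul_mem (mul_mem e (h.conj_norm hg')) (inv_mem e) using 1
    rw [mul_inv_rev, h.s_inv]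
    calc _ = g * (s * s) * g' * (s * s) * g⁻¹ := by rw [h.ss, mul_one, mul_one]
      _ = _ := by group

theorem dj_mul (a b : SL(2, F)) : dj σ s (a * b) = dj σ s a * dj σ s b := (h.mul_mul a a b b).symm

theorem dj_inv (a : SL(2, F)) : dj σ s a⁻¹ = (dj σ s a)⁻¹ := (h.mul_inv a a).symm

theorem dj_neg (a : SL(2, F)) : dj σ s (-a) = dj σ s a := h.eq_iff.2 (Or.inr ⟨rfl, rfl⟩)

theorem dj_eq_iff {a b : SL(2, F)} : dj σ s a = dj σ s b ↔ a = b ∨ a = -b := by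
  simp [dj, h.eq_iff]

theorem dj_eq_one {a : SL(2, F)} : dj σ s a = 1 ↔ a = 1 ∨ a = -1 := by
  simp [dj, h.eq_one_iff]

theorem dj_z (a : SL(2, F)) : Commute (dj σ s a) (σ (-1)) := h.K_z a a

theorem dj_s (a : SL(2, F)) : Commute (dj σ s a) s :=
  (mul_inv_eq_iff_eq_mul.1 (h.conj_s a a)).symm

theorem dj_sq {a : SL(2, F)} (ha : a * a = -1) : dj σ s a * dj σ s a = 1 := by
  rw [← h.dj_mul, ha, h.dj_eq_one]; exact .inr rfl

theorem dj_conj (a b : SL(2, F)) :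
    dj σ s a * dj σ s b * (dj σ s a)⁻¹ = dj σ s (a * b * a⁻¹) := by
  rw [h.dj_mul, h.dj_mul, h.dj_inv]

theorem ind_K (a b : SL(2, F)) : Ind σ (σ a * tw σ s b) (tG a) := by
  simpa using (Ind.map σ a).mul (Ind.of_comm (M := 1) (fun x => (h.comm x b).eq.symm) isScal_one)

theorem ind_K' (a b : SL(2, F)) : Ind (tw σ s) (σ a * tw σ s b) (tG b) := by
  simpa using (Ind.of_comm (M := 1) (fun x => (h.comm a x).eq) isScal_one).mul (Ind.map (tw σ s) b)

/-- An element commuting with the swap acts in the same way on both factors. -/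
theorem ind_tw (hs : Commute g s) (e : Ind σ g M) : Ind (tw σ s) g M := fun a => by
  rw [tw_apply, tw_apply, ← e, ← mul_assoc, ← mul_assoc, hs.eq, mul_assoc _ s⁻¹, hs.symm.inv_inv.eq]; group

theorem norm_of_ind (e : Ind σ g M) : g ∈ 𝐍[σ.range] := mem_normalizer_iff.2 fun x =>
  ⟨fun ⟨a, ha⟩ => ⟨cjM M a, by rw [← ha, e]⟩, fun ⟨a, ha⟩ => ⟨cjM M⁻¹ a, by rw [← e.inv, ha]; group⟩⟩

theorem Zt_le : Zt σ s ≤ 𝐍[σ.range] := inf_le_left.trans (cent_le_norm _)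

theorem z_mem_Zt : σ (-1) ∈ Zt σ s := mem_Zt.2 ⟨fun a => (h.σ_z a).symm, fun a => (h.tw_z' a).symm⟩

theorem Zt_comm (hb : b ∈ Zt σ s) (hc : c ∈ Zt σ s) : Commute b c := by
  have k := h.inv s h.ss h.sz h.s_not_mem
  have e := k _ (mul_mem hb hc)
  rw [← conj_mul, k b hb, k c hc, ← mul_inv_rev, inv_inj] at e
  exact e.symm

theorem Zt_symm : Zt (tw σ s) s = Zt σ s := by rw [Zt, h.tw_tw, inf_comm]; rfl

theorem K_mem_Zt {a b : SL(2, F)} (e : σ a * tw σ s b ∈ Zt σ s) :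
    (a = 1 ∨ a = -1) ∧ (b = 1 ∨ b = -1) := by
  obtain ⟨e1, e2⟩ := mem_Zt.1 e
  refine ⟨sl_center h.two_ne fun x => ?_, sl_center h.two_ne fun x => ?_⟩
  · have := h.inj (((h.ind_K a b) x).symm.trans (mul_inv_eq_iff_eq_mul.2 (e1 x).eq))
    rw [cjM_tG, mul_inv_eq_iff_eq_mul] at this
    exact this.symm
  · have := h.tw_inj (((h.ind_K' a b) x).symm.trans (mul_inv_eq_iff_eq_mul.2 (e2 x).eq))
    rw [cjM_tG, mul_inv_eq_iff_eq_mul] at this
    exact this.symm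

omit h in
theorem tw_conj (g : G) : tw (cjh g σ) (g * s * g⁻¹) = cjh g (tw σ s) :=
  MonoidHom.ext fun a => by simp only [tw_apply, cjh_apply]; group

theorem Zt_conj (g : G) : Zt (cjh g σ) (g * s * g⁻¹) = cj(g, Zt σ s) := by
  rw [Zt, Zt, tw_conj, cj_inf, cj_cent, cj_cent, MonoidHom.range_comp, MonoidHom.range_comp]

theorem conj (g : G) : Cz (cjh g σ) (g * s * g⁻¹) := by
  have S : ∀ {P : G → Prop}, (∀ x, P (g * x * g⁻¹)) → ∀ x, P x := fun k x => by simpa [mul_assoc] using k (g⁻¹ * x * g)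
  have N : ∀ x, g * x * g⁻¹ ∈ 𝐍[(cjh g σ).range] ↔ x ∈ 𝐍[σ.range] := fun x => by
    rw [MonoidHom.range_comp, ← cj_norm, mem_cj]; simp [mul_assoc]
  have Z : ∀ x, g * x * g⁻¹ ∈ Zt (cjh g σ) (g * s * g⁻¹) ↔ x ∈ Zt σ s := fun x => by
    rw [h.Zt_conj, mem_cj]; simp [mul_assoc]
  have I : ∀ {φ : SL(2, F) →* G} {x M}, Ind φ x M → Ind (cjh g φ) (g * x * g⁻¹) M := fun e a => by
    rw [cjh_apply, cjh_apply, ← e]; group
  have C : ∀ x y, Commute (g * x * g⁻¹) (g * y * g⁻¹) ↔ Commute x y := fun _ _ => Commute.conj_iff g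
  have E : ∀ x, g * x * g⁻¹ * (g * x * g⁻¹) = 1 ↔ x * x = 1 := fun x => by rw [conj_mul, conj_eq_one_iff]
  exact
  { odd := h.odd
    big := h.big
    inj := (MulAut.conj g).injective.comp h.inj
    ss := (E s).2 h.ss
    sz := (C _ _).2 h.sz
    comm := fun a b => by rw [tw_conj]; exact (C _ _).2 (h.comm a b)
    nrm := S fun x hx => by rw [conj_mul, N, N]; exact h.nrm x ((C _ _).1 hx)
    gl := S fun x hx => by
      obtain ⟨m, hm, M, N', e1, e2, e3⟩ := h.gl x ((N x).1 hx)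
      exact ⟨m, hm, M, N', by rw [conj_pow]; exact I e1, by rw [tw_conj, conj_pow]; exact I e2, e3⟩
    uniq := S fun x hx e => (h.uniq x ((Z x).1 hx) ((E x).1 e)).imp (fun e => by simp [e]) fun e => by rw [e]; rfl
    inv := S fun x e1 e2 e3 => S fun y hy => by
      rw [conj_inv, conj_inv, conj_mul, conj_mul,
        h.inv x ((E x).1 e1) ((C _ _).1 e2) (mt (N x).2 e3) y ((Z y).1 hy)]
    two := S fun x hx ⟨n, e⟩ => S fun y hy => (C _ _).2
      (h.two x ((N x).1 hx) ⟨n, by rwa [conj_pow, conj_eq_one_iff] at e⟩ y ((Z y).1 hy))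
    out := by
      obtain ⟨f, f', e1, e2, e3, e4, e5, e6, M, e7, e8⟩ := h.out
      exact ⟨_, _, (E f).2 e1, (C _ _).2 e2, mt (N f).1 e3, (E f').2 e4, (C _ _).2 e5, mt (N f').1 e6, M,
        by rw [conj_mul]; exact I e7, e8⟩ }

variable [Finite G]

/-- The automorphism of the first factor induced by an element of its normalizer. -/
theorem exists_aut (hg : g ∈ 𝐍[σ.range]) :
    ∃ α : SL(2, F) ≃* SL(2, F), ∀ a, g * σ a * g⁻¹ = σ (α a) := by
  choose α hα using fun a => conj_mem_of_norm hg (show σ a ∈ σ.range from ⟨a, rfl⟩)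
  have hi : Function.Injective α := fun a b e =>
    h.inj ((MulAut.conj g).injective ((hα a).symm.trans (e ▸ hα b)))
  exact ⟨MulEquiv.ofBijective (MonoidHom.mk' α fun a b => h.inj (by
    rw [map_mul, hα, hα, hα, map_mul, conj_mul])) (Finite.injective_iff_bijective.1 hi),
    fun a => (hα a).symm⟩

theorem exists_aut_odd (hg : Commute g (σ (-1))) (ho : Odd (orderOf g)) :
    ∃ α : SL(2, F) ≃* SL(2, F), Odd (orderOf α) ∧ ∀ a, g * σ a * g⁻¹ = σ (α a) := by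
  obtain ⟨α, hα⟩ := h.exists_aut (h.norm_of_odd hg ho)
  have k : ∀ (n : ℕ) a, g ^ n * σ a * (g ^ n)⁻¹ = σ ((α ^ n) a) := fun n => by
    induction n with
    | zero => simp
    | succ n ih => intro a; rw [pow_succ α, MulAut.mul_apply, ← ih, ← hα, pow_succ]; group
  refine ⟨α, ho.of_dvd_nat (orderOf_dvd_of_pow_eq_one (MulEquiv.ext fun a => h.inj ?_)), hα⟩
  rw [← k, pow_orderOf_eq_one]; simp

theorem symm : Cz (tw σ s) s := by
  have := h.conj s
  rwa [mul_inv_cancel_right] at this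

theorem cj_swap (hg : Commute g (σ (-1))) (n : g ∉ 𝐍[σ.range]) :
    cj(g, σ.range) = (tw σ s).range ∧ cj(g, (tw σ s).range) = σ.range := by
  have e := (h.not_norm_iff hg).1 n
  have e' : g = g * s * s := by rw [mul_assoc, h.ss, mul_one]
  constructor
  · rw [e', ← cj_cj, ← h.range_tw, cj_of_norm (h.norm_tw.2 e)]
  · rw [e', ← cj_cj, ← h.symm.range_tw, h.tw_tw, cj_of_norm e]

theorem range_tw_eq (hf : Commute f (σ (-1))) (n : f ∉ 𝐍[σ.range]) :
    (tw σ f).range = (tw σ s).range := by rw [← (h.cj_swap hf n).1, tw, MonoidHom.range_comp]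

theorem Zt_eq (hf : Commute f (σ (-1))) (n : f ∉ 𝐍[σ.range]) : Zt σ f = Zt σ s := by
  rw [Zt, h.range_tw_eq hf n]; rfl

theorem norm_Zt (hg : Commute g (σ (-1))) : g ∈ 𝐍[Zt σ s] := by
  rw [← cj_eq_iff, Zt, cj_inf, cj_cent, cj_cent]
  by_cases n : g ∈ 𝐍[σ.range]
  · rw [cj_of_norm n, cj_of_norm (h.norm_tw.2 n)]
  · rw [(h.cj_swap hg n).1, (h.cj_swap hg n).2, inf_comm]

theorem rebase (ff : f * f = 1) (hf : Commute f (σ (-1))) (n : f ∉ 𝐍[σ.range]) : Cz σ f := by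
  obtain ⟨β, hβ⟩ := h.symm.exists_aut (h.norm_tw.2 ((h.not_norm_iff hf).1 n))
  have e : ∀ a, tw σ f a = tw σ s (β a) := fun a => by rw [← hβ, tw_apply σ f, ← h.conj_tw a]; group
  exact
  { h with
    ss := ff
    sz := hf
    comm := fun a b => e b ▸ h.comm a _
    nrm := fun g hg => or_iff_not_imp_left.2 fun m => h.mul_norm hg hf m n
    gl := fun g hg => by
      obtain ⟨m, hm, M, N, e1, e2, e3⟩ := h.gl g hg
      obtain ⟨N', e4, e5⟩ := aut_ind β N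
      refine ⟨m, hm, M, N', e1, fun a => by rw [e, e, e2, e4], ?_⟩
      rwa [G2I.isSquare_mul_iff (SL.dt_ne _) (SL.dt_ne _), e5, ← G2I.isSquare_mul_iff (SL.dt_ne _) (SL.dt_ne _)]
    uniq := h.Zt_eq hf n ▸ h.uniq
    inv := h.Zt_eq hf n ▸ h.inv
    two := h.Zt_eq hf n ▸ h.two }

theorem ind2 (hg : g ∈ 𝐍[σ.range]) (h2 : ∃ n : ℕ, g ^ 2 ^ n = 1) :
    ∃ M N, Ind σ g M ∧ Ind (tw σ s) g N ∧ IsSquare (dt M * dt N) := by
  obtain ⟨n, hn⟩ := h2
  obtain ⟨m, hm, M, N, e1, e2, e3⟩ := h.gl g hg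
  obtain ⟨j, hj⟩ := exists_pow_eq_self_of_coprime (x := g) (n := m)
    (((Nat.coprime_two_right.2 hm).pow_right n).coprime_dvd_right (orderOf_dvd_of_pow_eq_one hn))
  refine ⟨_, _, hj ▸ e1.pow j, hj ▸ e2.pow j, ?_⟩
  rw [dt, dt, Units.val_pow_eq_pow_val, Units.val_pow_eq_pow_val, Matrix.det_pow, Matrix.det_pow, ← mul_pow]
  exact e3.pow j

theorem ind_inv (hg : g ∈ 𝐍[σ.range]) (gg : g * g = 1) :
    ∃ M N, Ind σ g M ∧ Ind (tw σ s) g N ∧ IsSquare (dt M * dt N) := h.ind2 hg ⟨1, by simpa [sq] using gg⟩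

theorem eq_K (e1 : Ind σ g M) (e2 : Ind (tw σ s) g N) (h1 : IsSquare (dt M)) (h2 : IsSquare (dt N)) :
    ∃ a b, ∃ c ∈ Zt σ s, g = σ a * tw σ s b * c := by
  obtain ⟨x, a, rfl⟩ := exists_scal_mul h1
  obtain ⟨y, b, rfl⟩ := exists_scal_mul h2
  refine ⟨a, b, _, mem_Zt.2 ⟨fun c => ?_, fun c => ?_⟩, (mul_inv_cancel_left _ g).symm⟩
  · exact ((h.ind_K a b).inv.mul (e1.of_scal_mul (isScal_scalGL x))).comm_of_scal
      (by rw [inv_mul_cancel]; exact isScal_one) c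
  · exact ((h.ind_K' a b).inv.mul (e2.of_scal_mul (isScal_scalGL y))).comm_of_scal
      (by rw [inv_mul_cancel]; exact isScal_one) c

/-- A 2-element centralizing `K₁`. -/
theorem eq_tw (hg : ∀ a, Commute g (σ a)) (h2 : ∃ n : ℕ, g ^ 2 ^ n = 1) :
    ∃ b, ∃ c ∈ Zt σ s, g = tw σ s b * c := by
  obtain ⟨M, N, e1, e2, e3⟩ := h.ind2 (h.norm_of_ind (Ind.of_comm (M := 1) hg isScal_one)) h2
  obtain ⟨y, b, rfl⟩ := exists_scal_mul (((G2I.isSquare_mul_iff (SL.dt_ne _) (SL.dt_ne _)).1 e3).1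
    (isSquare_det_of_scal (e1.isScal h.inj hg)))
  refine ⟨b, _, mem_Zt.2 ⟨fun c => (h.comm c b).symm.inv_left.mul_left (hg c), fun c => ?_⟩,
    (mul_inv_cancel_left _ g).symm⟩
  exact ((Ind.map (tw σ s) b).inv.mul (e2.of_scal_mul (isScal_scalGL y))).comm_of_scal
    (by rw [inv_mul_cancel]; exact isScal_one) c

theorem mem_Zt_of_swap (hf : Commute f (σ (-1))) (n : f ∉ 𝐍[σ.range]) (e : Commute b f)
    (hb : ∀ a, Commute b (σ a)) : b ∈ Zt σ s :=
  h.Zt_eq hf n ▸ mem_Zt.2 ⟨hb, fun a => (e.mul_right (hb a)).mul_right e.inv_right⟩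

theorem mem_Zt_of_swap' (hf : Commute f (σ (-1))) (n : f ∉ 𝐍[σ.range]) (e : Commute b f)
    (hb : ∀ a, Commute b (tw σ s a)) : b ∈ Zt σ s :=
  h.Zt_symm ▸ h.symm.mem_Zt_of_swap (h.tw_z ▸ hf) (mt h.norm_tw.1 n) e hb

theorem tr_zero (bb : b * b = 1) (e : Ind σ b M) (n : ¬ ∀ a, Commute b (σ a)) : tr M = 0 :=
  trace_eq_zero_of_sq ((e.mul e).isScal h.inj (by simp [bb])) fun m => n (e.comm_of_scal m)

end Cz

end Cfsg.Agent.L4
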