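import Mathlib
import Cfsg.Agent.L4.BasicA

/-! Basic facts on `Cz`: involutions of `N₀`, the `A₄` test, two-balance. -/

set_option autoImplicit false
set_option linter.unusedSectionVars false

namespace Cfsg.Agent.L4

open Cfsg.Agent.Loc.Mss Cfsg.Agent.GW Subgroup Cfsg.Agent.P4 Cfsg.Agent.G2T Cfsg.Agent.Cl.GL2
open scoped MatrixGroups

variable {G : Type*} [Group G] {F : Type} [Field F] [Fintype F]

namespace BasB

variable {φ : SL(2, F) →* G} {u v w : G} {M N : GL (Fin 2) F}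

theorem ind_comm (hF : Odd (Fintype.card F)) (hφ : Function.Injective φ) (e : Ind φ u M)
    (e' : Ind φ w N) (c : Commute u w) (hM : tr M = 0) : M * N = N * M ∨ Anti M N :=
  comm_or_anti hF hM fun a => hφ (by
    rw [← cjM_mul, ← cjM_mul, ← e.mul e', ← e'.mul e, c.eq])

theorem ind_mul_cen (e : Ind φ u M) (c : ∀ a, Commute w (φ a)) : Ind φ (u * w) M := by
  simpa using e.mul (Ind.of_comm (M := 1) (fun a => (c a).eq) isScal_one)

theorem cen_of_ind (e : Ind φ u M) (e' : Ind φ w M) (a : SL(2, F)) : Commute (u * w⁻¹) (φ a) :=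
  (e.mul e'.inv).comm_of_scal (by rw [mul_inv_cancel]; exact isScal_one) a

theorem cen_of_comm (hF : Odd (Fintype.card F)) (e : Ind φ u M) (e' : Ind φ w N) (hM : tr M = 0)
    (hN : tr N = 0) (c : M * N = N * M) (ww : w * w = 1) (a : SL(2, F)) : Commute (u * w) (φ a) := by
  obtain ⟨k, rfl⟩ := eq_of_comm hF hM hN c
  have := cen_of_ind e (e'.of_scal_mul (isScal_scalGL k)) a
  rwa [inv_eq_of_mul_eq_one_right ww] at this

theorem four (hF : Odd (Fintype.card F)) (hφ : Function.Injective φ) {W : GL (Fin 2) F}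
    (eu : Ind φ u M) (ev : Ind φ v N) (ew : Ind φ w W) (h : Anti M N) (cu : Commute u w)
    (cv : Commute v w) : (∀ a, Commute w (φ a)) ∨ (∀ a, Commute (w * u) (φ a)) ∨
      (∀ a, Commute (w * v) (φ a)) ∨ ∀ a, Commute (w * u * v) (φ a) := by
  have h0 : (M : Mat F) * N = -(N * M) := h
  rcases ind_comm hF hφ eu ew cu (tr_of_anti hF h) with a | a <;>
    rcases ind_comm hF hφ ev ew cv (tr_of_anti hF (SL.anti_symm h)) with b | b
  · exact Or.inl (ew.comm_of_scal (scal_of_comm hF h a.symm b.symm))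
  · refine Or.inr (Or.inl ((ew.mul eu).comm_of_scal (scal_of_comm hF h
      (by rw [← mul_assoc, a]) (Units.ext ?_))))
    have b0 : (N : Mat F) * W = -(W * N) := b
    simp only [Units.val_mul]
    linear_combination (norm := noncomm_ring) (W : Mat F) * h0 - b0 * (M : Mat F)
  · refine Or.inr (Or.inr (Or.inl ((ew.mul ev).comm_of_scal (scal_of_comm hF h (Units.ext ?_)
      (by rw [← mul_assoc, b])))))
    have a0 : (M : Mat F) * W = -(W * M) := a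
    simp only [Units.val_mul]
    linear_combination (norm := noncomm_ring) (W : Mat F) * h0 - a0 * (N : Mat F)
  · have a0 : (M : Mat F) * W = -(W * M) := a
    have b0 : (N : Mat F) * W = -(W * N) := b
    refine Or.inr (Or.inr (Or.inr (((ew.mul eu).mul ev).comm_of_scal
      (scal_of_comm hF h (Units.ext ?_) (Units.ext ?_))))) <;> simp only [Units.val_mul]
    · linear_combination (norm := noncomm_ring) (W * M : Mat F) * h0 - a0 * (M * N : Mat F)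
    · linear_combination (norm := noncomm_ring) (W : Mat F) * h0 * (N : Mat F) - b0 * (M * N : Mat F)
        + (W * N : Mat F) * h0 - (W * N : Mat F) * h0

theorem conj_cen {g x : G} (hg : g ∈ 𝐍[φ.range]) (c : ∀ a, Commute x (φ a)) (a : SL(2, F)) :
    Commute (g * x * g⁻¹) (φ a) := by
  obtain ⟨b, hb⟩ := conj_mem_of_norm' hg (⟨a, rfl⟩ : φ a ∈ φ.range)
  have e : φ a = g * φ b * g⁻¹ := by rw [hb]; group
  rw [e]
  exact (c b).map (MulAut.conj g)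

theorem eq_one_of_odd [Finite G] {Y : Subgroup G} (ho : Odd (Nat.card Y)) {y : G} (hy : y ∈ Y)
    (e : y * y = 1) : y = 1 :=
  orderOf_eq_one_iff.1 ((ho.of_dvd_nat (Subgroup.orderOf_dvd_natCard Y hy)).coprime_two_right.eq_one_of_dvd
    (orderOf_dvd_of_pow_eq_one (by rw [sq, e])))

end BasB

open BasB

namespace Cz

variable {σ : SL(2, F) →* G} {s : G} (h : Cz σ s) {g g' f b c t t' : G} {M M' N : GL (Fin 2) F}
include h

variable [Finite G]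

theorem bb_ind (tt : t * t = 1) (e : Ind σ t M) :
    ∃ N, Ind (tw σ s) t N ∧ IsSquare (dt M * dt N) := by
  obtain ⟨M₀, N, e0, e1, hs⟩ := h.ind_inv (h.norm_of_ind e) tt
  obtain ⟨k, rfl⟩ := e.uniq h.inj e0
  exact ⟨N, e1, by rw [SL.dt_scal, mul_assoc]; exact (IsSquare.sq _).mul hs⟩

theorem bb_two (tt : t * t = 1) (ht : t ∈ 𝐍[σ.range]) (hc : c ∈ Zt σ s) : Commute t c :=
  h.two t ht ⟨1, by rw [pow_one, sq, tt]⟩ c hc

/-- Inner involutions acting non-trivially on both factors lie in `K`. -/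
theorem inv_K (tt : t * t = 1) (e : Ind σ t M) (hM : IsSquare (dt M)) (n1 : ¬ ∀ a, Commute t (σ a))
    (n2 : ¬ ∀ a, Commute t (tw σ s a)) :
    ∃ a b, a * a = -1 ∧ b * b = -1 ∧ t = σ a * tw σ s b := by
  obtain ⟨N, e', hs⟩ := h.bb_ind tt e
  obtain ⟨a, b, c, hc, rfl⟩ := h.eq_K e e' hM
    (by simpa [mul_div_cancel_left₀ _ (SL.dt_ne M)] using hs.div hM)
  have ha := SL.sq_iff.2 (h.tr_zero tt (ind_mul_cen (h.ind_K a b) (mem_Zt.1 hc).1) n1)
  have hb := SL.sq_iff.2 (h.symm.tr_zero tt (ind_mul_cen (h.ind_K' a b) (mem_Zt.1 hc).2) n2)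
  have cc : c * c = 1 := by
    have k : Commute c (σ a * tw σ s b) := ((mem_Zt.1 hc).1 a).mul_right ((mem_Zt.1 hc).2 b)
    rwa [k.mul_mul_mul_comm, h.mul_mul, ha, hb, h.tw_z, h.zz, one_mul] at tt
  rcases h.uniq c hc cc with rfl | rfl
  · exact ⟨a, b, ha, hb, mul_one _⟩
  · exact ⟨-a, b, by rw [neg_mul_neg, ha], hb, (h.neg_left a b).symm⟩

theorem conj_z (tt : t * t = 1) (ht : t ∈ 𝐍[σ.range]) (n1 : ¬ ∀ a, Commute t (σ a)) :
    ∃ a, a * a = -1 ∧ σ a * t * (σ a)⁻¹ = t * σ (-1) := by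
  obtain ⟨M, N, e, -, -⟩ := h.ind_inv ht tt
  obtain ⟨a, ha, hn⟩ := exists_anti h.odd (h.tr_zero tt e n1)
  refine ⟨a, ha, ?_⟩
  have e1 : t * σ a * t⁻¹ = σ (-a) := (e.conj_eq_iff h.inj).2 (by
    have : (M : Mat F) * a = -((a : Mat F) * M) := SL.anti_symm hn
    rw [this, Matrix.SpecialLinearGroup.coe_neg, neg_mul])
  rw [h.σ_neg, mul_inv_eq_iff_eq_mul] at e1
  rw [mul_inv_eq_iff_eq_mul, (h.z_of_norm ht).eq, mul_assoc, e1, mul_assoc, ← mul_assoc (σ (-1)),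
    h.zz, one_mul]

theorem conjK (tt : t * t = 1) (tt' : t' * t' = 1) (e : Ind σ t M) (e' : Ind σ t' M')
    (hM : IsSquare (dt M * dt M')) (n1 : ¬ ∀ a, Commute t (σ a)) (n2 : ¬ ∀ a, Commute t (tw σ s a))
    (n1' : ¬ ∀ a, Commute t' (σ a)) (n2' : ¬ ∀ a, Commute t' (tw σ s a)) :
    ∃ a b, σ a * tw σ s b * t * (σ a * tw σ s b)⁻¹ = t' := by
  obtain ⟨N, f, hs⟩ := h.bb_ind tt e
  obtain ⟨N', f', hs'⟩ := h.bb_ind tt' e'
  have hN : IsSquare (dt N * dt N') := by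
    have := (hs.mul hs').div hM
    rwa [mul_mul_mul_comm, mul_div_cancel_left₀ _ (mul_ne_zero (SL.dt_ne M) (SL.dt_ne M'))] at this
  obtain ⟨k, x, hk⟩ := conj_tr_zero h.odd (h.tr_zero tt e n1) (h.tr_zero tt' e' n1') hM
  obtain ⟨l, y, hl⟩ := conj_tr_zero h.odd (h.symm.tr_zero tt f n2) (h.symm.tr_zero tt' f' n2') hN
  have i1 := ((h.ind_K k l).mul e).mul (h.ind_K k l).inv
  have i2 := ((h.ind_K' k l).mul f).mul (h.ind_K' k l).inv
  rw [hk] at i1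
  rw [hl] at i2
  have t1 : σ k * tw σ s l * t * (σ k * tw σ s l)⁻¹ * (σ k * tw σ s l * t * (σ k * tw σ s l)⁻¹) = 1 := by
    rw [conj_mul, tt, mul_one, mul_inv_cancel]
  have r : ∀ a, σ a⁻¹ * (σ k * tw σ s l) = σ (a⁻¹ * k) * tw σ s l := fun a => by
    rw [map_mul, mul_assoc]
  generalize hu : σ k * tw σ s l * t * (σ k * tw σ s l)⁻¹ = u at i1 i2 t1
  have hc : u * t'⁻¹ ∈ Zt σ s := mem_Zt.2 ⟨cen_of_ind (i1.of_scal_mul (isScal_scalGL x)) e',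
    cen_of_ind (i2.of_scal_mul (isScal_scalGL y)) f'⟩
  have c1 := h.bb_two tt' (h.norm_of_ind e') hc
  have c2 : Commute t' u := by simpa using c1.mul_right (Commute.refl t')
  rcases h.uniq _ hc (by
    rw [inv_eq_of_mul_eq_one_right tt', mul_assoc, ← mul_assoc t', c2.eq, mul_assoc, tt', mul_one,
      t1]) with e1 | e1
  · exact ⟨k, l, hu.trans (mul_inv_eq_one.1 e1)⟩
  · obtain ⟨a, -, ha⟩ := h.conj_z tt' (h.norm_of_ind e') n1'
    rw [mul_inv_eq_iff_eq_mul, ← (h.z_of_norm (h.norm_of_ind e')).eq, ← ha] at e1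
    refine ⟨a⁻¹ * k, l, ?_⟩
    rw [← r, map_inv]
    calc _ = (σ a)⁻¹ * (σ k * tw σ s l * t * (σ k * tw σ s l)⁻¹) * σ a := by group
      _ = t' := by rw [hu, e1]; group

theorem bb_anti {u v : G} (uu : u * u = 1) (vv : v * v = 1) (eu : Ind σ u M) (ev : Ind σ v N)
    (c : Commute u v) (nu : ¬ ∀ a, Commute u (σ a)) (nv : ¬ ∀ a, Commute v (σ a))
    (n : ¬ ∀ a, Commute (u * v) (σ a)) : Anti M N :=
  (ind_comm h.odd h.inj eu ev c (h.tr_zero uu eu nu)).resolve_left fun e =>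
    n (cen_of_comm h.odd eu ev (h.tr_zero uu eu nu) (h.tr_zero vv ev nv) e vv)

theorem bb_r4 {E : Subgroup G} (sq : ∀ e ∈ E, e * e = 1) (cm : ∀ e ∈ E, ∀ e' ∈ E, Commute e e')
    (hE : E ≤ 𝐍[σ.range]) : ∃ u ∈ E, ∃ v ∈ E, ∀ w ∈ E, (∀ a, Commute w (σ a)) ∨
      (∀ a, Commute (w * u) (σ a)) ∨ (∀ a, Commute (w * v) (σ a)) ∨
      ∀ a, Commute (w * u * v) (σ a) := by
  by_cases h1 : ∀ w ∈ E, ∀ a, Commute w (σ a)
  · exact ⟨1, one_mem _, 1, one_mem _, fun w hw => Or.inl (h1 w hw)⟩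
  obtain ⟨u, hu, nu⟩ : ∃ u ∈ E, ¬ ∀ a, Commute u (σ a) := by simpa only [not_forall, exists_prop] using h1
  by_cases h2 : ∀ w ∈ E, (∀ a, Commute w (σ a)) ∨ ∀ a, Commute (w * u) (σ a)
  · exact ⟨u, hu, 1, one_mem _, fun w hw => (h2 w hw).imp_right Or.inl⟩
  obtain ⟨v, hv, nv⟩ : ∃ v ∈ E, ¬ ((∀ a, Commute v (σ a)) ∨ ∀ a, Commute (v * u) (σ a)) := by
    simpa only [not_forall (α := G), not_forall (α := _ ∈ E), exists_prop] using h2
  rw [not_or, (cm v hv u hu).eq] at nv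
  obtain ⟨M, -, eu, -, -⟩ := h.ind_inv (hE hu) (sq u hu)
  obtain ⟨N, -, ev, -, -⟩ := h.ind_inv (hE hv) (sq v hv)
  refine ⟨u, hu, v, hv, fun w hw => ?_⟩
  obtain ⟨W, -, ew, -, -⟩ := h.ind_inv (hE hw) (sq w hw)
  exact four h.odd h.inj eu ev ew
    (h.bb_anti (sq u hu) (sq v hv) eu ev (cm u hu v hv) nu nv.1 nv.2) (cm u hu w hw) (cm v hv w hw)

theorem bb_r2 {u w : G} (uu : u * u = 1) (ww : w * w = 1) (hw : w ∈ 𝐍[σ.range]) (cm : Commute w u)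
    (h1 : ∀ a, Commute u (σ a)) (n : ¬ ∀ a, Commute u (tw σ s a)) :
    (∀ a, Commute w (tw σ s a)) ∨ ∀ a, Commute (w * u) (tw σ s a) := by
  refine or_iff_not_imp_left.2 fun nw => ?_
  obtain ⟨b, c, hc, rfl⟩ := h.eq_tw h1 ⟨1, by rw [pow_one, sq, uu]⟩
  have eu : Ind (tw σ s) (tw σ s b * c) (tG b) := ind_mul_cen (Ind.map _ b) (mem_Zt.1 hc).2
  obtain ⟨-, N, -, ew, -⟩ := h.ind_inv hw ww
  have c1 : Commute w (tw σ s b) := by simpa using cm.mul_right (h.bb_two ww hw hc).inv_right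
  exact cen_of_comm h.odd ew eu (h.symm.tr_zero ww ew nw) (h.symm.tr_zero uu eu n)
    (mem_centralizer_singleton_iff.1 ((ew.comm_iff h.tw_inj).1 c1.eq)).symm uu

theorem no16 {E : Subgroup G} (hE : E16 E) : ¬ E ≤ 𝐍[σ.range] := by
  classical
  intro hle
  have sq : ∀ e ∈ E, e * e = 1 := fun e he => by rw [← sq]; exact hE.1.2 e he
  have cm : ∀ e ∈ E, ∀ e' ∈ E, Commute e e' := fun e he e' he' =>
    congrArg Subtype.val (hE.1.1.is_comm.comm (⟨e, he⟩ : E) ⟨e', he'⟩)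
  have hle' : E ≤ 𝐍[(tw σ s).range] := fun e he => h.norm_tw.2 (hle he)
  obtain ⟨u, hu, v, hv, k⟩ : ∃ u ∈ E, ∃ v ∈ E, ∀ w ∈ E, w ∈ Zt σ s ∨ w * u ∈ Zt σ s ∨
      w * v ∈ Zt σ s ∨ w * u * v ∈ Zt σ s := by
    by_cases h1 : ∀ x ∈ E, (∀ a, Commute x (σ a)) → ∀ a, Commute x (tw σ s a)
    · obtain ⟨u, hu, v, hv, k⟩ := h.bb_r4 sq cm hle
      have m : ∀ x ∈ E, (∀ a, Commute x (σ a)) → x ∈ Zt σ s := fun x hx e =>
        mem_Zt.2 ⟨e, h1 x hx e⟩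
      exact ⟨u, hu, v, hv, fun w hw => (k w hw).imp (m _ hw) (Or.imp (m _ (mul_mem hw hu))
        (Or.imp (m _ (mul_mem hw hv)) (m _ (mul_mem (mul_mem hw hu) hv))))⟩
    by_cases h2 : ∀ x ∈ E, (∀ a, Commute x (tw σ s a)) → ∀ a, Commute x (σ a)
    · obtain ⟨u, hu, v, hv, k⟩ := h.symm.bb_r4 sq cm hle'
      have m : ∀ x ∈ E, (∀ a, Commute x (tw σ s a)) → x ∈ Zt σ s := fun x hx e =>
        mem_Zt.2 ⟨h2 x hx e, e⟩
      exact ⟨u, hu, v, hv, fun w hw => (k w hw).imp (m _ hw) (Or.imp (m _ (mul_mem hw hu))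
        (Or.imp (m _ (mul_mem hw hv)) (m _ (mul_mem (mul_mem hw hu) hv))))⟩
    obtain ⟨u, hu, u1, u2⟩ : ∃ u ∈ E, (∀ a, Commute u (σ a)) ∧ ¬ ∀ a, Commute u (tw σ s a) := by
      by_contra hn
      exact h1 fun x hx e => by_contra fun e' => hn ⟨x, hx, e, e'⟩
    obtain ⟨v, hv, v2, v1⟩ : ∃ v ∈ E, (∀ a, Commute v (tw σ s a)) ∧ ¬ ∀ a, Commute v (σ a) := by
      by_contra hn
      exact h2 fun x hx e => by_contra fun e' => hn ⟨x, hx, e, e'⟩
    have r : ∀ x ∈ E, (∀ a, Commute x (tw σ s a)) → x ∈ Zt σ s ∨ x * v ∈ Zt σ s := fun x hx e => by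
      have := h.symm.bb_r2 (sq v hv) (sq x hx) (hle' hx) (cm x hx v hv) v2 (by rwa [h.tw_tw])
      rw [h.tw_tw] at this
      exact this.imp (fun e' => mem_Zt.2 ⟨e', e⟩)
        fun e' => mem_Zt.2 ⟨e', fun a => (e a).mul_left (v2 a)⟩
    refine ⟨u, hu, v, hv, fun w hw => ?_⟩
    rcases h.bb_r2 (sq u hu) (sq w hw) (hle hw) (cm w hw u hu) u1 u2 with e | e
    · exact (r w hw e).imp_right fun e' => Or.inr (Or.inl e')
    · exact Or.inr ((r _ (mul_mem hw hu) e).imp_right Or.inr)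
  have m : ∀ w ∈ E, ∀ x ∈ E, w * x ∈ Zt σ s → w = x⁻¹ ∨ w = σ (-1) * x⁻¹ := fun w hw x hx e =>
    (h.uniq _ e (sq _ (mul_mem hw hx))).imp eq_inv_of_mul_eq_one_left eq_mul_inv_of_mul_eq
  have sub : (E : Set G) ⊆ ↑[1⁻¹, σ (-1) * 1⁻¹, u⁻¹, σ (-1) * u⁻¹, v⁻¹, σ (-1) * v⁻¹, (u * v)⁻¹,
      σ (-1) * (u * v)⁻¹].toFinset := fun w hw => by
    simp only [List.coe_toFinset, List.mem_cons, Set.mem_ofPred_eq]
    rcases k w hw with e | e | e | e
    · have := m w hw 1 (one_mem _) (by rwa [mul_one]); tauto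
    · have := m w hw u hu e; tauto
    · have := m w hw v hv e; tauto
    · have := m w hw _ (mul_mem hu hv) (by rwa [← mul_assoc]); tauto
  have := Set.ncard_le_ncard sub (Finset.finite_toSet _)
  rw [Set.ncard_coe_finset] at this
  have := this.trans (List.toFinset_card_le _)
  rw [show (E : Set G).ncard = 16 from hE.2] at this
  simp at this

theorem a4 (ff : f * f = 1) (hf : Commute f (σ (-1))) (n : f ∉ 𝐍[σ.range]) : A4 (σ (-1)) f := by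
  have h' := h.rebase ff hf n
  obtain ⟨a, g, h1, h2⟩ := exists_a4 h.odd
  have aa := SL.sq_iff.2 (tr_of_anti h.odd h1)
  have h3 := SL.anti_iff.1 h1
  refine ⟨dj σ f a, dj σ f g, h'.dj_sq aa, h'.dj_z a, h'.dj_s a, h'.dj_z g, h'.dj_s g, ?_, ?_, ?_⟩ <;>
    rw [h'.dj_conj]
  · change _ * _ = _ * _
    rw [← h'.dj_mul, ← h'.dj_mul, h3, h'.dj_neg]
  · intro e
    have n1 := Inv.SLF.neg_one_ne_one (F := F) h.two_ne
    rcases h'.dj_eq_iff.1 e with e | e <;> rw [e] at h3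
    · rw [aa, neg_neg] at h3
      exact n1 h3
    · rw [mul_neg, neg_mul, aa, neg_neg] at h3
      exact n1 h3.symm
  · rw [h'.dj_conj, h2, h'.dj_mul]

theorem bb_cyc {u v : G} (bb : b * b = 1) (hb : b ∈ 𝐍[σ.range]) (n1 : ¬ ∀ a, Commute b (σ a))
    (hg : g ∈ 𝐍[σ.range]) (hu : u ∈ 𝐍[σ.range]) (uu : u * u = 1) (ub : Commute u b)
    (gb : Commute g b) (uv : Commute u v) (e1 : g * u * g⁻¹ = v) (e2 : g * v * g⁻¹ = u * v) :
    ∀ a, Commute u (σ a) := by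
  have vv : v * v = 1 := by rw [← e1, conj_mul, uu, mul_one, mul_inv_cancel]
  have e3 : g * (u * v) * g⁻¹ = u := by
    rw [← conj_mul, e1, e2, uv.eq, ← mul_assoc, vv, one_mul]
  have cb : ∀ x, g * (b * x) * g⁻¹ = b * (g * x * g⁻¹) := fun x => by
    rw [← conj_mul, gb.eq, mul_inv_cancel_right]
  have vb : Commute v b := e1 ▸ (gb.mul_left ub).mul_left gb.inv_left
  by_contra nu
  have n3 : ¬ ∀ a, Commute (u * v) (σ a) := fun e => nu (e3 ▸ conj_cen hg e)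
  have nv : ¬ ∀ a, Commute v (σ a) := fun e => n3 (e2 ▸ conj_cen hg e)
  obtain ⟨M, -, eu, -, -⟩ := h.ind_inv hu uu
  obtain ⟨N, -, ev, -, -⟩ := h.ind_inv (e1 ▸ mul_mem (mul_mem hg hu) (inv_mem hg)) vv
  obtain ⟨W, -, ew, -, -⟩ := h.ind_inv hb bb
  have k1 : ¬ ∀ a, Commute (b * u) (σ a) := fun e => n3 fun a => by
    have e' := conj_cen hg e a
    rw [cb, e1] at e'
    have := (e a).mul_left e'
    rwa [← ub.eq, mul_assoc, ← mul_assoc b, bb, one_mul] at this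
  have k3 : ¬ ∀ a, Commute (b * (u * v)) (σ a) := fun e => k1 fun a => by
    have e' := conj_cen hg e a
    rwa [cb, e3] at e'
  have k2 : ¬ ∀ a, Commute (b * v) (σ a) := fun e => k3 fun a => by
    have e' := conj_cen hg e a
    rwa [cb, e2] at e'
  rcases four h.odd h.inj eu ev ew (h.bb_anti uu vv eu ev uv nu nv n3) ub vb with e | e | e | e
  exacts [n1 e, k1 e, k2 e, k3 (by rwa [← mul_assoc])]

theorem not_a4 (bb : b * b = 1) (hb : b ∈ 𝐍[σ.range]) (n1 : ¬ ∀ a, Commute b (σ a))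
    (n2 : ¬ ∀ a, Commute b (tw σ s a)) : ¬ A4 (σ (-1)) b := by
  rintro ⟨u, g, uu, uz, ub, gz, gb, uv, ne, e2⟩
  obtain ⟨v, e1⟩ : ∃ v, g * u * g⁻¹ = v := ⟨_, rfl⟩
  rw [e1] at uv ne e2
  have vv : v * v = 1 := by rw [← e1, conj_mul, uu, mul_one, mul_inv_cancel]
  have e3 : g * (u * v) * g⁻¹ = u := by
    rw [← conj_mul, e1, e2, uv.eq, ← mul_assoc, vv, one_mul]
  have vz : Commute v (σ (-1)) := e1 ▸ (gz.mul_left uz).mul_left gz.inv_left
  have hu : u ∈ 𝐍[σ.range] := by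
    by_contra nu
    have nv : v ∉ 𝐍[σ.range] := fun e => nu (e3 ▸ h.conj_norm' gz (e2 ▸ h.conj_norm' gz e))
    exact nu (e3 ▸ h.conj_norm' gz (h.mul_norm uz vz nu nv))
  have hg : g * g ∈ 𝐍[σ.range] := by
    by_cases n : g ∈ 𝐍[σ.range]
    · exact mul_mem n n
    · exact h.mul_norm gz gz n n
  have f1 : g * g * u * (g * g)⁻¹ = u * v := by rw [← e2, ← e1]; group
  have f2 : g * g * (u * v) * (g * g)⁻¹ = u * (u * v) := by
    rw [← mul_assoc u, uu, one_mul, ← e1]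
    conv_rhs => rw [← e3]
    rw [e1]
    group
  have c : Commute u (u * v) := (Commute.refl u).mul_right uv
  have hz : u ∈ Zt σ s := mem_Zt.2 ⟨h.bb_cyc bb hb n1 hg hu uu ub (gb.mul_left gb) c f1 f2,
    h.symm.bb_cyc bb (h.norm_tw.2 hb) n2 (h.norm_tw.2 hg) (h.norm_tw.2 hu) uu ub (gb.mul_left gb)
      c f1 f2⟩
  refine ne (e1 ▸ ?_)
  rcases h.uniq u hz uu with e | e <;> rw [e]
  · group
  · rw [gz.eq, mul_inv_cancel_right]

/-- An element centralizing the diagonal. -/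
theorem mem_Zt_of_dj (hg : g ∈ 𝐍[σ.range]) (e : ∀ a, Commute g (dj σ s a)) : g ∈ Zt σ s := by
  obtain ⟨α, hα⟩ := h.exists_aut hg
  obtain ⟨β, hβ⟩ := h.symm.exists_aut (h.norm_tw.2 hg)
  have e' : ∀ a, (α a = a ∧ β a = a) ∨ (α a = -a ∧ β a = -a) := fun a => h.eq_iff.1 (by
    rw [← hα, ← hβ, conj_mul, ← dj, (e a).eq, mul_inv_cancel_right])
  refine mem_Zt.2 ⟨fun a => ?_, fun a => ?_⟩
  · exact mul_inv_eq_iff_eq_mul.1 ((hα a).trans (congrArg σ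
      (sl_eq_of_sign h.big (map_mul α) (fun a => (e' a).imp And.left And.left) a)))
  · exact mul_inv_eq_iff_eq_mul.1 ((hβ a).trans (congrArg _
      (sl_eq_of_sign h.big (map_mul β) (fun a => (e' a).imp And.right And.right) a)))

theorem odd_le_Zt {Y : Subgroup G} (ho : Odd (Nat.card Y)) (hY : Y ≤ Cen (σ (-1)))
    (hn : ∀ a, dj σ s a ∈ 𝐍[Y]) (hs : Y ≤ Cen s) : Y ≤ Zt σ s := by
  let d : SL(2, F) →* G := MonoidHom.mk' (dj σ s) h.dj_mul
  have hd : ∀ a, d a = dj σ s a := fun _ => rfl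
  haveI : (Y.comap d).Normal := ⟨fun b hb a => by
    rw [mem_comap, hd, ← h.dj_conj]; exact conj_mem_of_norm (hn a) hb⟩
  rcases sl_normal h.big (Y.comap d) with e | e
  swap
  · obtain ⟨a, g, h1, -⟩ := exists_a4 h.odd
    have aa := SL.sq_iff.2 (tr_of_anti h.odd h1)
    have := eq_one_of_odd ho (show a ∈ Y.comap d from e ▸ mem_top _) (h.dj_sq aa)
    rcases h.dj_eq_one.1 this with e | e <;> rw [e] at aa <;>
      exact absurd (by simpa using aa.symm) (Inv.SLF.neg_one_ne_one (F := F) h.two_ne)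
  intro y hy
  have yn := h.norm_of_odd (mem_Cen.1 (hY hy)).symm (ho.of_dvd_nat (Subgroup.orderOf_dvd_natCard Y hy))
  have ys := (mem_Cen.1 (hs hy)).symm
  obtain ⟨α, hα⟩ := h.exists_aut yn
  have h2 : ∀ a, y * tw σ s a * y⁻¹ = tw σ s (α a) := fun a => by
    rw [tw_apply, tw_apply, ← hα, ← mul_assoc, ← mul_assoc, ys.eq, mul_assoc _ s⁻¹,
      ys.symm.inv_inv.eq]; group
  have h3 : ∀ a, y * dj σ s a * y⁻¹ = dj σ s (α a) := fun a => by
    rw [dj, dj, ← hα, ← h2, conj_mul]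
  refine h.mem_Zt_of_dj yn fun a => ?_
  have m : α a * a⁻¹ ∈ Y.comap d := by
    rw [mem_comap, hd, h.dj_mul, h.dj_inv, ← h3, mul_assoc, mul_assoc, ← mul_assoc _ y⁻¹]
    exact mul_mem hy (conj_mem_of_norm (hn a) (inv_mem hy))
  have := h.dj_eq_one.2 (sl_center h.two_ne (mem_center_iff.1 (e m)))
  rw [h.dj_mul, h.dj_inv, ← h3, mul_inv_eq_one, mul_inv_eq_iff_eq_mul] at this
  exact this

theorem bb_hard {Y : Subgroup G} {d y : G} (ho : Odd (Nat.card Y)) (e : Ind σ d M)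
    (hY : Y ≤ Cen (σ (-1)) ⊓ Cen d) (hn : Cen (σ (-1)) ⊓ Cen d ≤ 𝐍[Y])
    (hi : ∀ y ∈ Y, s * y * s⁻¹ = y⁻¹) (hy : y ∈ Y) :
    ∃ α : SL(2, F) ≃* SL(2, F), Odd (orderOf α) ∧ (∀ a, y * σ a * y⁻¹ = σ (α a)) ∧
      (∀ c, tG c * M = M * tG c → α c = c) ∧ ((∀ a, α a = a) → y ∈ Zt σ s) := by
  obtain ⟨α, oα, hα⟩ := h.exists_aut_odd (mem_Cen.1 (hY hy).1).symm
    (ho.of_dvd_nat (Subgroup.orderOf_dvd_natCard Y hy))
  refine ⟨α, oα, hα, fun c hc => ?_, fun k => ?_⟩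
  · have n : σ c ∈ 𝐍[Y] := hn ⟨mem_Cen.2 (h.σ_z c).symm, mem_Cen.2
      ((e.comm_iff h.inj).2 (mem_centralizer_singleton_iff.2 hc))⟩
    have m : σ (α c * c⁻¹) ∈ Y := by
      rw [map_mul, map_inv, ← hα, mul_assoc, mul_assoc, ← mul_assoc _ y⁻¹]
      exact mul_mem hy (conj_mem_of_norm n (inv_mem hy))
    have := h.eq_one_iff.1 (show σ (α c * c⁻¹) * tw σ s (α c * c⁻¹) = 1 by
      rw [tw_apply, hi _ m, mul_inv_cancel])
    rcases this with ⟨e, -⟩ | ⟨e, -⟩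
    · exact mul_inv_eq_one.1 e
    · rw [e] at m
      exact (h.z_ne (eq_one_of_odd ho m h.zz)).elim
  · have c1 : ∀ a, Commute y (σ a) := fun a => mul_inv_eq_iff_eq_mul.1 (by rw [hα, k])
    refine mem_Zt.2 ⟨c1, fun a => ?_⟩
    have : y = s * y⁻¹ * s⁻¹ := by rw [hi _ (inv_mem hy), inv_inv]
    rw [this]
    exact (c1 a).inv_left.map (MulAut.conj s)

/-- The hard case of two-balance. -/
theorem hard {Y : Subgroup G} {d d' : G} (ho : Odd (Nat.card Y)) (hd : d ∈ 𝐍[σ.range])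
    (hd' : d' ∈ 𝐍[σ.range]) (dd : d * d = 1) (dd' : d' * d' = 1) (c : Commute d d') (cs : Commute d s)
    (cs' : Commute d' s) (n : d ∉ Zt σ s) (n' : d' ∉ Zt σ s) (n'' : d * d' ∉ Zt σ s)
    (hY : Y ≤ Cen (σ (-1)) ⊓ Cen d) (hn : Cen (σ (-1)) ⊓ Cen d ≤ 𝐍[Y])
    (hi : ∀ y ∈ Y, s * y * s⁻¹ = y⁻¹) : Y ⊓ Cen d' ≤ Zt σ s := by
  intro y hy
  obtain ⟨M, -, e, -, -⟩ := h.ind_inv hd dd
  obtain ⟨M', -, e', -, -⟩ := h.ind_inv hd' dd'
  obtain ⟨α, oα, hα, h1, h2⟩ := h.bb_hard ho e hY hn hi hy.1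
  refine h2 (aut_triv h.odd h.big α oα (h.bb_anti dd dd' e e' c
    (fun k => n (h.mem_Zt_of_swap h.sz h.s_not_mem cs k))
    (fun k => n' (h.mem_Zt_of_swap h.sz h.s_not_mem cs' k))
    fun k => n'' (h.mem_Zt_of_swap h.sz h.s_not_mem (cs.mul_left cs') k)) h1 fun a => h.inj ?_)
  have yd : Commute d' y := mem_Cen.1 hy.2
  rw [← hα, ← e', ← e', ← hα]
  calc _ = y * d' * σ a * (y * d')⁻¹ := by group
    _ = _ := by rw [← yd.eq]; group

/-- The same when the tori are 2-groups. -/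
theorem hard' {Y : Subgroup G} {d : G} (ho : Odd (Nat.card Y)) (hd : d ∈ 𝐍[σ.range])
    (dd : d * d = 1) (cs : Commute d s) (n : d ∉ Zt σ s)
    (h2 : ∀ k : SL(2, F), Odd (orderOf k) → Commute d (σ k) → k = 1)
    (hY : Y ≤ Cen (σ (-1)) ⊓ Cen d) (hn : Cen (σ (-1)) ⊓ Cen d ≤ 𝐍[Y])
    (hi : ∀ y ∈ Y, s * y * s⁻¹ = y⁻¹) : Y ≤ Zt σ s := by
  intro y hy
  obtain ⟨M, -, e, -, -⟩ := h.ind_inv hd dd
  obtain ⟨α, oα, -, h1, h3⟩ := h.bb_hard ho e hY hn hi hy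
  obtain ⟨k, ok, hk, hα⟩ := aut_tor h.odd h.big α oα
    (h.tr_zero dd e fun k => n (h.mem_Zt_of_swap h.sz h.s_not_mem cs k)) h1
  refine h3 fun a => ?_
  rw [hα, h2 k ok ((e.comm_iff h.inj).2 (mem_centralizer_singleton_iff.2 hk))]
  group

end Cz

end Cfsg.Agent.L4
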