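import Mathlib
import Cfsg.Agent.L4.Defs
import Cfsg.Agent.GW.Cop
import Cfsg.Agent.GT.FourGroup

/-! Two-balance on an elementary abelian group of order 16. -/

set_option autoImplicit false
set_option linter.unusedSectionVars false

namespace Cfsg.Agent.L4

open Cfsg.Agent.Loc.Mss Cfsg.Agent.GW Subgroup Cfsg.Agent.P4 Cfsg.Agent.G2T Cfsg.Agent.Cl.GL2
open scoped MatrixGroups

variable {G : Type*} [Group G] [Finite G] {E : Subgroup G} {a b : G} {C₀ : Subgroup G}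

namespace SigAux

theorem a4_map (φ : G ≃* G) (h : A4 a b) : A4 (φ a) (φ b) := by
  obtain ⟨v, g, h1, h2, h3, h4, h5, h6, h7, h8⟩ := h
  refine ⟨φ v, φ g, by rw [← map_mul, h1, map_one], h2.map φ, h3.map φ, h4.map φ, h5.map φ,
    by simpa only [map_mul, map_inv] using h6.map φ, fun e => h7 (φ.injective ?_),
    by simpa only [map_mul, map_inv] using congrArg φ h8⟩
  simpa only [map_mul, map_inv] using e

theorem e16_cj (hE : E16 E) (g : G) : E16 cj(g, E) := ⟨hE.1.map _, (card_cj E g).trans hE.2⟩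

theorem norm_cen (a : G) : Cen a ≤ 𝐍[Cen a] := le_normalizer

theorem norm_UU (a : G) : Cen a ≤ 𝐍[UU a] := GT.le_normalizer_pPrimeCoreOf _

theorem UU_le (a : G) : UU a ≤ Cen a := GT.pPrimeCoreOf_le _

theorem odd_inf (a : G) (X : Subgroup G) : Odd (Nat.card (UU a ⊓ X : Subgroup G)) :=
  (odd_card_OO _).of_dvd_nat (card_dvd_of_le inf_le_left)

theorem sq (hE : E16 E) (ha : a ∈ E) : a * a = 1 := by rw [← pow_two, hE.1.2 a ha]

theorem cen_le (a b : G) : Cen a ⊓ Cen b ≤ 𝐍[UU b ⊓ Cen a] :=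
  norm_inf (inf_le_right.trans (norm_UU b)) (inf_le_left.trans (norm_cen a))

theorem symm {C' : Subgroup G} (hE : E16 E) (ha : Lo a C₀) (hb : Lo b C') (haE : a ∈ E) (hbE : b ∈ E)
    (a1 : a ≠ 1) (n : b ∉ C₀) : a ∉ C' := fun h =>
  hb.na4 E hE hbE a haE h a1 (fun e => n (e ▸ ha.self))
    (ha.a4 b (sq hE hbE) (hE.1.comm hbE haE) n).symm

end SigAux

open SigAux

theorem Lo.conj (h : Lo a C₀) (g : G) : Lo (g * a * g⁻¹) cj(g, C₀) := by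
  let φ := MulAut.conj g
  have hs := φ.surjective
  have hS : Function.Surjective fun Y : Subgroup G => cj(g, Y) := fun Y => ⟨_, cj_cj_inv Y g⟩
  have m : ∀ {x : G} {Y : Subgroup G}, φ x ∈ cj(g, Y) ↔ x ∈ Y := mem_map_iff_mem φ.injective
  have c : ∀ {x y : G}, Commute (φ x) (φ y) → Commute x y := fun e => e.of_map φ.injective
  have n : ∀ {x y : G}, φ x ≠ φ y → x ≠ y := φ.injective.ne_iff.1
  have q : ∀ {x : G}, φ x * φ x = 1 → x * x = 1 := fun e => φ.injective (by rw [map_mul, e, map_one])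
  have o : ∀ {x : G}, φ x ≠ 1 → x ≠ 1 := fun e e' => e (by rw [e', map_one])
  have e : ∀ {Y : Subgroup G}, E16 cj(g, Y) → E16 Y := fun {Y} hY => by
    simpa only [cj_inv_cj] using e16_cj hY g⁻¹
  have hC : ∀ x, Cen (φ x) = cj(g, Cen x) := fun x => (Cen_conj x g).symm
  have hU : ∀ x, UU (φ x) = cj(g, UU x) := fun x => (UU_conj x g).symm
  change Lo (φ a) _
  refine ⟨hC a ▸ cj_mono g h.le, m.2 h.self, hs.forall₂.2 fun x y h1 h2 h3 h4 => ?_,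
    hs.forall.2 fun b h1 h2 h3 => a4_map φ (h.a4 b (q h1) (c h2) (mt m.2 h3)),
    hS.forall.2 fun E hE h1 => hs.forall.2 fun b h2 h3 h4 h5 h6 => h.na4 E (e hE) (m.1 h1) b (m.1 h2)
      (m.1 h3) (o h4) (n h5) (by simpa only [MulEquiv.symm_apply_apply] using a4_map φ.symm h6),
    hS.forall.2 fun E hE h1 => ?_, hs.forall.2 fun b h1 h2 h3 => hS.forall.2 ?_,
    hS.forall.2 fun E hE h1 => hs.forall.2 fun d h2 => hs.forall.2 fun d' h3 => hs.forall.2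
      fun f h4 h5 h6 h7 h8 h9 h10 h11 h12 h13 => hS.forall.2 fun Y h14 h15 h16 h17 => ?_⟩
  · rw [← map_mul]
    exact m.2 (h.half x y (c h1) (c h2) (mt m.2 h3) (mt m.2 h4))
  · obtain ⟨b, h2, h3⟩ := h.nd E (e hE) (m.1 h1)
    exact ⟨φ b, m.2 h2, mt m.1 h3⟩
  · simp only [hC, hU, ← cj_inf, ← cj_norm, cj_le_cj, card_cj]
    exact h.b1 b (q h1) (c h2) (mt m.2 h3)
  · simp only [hC, hU, ← cj_inf, ← cj_norm, cj_le_cj, card_cj, ← map_mul] at h13 h14 h15 h16 h17 ⊢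
    refine h.hard E (e hE) (m.1 h1) d (m.1 h2) d' (m.1 h3) f (m.1 h4) (m.1 h5) (m.1 h6) (mt m.2 h7)
      (o h8) (n h9) (o h10) (n h11) (n h12) (n h13) Y h14 h15 h16 fun y hy => m.1 ?_
    simpa only [map_mul, map_inv] using h17 (φ y) (m.2 hy)

/-- (b1) -/
theorem Lo.bal (h : Lo a C₀) (bb : b * b = 1) (c : Commute b a) (n : b ∉ C₀) :
    UU b ⊓ Cen a ≤ UU a :=
  h.b1 b bb c n _ (odd_inf _ _) (le_inf inf_le_right (inf_le_left.trans (UU_le b))) (cen_le a b)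

theorem SigAux.bal' (hE : E16 E) (h : ∀ a ∈ E, a ≠ 1 → ∃ C₀, Lo a C₀) (ha : Lo a C₀) (a1 : a ≠ 1)
    (haE : a ∈ E) (hb : b ∈ E) (n : b ∉ C₀) : UU a ⊓ Cen b ≤ UU b := by
  obtain ⟨C', h'⟩ := h b hb fun e => n (e ▸ one_mem _)
  exact h'.bal (sq hE haE) (hE.1.comm haE hb) (symm hE ha h' haE hb a1 n)

theorem inf_le_delta (hE : E16 E) (h : ∀ a ∈ E, a ≠ 1 → ∃ C₀, Lo a C₀) (ha : Lo a C₀) (a1 : a ≠ 1)
    (haE : a ∈ E) (hb : b ∈ E) (n : b ∉ C₀) :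
    UU a ⊓ Cen b ≤ signalizerDelta 2 (zpowers a ⊔ zpowers b) := by
  refine GT.le_signalizerDelta_iff.2 fun d hd d1 => ?_
  rcases GT.mem_four_group_cases (hE.1.2 a haE) (hE.1.2 b hb) (hE.1.comm haE hb) hd with
    rfl | rfl | rfl | rfl
  · exact absurd rfl d1
  · exact inf_le_left
  · exact bal' hE h ha a1 haE hb n
  · exact fun y hy => bal' hE h ha a1 haE (mul_mem haE hb)
      (fun e => n ((mul_mem_cancel_left ha.self).1 e))
      ⟨hy.1, mem_Cen.2 ((mem_Cen.1 (UU_le a hy.1)).mul_left (mem_Cen.1 hy.2))⟩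

/-- For a commuting pair that is not a swapping pair there is a common swap. -/
theorem exists_common (hE : E16 E) (h : ∀ a ∈ E, a ≠ 1 → ∃ C₀, Lo a C₀) (ha : Lo a C₀)
    (haE : a ∈ E) (hb : b ∈ E) (a1 : a ≠ 1) (b1 : b ≠ 1) (n : b ≠ a) :
    ∃ f ∈ E, f ∉ C₀ ∧ ∀ y ∈ UU b ⊓ Cen a, f * y * f⁻¹ * y ∈ UU a := by
  obtain ⟨C', h'⟩ := h b hb b1
  obtain ⟨f, hf, h1, h2⟩ : ∃ f ∈ E, f ∉ C₀ ∧ f ∉ C' := by
    obtain ⟨f, hf, h1⟩ := ha.nd E hE haE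
    obtain ⟨f', hf', h2⟩ := h'.nd E hE hb
    by_cases h3 : f ∈ C'
    · by_cases h4 : f' ∈ C₀
      · exact ⟨f * f', mul_mem hf hf', fun e => h1 ((mul_mem_cancel_right h4).1 e),
          fun e => h2 ((mul_mem_cancel_left h3).1 e)⟩
      · exact ⟨f', hf', h4, h2⟩
    · exact ⟨f, hf, h1, h3⟩
  refine ⟨f, hf, h1, fun y hy => ?_⟩
  obtain ⟨c, hc, j, hj, h3, rfl⟩ := exists_fixed_mul_inverted (odd_inf b (Cen a)) (sq hE hf)
    (cen_le a b ⟨mem_Cen.2 (hE.1.comm haE hf), mem_Cen.2 (hE.1.comm hb hf)⟩) hy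
  have h4 : c ∈ UU a := ha.bal (sq hE hf) (hE.1.comm hf haE) h1
    ⟨bal' hE h h' b1 hb hf h2 ⟨hc.1.1, hc.2⟩, hc.1.2⟩
  have h5 : f * (c * j) * f⁻¹ * (c * j) = c * (j⁻¹ * c * j⁻¹⁻¹) := by
    rw [inv_inv, ← h3, ← mul_assoc f, (mem_Cen.1 hc.2).eq]
    group
  rw [h5]
  exact mul_mem h4 ((mem_normalizer_iff.1 (norm_UU a (inv_mem hj.2)) c).1 h4)

theorem bal2 (hE : E16 E) (h : ∀ a ∈ E, a ≠ 1 → ∃ C₀, Lo a C₀) :
    ∀ D ≤ E, 4 ≤ Nat.card D → ∀ b ∈ E, b ≠ 1 → signalizerDelta 2 D ⊓ Cen b ≤ UU b := by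
  intro D hD h4 b hb b1
  have hΔ : ∀ d ∈ D, d ≠ 1 → signalizerDelta 2 D ≤ UU d := GT.le_signalizerDelta_iff.1 le_rfl
  by_cases hbD : b ∈ D
  · exact inf_le_left.trans (hΔ b hbD b1)
  obtain ⟨C, hC⟩ := h b hb b1
  by_cases hDC : D ≤ C
  · obtain ⟨d, hd, d', hd', h1, h2, h3⟩ : ∃ d ∈ D, ∃ d' ∈ D, d ≠ 1 ∧ d' ≠ 1 ∧ d' ≠ d := by
      have := Fintype.ofFinite D
      obtain ⟨x, y, z, h1, h2, h3⟩ := (Fintype.two_lt_card_iff (α := D)).1
        (by rw [← Nat.card_eq_fintype_card]; omega)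
      have k : ∀ u v : D, u ≠ 1 → v ≠ 1 → v ≠ u → ∃ d ∈ D, ∃ d' ∈ D, d ≠ 1 ∧ d' ≠ 1 ∧ d' ≠ d :=
        fun u v h1 h2 h3 => ⟨u, u.2, v, v.2, by simpa using h1, by simpa using h2, by simpa using h3⟩
      by_cases hx : x = 1
      · exact k y z (hx ▸ h1.symm) (hx ▸ h2.symm) h3.symm
      by_cases hy : y = 1
      · exact k x z hx (hy ▸ h3.symm) h2.symm
      · exact k x y hx hy h1.symm
    have n : ∀ d ∈ D, d ≠ b := fun d hd e => hbD (e ▸ hd)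
    obtain ⟨f, hf, h5, h6⟩ := exists_common hE h hC hb (hD hd) b1 h1 (n d hd)
    refine le_trans (le_inf (inf_le_inf_right _ (hΔ d hd h1))
      (inf_le_left.trans ((hΔ d' hd' h2).trans (UU_le d')))) ?_
    exact hC.hard E hE hb d (hD hd) d' (hD hd') f hf (hDC hd) (hDC hd') h5 h1 (n d hd) h2 (n d' hd')
      h3 (fun e => hbD ((mul_mem_cancel_right hd).1 (e ▸ hd'))) _ (odd_inf _ _)
      (le_inf inf_le_right (inf_le_left.trans (UU_le d))) (cen_le b d) h6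
  · obtain ⟨d, hd, h1⟩ := SetLike.not_le_iff_exists.1 hDC
    exact (inf_le_inf_right _ (hΔ d hd fun e => h1 (e ▸ one_mem _))).trans
      (hC.bal (sq hE (hD hd)) (hE.1.comm (hD hd) hb) h1)

end Cfsg.Agent.L4
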