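import Mathlib
import Cfsg.Agent.L4.Basic

/-! The three pairs of factors at the involutions of a four-group. -/

set_option autoImplicit false
set_option linter.unusedSectionVars false

namespace Cfsg.Agent.L4

open Cfsg.Agent.Loc.Mss Cfsg.Agent.GW Subgroup Cfsg.Agent.P4 Cfsg.Agent.G2T Cfsg.Agent.Cl.GL2
open scoped MatrixGroups

variable {G : Type*} [Group G] [Finite G] {F : Type} [Field F] [Fintype F]
  {σ ρ θ : SL(2, F) →* G} {s t r b c g v w : G} {M N : GL (Fin 2) F}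

theorem range_cjh (g : G) (σ : SL(2, F) →* G) : (cjh g σ).range = cj(g, σ.range) :=
  MonoidHom.range_comp _ _

theorem mem_norm_cjh : b ∈ 𝐍[(cjh g σ).range] ↔ g⁻¹ * b * g ∈ 𝐍[σ.range] := by
  rw [range_cjh, ← cj_norm, mem_cj]

theorem ind_cjh (h : Ind (cjh g σ) b M) : Ind σ (g⁻¹ * b * g) M := fun a => by
  have := h a
  rw [cjh_apply, cjh_apply] at this
  rw [← mul_left_cancel_iff (a := g), ← mul_right_cancel_iff (a := g⁻¹), ← this]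
  group

theorem commute_cj {x y : G} (h : Commute x y) (g : G) :
    Commute (g * x * g⁻¹) (g * y * g⁻¹) := h.map (MulAut.conj g)

theorem commute_cj' {x y : G} (h : Commute x (g * y * g⁻¹)) : Commute (g⁻¹ * x * g) y := by
  simpa [mul_assoc] using commute_cj h g⁻¹

theorem isConj_cj (x g : G) : IsConj x (g * x * g⁻¹) := isConj_iff.2 ⟨g, rfl⟩

theorem isConj_cj' (x g : G) : IsConj x (g⁻¹ * x * g) := isConj_iff.2 ⟨g⁻¹, by rw [inv_inv]⟩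

theorem cjM_of_anti {a : SL(2, F)} (h : Anti (tG a) M) : cjM M a = -a :=
  cjM_eq_iff'.2 (by rw [Matrix.SpecialLinearGroup.coe_neg, neg_mul]; exact neg_eq_iff_eq_neg.1 h.symm)

theorem e16_step {A B : Subgroup G} {x : G} {n : ℕ} (hA : IsElementaryAbelian 2 A ∧ Nat.card A = n)
    (xx : x * x = 1) (hc : A ≤ Cen x) (hB : A ≤ B) (hx : x ∉ B) :
    IsElementaryAbelian 2 (A ⊔ zpowers x) ∧ Nat.card (A ⊔ zpowers x : Subgroup G) = 2 * n := by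
  have c : x ∈ 𝐂[A] := fun a ha => (mem_Cen.1 (hc ha)).symm
  have x2 : x ^ 2 = 1 := by rw [sq, xx]
  exact ⟨hA.1.sup_zpowers x2 c, hA.2 ▸ GT.PG.card_sup_zpowers Nat.prime_two (cent_le_norm A c)
    (fun k => hx (hB k)) (x2 ▸ one_mem _)⟩

/-- The part of the data that is invariant under conjugation. -/
structure Ac (σ : SL(2, F) →* G) (s : G) : Prop where
  cz : Cz σ s
  act : ∀ t', IsConj (σ (-1)) t' → Commute t' (σ (-1)) → t' ≠ σ (-1) → ¬ ∀ a, Commute t' (σ a)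
  cl : ∀ t t', IsConj (σ (-1)) t → t ≠ σ (-1) → IsConj (σ (-1)) t' → t' ≠ σ (-1) → ∀ M M',
    Ind σ t M → Ind σ t' M' → IsSquare (dt M * dt M')

theorem Cz.sq_of_conj (h : Cz σ s) (hb : IsConj (σ (-1)) b) : b * b = 1 := by
  obtain ⟨g, rfl⟩ := isConj_iff.1 hb
  exact (h.conj g).zz

theorem Cz.ne_of_conj (h : Cz σ s) (hb : IsConj (σ (-1)) b) : b ≠ 1 := by
  obtain ⟨g, rfl⟩ := isConj_iff.1 hb
  exact (h.conj g).z_ne

theorem Cz.norm_K (h : Cz σ s) (hc : Commute c (σ (-1))) : c ∈ 𝐍[σ.range ⊔ (tw σ s).range] := by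
  rw [← cj_eq_iff, cj_sup]
  by_cases n : c ∈ 𝐍[σ.range]
  · rw [cj_of_norm n, cj_of_norm (h.norm_tw.2 n)]
  · rw [(h.cj_swap hc n).1, (h.cj_swap hc n).2, sup_comm]

theorem Rg.ac (h : Rg σ s t) : Ac σ s := by
  refine ⟨h.cz, h.act, fun t1 t2 c1 n1 c2 n2 M1 M2 e1 e2 => ?_⟩
  obtain ⟨M, -, e, -⟩ := h.cz.ind_inv h.tn (h.cz.sq_of_conj h.zt)
  have k := ((h.cl t1 c1 n1 M M1 e e1).mul (h.cl t2 c2 n2 M M2 e e2)).mul (IsSquare.mul_self (dt M)⁻¹)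
  have h0 : dt M ≠ 0 := M.det_ne_zero
  rwa [show dt M * dt M1 * (dt M * dt M2) * ((dt M)⁻¹ * (dt M)⁻¹) = dt M1 * dt M2 by
    field_simp] at k

namespace Ac

theorem conj (h : Ac σ s) (g : G) : Ac (cjh g σ) (g * s * g⁻¹) := by
  have c : ∀ {t}, IsConj (cjh g σ (-1)) t → IsConj (σ (-1)) (g⁻¹ * t * g) := fun k =>
    ((isConj_cj _ g).trans k).trans (isConj_cj' _ g)
  have n : ∀ {t}, t ≠ cjh g σ (-1) → g⁻¹ * t * g ≠ σ (-1) := fun k e =>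
    k (by rw [cjh_apply, ← e]; group)
  exact ⟨h.cz.conj g, fun t k1 k2 k3 k4 => h.act _ (c k1) (commute_cj' k2) (n k3)
    fun a => commute_cj' (k4 a), fun t t' k1 k2 k3 k4 M M' e e' =>
      h.cl _ _ (c k1) (n k2) (c k3) (n k4) M M' (ind_cjh e) (ind_cjh e')⟩

theorem rebase (h : Ac σ s) (ff : r * r = 1) (hf : Commute r (σ (-1))) (n : r ∉ 𝐍[σ.range]) :
    Ac σ r := ⟨h.cz.rebase ff hf n, h.act, h.cl⟩

theorem act2 (h : Ac σ s) (h1 : IsConj (σ (-1)) b) (h2 : Commute b (σ (-1))) (h3 : b ≠ σ (-1)) :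
    ¬ ∀ a, Commute b (tw σ s a) := fun k =>
  h.act (s⁻¹ * b * s) (h1.trans (isConj_cj' _ s))
    (commute_cj' (by rwa [h.cz.sz.eq, mul_inv_cancel_right]))
    (fun e => h3 (by rw [← mul_inv_cancel_right (σ (-1)) s, ← h.cz.sz.eq, ← e]; group))
    fun a => commute_cj' (k a)

theorem a4_iff (h : Ac σ s) (h1 : IsConj (σ (-1)) b) (h2 : Commute b (σ (-1))) (h3 : b ≠ σ (-1)) :
    b ∉ 𝐍[σ.range] ↔ A4 (σ (-1)) b :=
  ⟨h.cz.a4 (h.cz.sq_of_conj h1) h2, fun k n =>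
    h.cz.not_a4 (h.cz.sq_of_conj h1) n (h.act b h1 h2 h3) (h.act2 h1 h2 h3) k⟩

/-- The swap relation is symmetric. -/
theorem sym (h : Ac σ s) (h' : Ac ρ r) (h1 : IsConj (σ (-1)) (ρ (-1)))
    (h2 : Commute (ρ (-1)) (σ (-1))) (h3 : ρ (-1) ≠ σ (-1)) :
    ρ (-1) ∈ 𝐍[σ.range] ↔ σ (-1) ∈ 𝐍[ρ.range] := by
  rw [← not_iff_not, h.a4_iff h1 h2 h3, h'.a4_iff h1.symm h2.symm h3.symm]
  exact ⟨A4.symm, A4.symm⟩

theorem exists_at (h : Ac σ s) (h1 : IsConj (σ (-1)) b) :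
    ∃ (θ : SL(2, F) →* G) (r : G), Ac θ r ∧ θ (-1) = b :=
  let ⟨g, e⟩ := isConj_iff.1 h1; ⟨_, _, h.conj g, e⟩

/-- `C(z) = K C(z, t)`. -/
theorem fact (h : Ac σ s) (h1 : IsConj (σ (-1)) t) (h3 : t ≠ σ (-1)) (ht : t ∈ 𝐍[σ.range])
    (hc : Commute c (σ (-1))) : ∃ k ∈ σ.range ⊔ (tw σ s).range, Commute k (σ (-1)) ∧
      Commute (k⁻¹ * c) t := by
  have h1' := h1.trans (isConj_cj t c)
  have ht' := h.cz.conj_norm' hc ht
  have h3' : c * t * c⁻¹ ≠ σ (-1) := fun e =>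
    h3 (by rw [← inv_mul_cancel_left c (σ (-1)), hc.eq, ← e]; group)
  have z := h.cz.z_of_norm ht
  have z' := h.cz.z_of_norm ht'
  obtain ⟨M, -, e, -⟩ := h.cz.ind_inv ht (h.cz.sq_of_conj h1)
  obtain ⟨M', -, e', -⟩ := h.cz.ind_inv ht' (h.cz.sq_of_conj h1')
  obtain ⟨a, b, k⟩ := h.cz.conjK (h.cz.sq_of_conj h1) (h.cz.sq_of_conj h1') e e'
    (h.cl _ _ h1 h3 h1' h3' M M' e e') (h.act t h1 z h3) (h.act2 h1 z h3) (h.act _ h1' z' h3')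
    (h.act2 h1' z' h3')
  refine ⟨_, mul_mem_sup ⟨a, rfl⟩ ⟨b, rfl⟩, h.cz.K_z a b, ?_⟩
  generalize σ a * tw σ s b = k' at k
  calc k'⁻¹ * c * t = k'⁻¹ * (c * t * c⁻¹) * c := by group
    _ = t * (k'⁻¹ * c) := by rw [← k]; group

theorem cen_le (h : Ac σ s) (h' : Cz ρ r) (h1 : IsConj (σ (-1)) (ρ (-1))) (h3 : ρ (-1) ≠ σ (-1))
    (ht : ρ (-1) ∈ 𝐍[σ.range]) :
    Cen (σ (-1)) ≤ 𝐍[(σ.range ⊔ (tw σ s).range) ⊔ (ρ.range ⊔ (tw ρ r).range)] := fun c hc => by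
  obtain ⟨k, hk, k1, k2⟩ := h.fact h1 h3 ht (mem_Cen.1 hc).symm
  have := mul_mem (le_normalizer (mem_sup_left hk)) (norm_sup
    (zpowers_le.2 (h.cz.norm_K (k1.inv_left.mul_left (mem_Cen.1 hc).symm)))
    (zpowers_le.2 (h'.norm_K k2)) (mem_zpowers _))
  rwa [mul_inv_cancel_left] at this

end Ac

/-- The swap can be chosen to normalize the factors at `t`. -/
theorem Rg.exists_v (h : Rg σ s t) : ∃ (v : G) (θ : SL(2, F) →* G) (r : G),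
    Rg σ v t ∧ Ac θ r ∧ θ (-1) = v ∧ t ∈ 𝐍[θ.range] := by
  obtain ⟨θ, r, hθ, rfl⟩ := h.ac.exists_at h.zs
  by_cases ht : t ∈ 𝐍[θ.range]
  · exact ⟨_, θ, r, h, hθ, rfl, ht⟩
  have tz := h.cz.z_of_norm h.tn
  have hz : σ (-1) ∉ 𝐍[θ.range] := fun k => h.cz.s_not_mem ((h.ac.sym hθ h.zs h.cz.sz
    fun e => h.cz.s_not_mem (e ▸ h.cz.σ_norm _)).2 k)
  have h1 := hθ.cz.mul_norm h.st.symm h.cz.sz.symm ht hz
  obtain ⟨a, -, e⟩ := h.cz.conj_z (h.cz.sq_of_conj h.zt) h.tn (h.act t h.zt tz h.ne)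
  have c1 : IsConj (σ (-1)) ((σ a)⁻¹ * θ (-1) * (σ a)⁻¹⁻¹) := h.zs.trans (isConj_cj _ _)
  have c2 : Commute ((σ a)⁻¹ * θ (-1) * (σ a)⁻¹⁻¹) (σ (-1)) :=
    ((h.cz.σ_z a).inv_left.mul_left h.cz.sz).mul_left (h.cz.σ_z a).inv_left.inv_left
  have c3 : (σ a)⁻¹ * θ (-1) * (σ a)⁻¹⁻¹ ∉ 𝐍[σ.range] := fun k => h.cz.s_not_mem
    ((mul_mem_cancel_left (inv_mem (h.cz.σ_norm a))).1
      ((mul_mem_cancel_right (inv_mem (inv_mem (h.cz.σ_norm a)))).1 k))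
  refine ⟨_, _, _, ⟨h.cz.rebase (h.cz.sq_of_conj c1) c2 c3, c1, h.zt, h.ne, h.tn, ?_, h.act, h.cl,
    ?_, h.term⟩, hθ.conj (σ a)⁻¹, rfl, mem_norm_cjh.2 (by rwa [inv_inv, e])⟩
  · rw [inv_inv]; exact commute_cj' (e ▸ h.st.mul_right h.cz.sz)
  · rw [h.cz.Zt_eq c2 c3]; exact h.typ

theorem Rg.exists_tri [IsSimpleGroup G] (h : Rg σ s t) : ∃ (g : G) (μ : SL(2, F) →* G) (v w : G),
    cjh g σ (-1) = t ∧ Tri σ (cjh g σ) μ v w ∧ Rg σ v t ∧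
      σ.range ⊔ (cjh g σ).range ⊔ (tw σ v).range = ⊤ := by
  obtain ⟨v, θ, r, h, hθ, rfl, tθ⟩ := h.exists_v
  obtain ⟨g, hg⟩ := isConj_iff.1 h.zt
  have hρ := h.ac.conj g
  obtain rfl : cjh g σ (-1) = t := hg
  set ρ := cjh g σ
  have hz := h.cz
  have tt := hρ.cz.zz
  have tz := hz.z_of_norm h.tn
  have vσ := hz.s_not_mem
  have zσ := hz.σ_norm (-1)
  have tρ := hρ.cz.σ_norm (-1)
  have zρ := (h.ac.sym hρ h.zt tz h.ne).1 h.tn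
  have vρ := (hρ.sym hθ (h.zt.symm.trans h.zs) h.st fun e => vσ (e ▸ h.tn)).2 tθ
  have zθ : σ (-1) ∉ 𝐍[θ.range] := fun k =>
    vσ ((h.ac.sym hθ h.zs hz.sz fun e => vσ (e ▸ zσ)).2 k)
  obtain ⟨M, -, e1, -⟩ := hz.ind_inv h.tn tt
  have e2 := hz.ind_tw h.st.symm e1
  have n1 := h.act _ h.zt tz h.ne
  obtain ⟨a, ha, an⟩ := exists_anti hz.odd (hz.tr_zero tt e1 n1)
  have k1 : ¬ Commute (ρ (-1)) (σ a) := fun k => hz.z_ne (by
    have := e1 a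
    rwa [k.eq, mul_inv_cancel_right, cjM_of_anti an, hz.σ_neg, right_eq_mul] at this)
  have k2 : ¬ Commute (ρ (-1)) (tw σ (θ (-1)) a) := fun k => hz.z_ne (by
    have := e2 a
    rwa [k.eq, mul_inv_cancel_right, cjM_of_anti an, hz.tw_neg, right_eq_mul] at this)
  have wa : Commute (dj σ (θ (-1)) a) (σ a) := (Commute.refl _).mul_left (hz.comm a a).symm
  have wa' : Commute (dj σ (θ (-1)) a) (tw σ (θ (-1)) a) := (hz.comm a a).mul_left (.refl _)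
  have wt : Commute (dj σ (θ (-1)) a) (ρ (-1)) := by
    have : ρ (-1) * dj σ (θ (-1)) a * (ρ (-1))⁻¹ = dj σ (θ (-1)) (-a) := by
      rw [dj, dj, ← cjM_of_anti an, ← e1, ← e2]; group
    rw [hz.dj_neg] at this
    exact (mul_inv_eq_iff_eq_mul.1 this).symm
  have wσ : dj σ (θ (-1)) a ∈ 𝐍[σ.range] := hz.K_norm a a
  have wi : Ind σ (dj σ (θ (-1)) a) (tG a) := hz.ind_K a a
  have wK : dj σ (θ (-1)) a ∈ σ.range ⊔ (tw σ (θ (-1))).range := mul_mem_sup ⟨a, rfl⟩ ⟨a, rfl⟩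
  have wZ : dj σ (θ (-1)) a ∉ Zt σ (θ (-1)) := fun k => by
    have : (-1 : SL(2, F)) = 1 := by rcases (hz.K_mem_Zt k).1 with rfl | rfl <;> simpa using ha.symm
    exact hz.z_ne (by rw [this, map_one])
  have ww := hz.dj_sq ha
  have wz := hz.dj_z a
  have wv := hz.dj_s a
  generalize dj σ (θ (-1)) a = w at *
  have wρ : w ∉ 𝐍[ρ.range] := fun wρ => by
    have s1 := e16_step (A := ⊥) (n := 1) ⟨IsElementaryAbelian.bot, card_bot⟩ hz.zz bot_le le_rfl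
      (fun k => hz.z_ne (mem_bot.1 k))
    have s2 := e16_step s1 ww (sup_le bot_le (zpowers_le.2 (mem_Cen.2 wz)))
      (sup_le bot_le (zpowers_le.2 hz.z_mem_Zt)) wZ
    have s3 := e16_step (B := Cen (σ a)) s2 tt (sup_le (sup_le bot_le (zpowers_le.2 (mem_Cen.2 tz)))
      (zpowers_le.2 (mem_Cen.2 wt.symm))) (sup_le (sup_le bot_le (zpowers_le.2
        (mem_Cen.2 (hz.σ_z a)))) (zpowers_le.2 (mem_Cen.2 wa.symm))) fun k => k1 (mem_Cen.1 k).symm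
    have s4 := e16_step s3 hz.ss (sup_le (sup_le (sup_le bot_le (zpowers_le.2 (mem_Cen.2 hz.sz)))
      (zpowers_le.2 (mem_Cen.2 wv.symm))) (zpowers_le.2 (mem_Cen.2 h.st)))
      (sup_le (sup_le (sup_le bot_le (zpowers_le.2 zσ)) (zpowers_le.2 wσ)) (zpowers_le.2 h.tn)) vσ
    exact hρ.cz.no16 s4 (sup_le (sup_le (sup_le (sup_le bot_le (zpowers_le.2 zρ))
      (zpowers_le.2 wρ)) (zpowers_le.2 tρ)) (zpowers_le.2 vρ))
  have hw := hρ.rebase ww wt wρ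
  obtain ⟨n, -, en⟩ := hz.conj_z tt h.tn n1
  have hμ := hρ.conj (σ n)
  have eμ : cjh (σ n) ρ (-1) = σ (-1) * ρ (-1) := en.trans tz.eq
  have cμ : IsConj (σ (-1)) (cjh (σ n) ρ (-1)) := h.zt.trans (isConj_cj _ _)
  generalize cjh (σ n) ρ = μ at hμ eμ cμ
  have μσ : μ (-1) ∈ 𝐍[σ.range] := eμ ▸ mul_mem zσ h.tn
  have vμ' : Commute (θ (-1)) (μ (-1)) := eμ ▸ hz.sz.mul_right h.st
  have vμ : θ (-1) ∉ 𝐍[μ.range] := fun k => zθ ((mul_mem_cancel_right tθ).1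
    (eμ ▸ (hμ.sym hθ (cμ.symm.trans h.zs) vμ' fun e => vσ (e ▸ μσ)).1 k))
  have zμ := (h.ac.sym hμ cμ (hz.z_of_norm μσ) fun e =>
    hρ.cz.z_ne (by rwa [eμ, mul_eq_left] at e)).1 μσ
  have tμ : ρ (-1) ∈ 𝐍[μ.range] := (mul_mem_cancel_left zμ).1 (eμ ▸ hμ.cz.σ_norm (-1))
  have wt2 : w * ρ (-1) * (w * ρ (-1)) = 1 := by
    rw [mul_assoc, ← mul_assoc (ρ (-1)), ← wt.eq, mul_assoc, tt, mul_one, ww]
  have m1 : ¬ Commute (w * ρ (-1)) (σ a) := fun k => k1 (by simpa using wa.inv_left.mul_left k)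
  obtain ⟨x, y, ek⟩ := hz.conjK tt wt2 e1 (wi.mul e1)
    (by rw [dt, dt, Units.val_mul, Matrix.det_mul, show (tG a : Mat F).det = 1 from a.det_coe,
      one_mul]; exact IsSquare.mul_self _)
    n1 (fun k => k2 (k a)) (fun k => m1 (k a))
    fun k => k2 (by simpa using wa'.inv_left.mul_left (k a))
  have cη : IsConj (σ (-1)) (w * ρ (-1)) := h.zt.trans (ek ▸ isConj_cj _ _)
  obtain ⟨η, r', hη, eη⟩ := h.ac.exists_at cη
  rw [← eη] at cη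
  have zη := (h.ac.sym hη cη (eη ▸ wz.mul_left tz) fun e => m1 (eη ▸ e ▸ (hz.σ_z a).symm)).1
    (eη ▸ mul_mem wσ h.tn)
  have tη : ρ (-1) ∉ 𝐍[η.range] := fun k => wρ ((mul_mem_cancel_right tρ).1 (eη ▸
    (hρ.sym hη (h.zt.symm.trans cη) (eη ▸ wt.mul_left (.refl _)) fun e =>
      wZ (by rw [eη, mul_eq_right] at e; exact e ▸ one_mem _)).2 k))
  have wμ' : Commute w (μ (-1)) := eμ ▸ wz.mul_right wt
  have wμ : w ∉ 𝐍[μ.range] := fun k => tη ((mul_mem_cancel_left zη).1 (eμ ▸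
    (hμ.sym hη (cμ.symm.trans cη) (eη ▸ wμ'.mul_left (hμ.cz.z_of_norm tμ)) fun e =>
      wZ (by rw [eη, eμ, mul_left_inj] at e; exact e ▸ hz.z_mem_Zt)).1 (eη ▸ mul_mem k tμ)))
  refine ⟨g, μ, _, w, rfl, ⟨hz, hw.cz, hμ.cz.rebase hz.ss vμ' vμ, eμ, h.ne, wv.symm, h.tn, wσ, zρ,
    vρ, zμ, hμ.cz.mul_norm vμ' wμ' vμ wμ⟩, h, ?_⟩
  have hn := normalizer_eq_top_iff.1 (h.term _ (h.ac.cen_le hw.cz h.zt h.ne h.tn)
    (sup_comm (ρ.range ⊔ _) _ ▸ hw.cen_le hz h.zt.symm h.ne.symm zρ))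
  have e := hn.eq_bot_or_eq_top.resolve_left fun e =>
    hz.z_ne (mem_bot.1 (e ▸ mem_sup_left (mem_sup_left ⟨-1, rfl⟩)))
  have l : σ.range ⊔ (tw σ (θ (-1))).range ≤ σ.range ⊔ ρ.range ⊔ (tw σ (θ (-1))).range :=
    sup_le_sup_right le_sup_left _
  have l' : ρ.range ≤ σ.range ⊔ ρ.range ⊔ (tw σ (θ (-1))).range := le_sup_right.trans le_sup_left
  refine top_le_iff.1 (e.ge.trans (sup_le l (sup_le l' ?_)))
  rintro _ ⟨b, rfl⟩
  exact mul_mem (mul_mem (l wK) (l' ⟨b, rfl⟩)) (inv_mem (l wK))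

end Cfsg.Agent.L4
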