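import Mathlib
import Cfsg.Agent.L4.Basic
import Cfsg.Agent.L4.Sig
import Cfsg.Agent.L4.Tri
import Cfsg.Agent.P4.Lift
import Cfsg.Agent.Cl.QuadClassify

/-! Consequences of `Gen` -/

set_option autoImplicit false
set_option linter.unusedSectionVars false

namespace Cfsg.Agent.L4

open Cfsg.Agent.Loc.Mss Cfsg.Agent.GW Subgroup Cfsg.Agent.P4 Cfsg.Agent.G2T Cfsg.Agent.Cl.GL2
open scoped MatrixGroups

variable {G X : Type*} [Group G] [Finite G] [Group X] {F : Type} [Field F] [Fintype F]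

namespace GA

variable {z a b g : G} {π : G → X} {x : X} {σ : SL(2, F) →* X} {E Y : Subgroup G}

/-- The preimage in `C(z)`. -/
def pre (q : Quo z π) (U : Subgroup X) : Subgroup G := (U.comap q.hom).map (Cen z).subtype

theorem mem_pre (q : Quo z π) {U : Subgroup X} : g ∈ pre q U ↔ Commute g z ∧ π g ∈ U :=
  ⟨fun ⟨y, hy, e⟩ => e ▸ ⟨(mem_Cen.1 y.2).symm, hy⟩, fun ⟨c, hy⟩ => ⟨⟨g, mem_Cen.2 c.symm⟩, hy, rfl⟩⟩

theorem pg_four (aa : a * a = 1) (bb : b * b = 1) (c : Commute a b) :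
    IsPGroup 2 (zpowers a ⊔ zpowers b : Subgroup G) :=
  (GT.isElementaryAbelian_four_group (by rw [pow_two, aa]) (by rw [pow_two, bb]) c).isPGroup

theorem four_le {U : Subgroup G} (ha : a ∈ U) (hb : b ∈ U) : zpowers a ⊔ zpowers b ≤ U :=
  sup_le (zpowers_le.2 ha) (zpowers_le.2 hb)

theorem inj (q : Quo z π) (aa : a * a = 1) (bb : b * b = 1) (c : Commute a b) (ca : Commute a z)
    (cb : Commute b z) (e : π a = π b) : a = b :=
  q.inj_two (pg_four aa bb c) (four_le (mem_Cen.2 ca.symm) (mem_Cen.2 cb.symm)) (mem_sup_left (mem_zpowers a))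
    (mem_sup_right (mem_zpowers b)) e

theorem lift2 (q : Quo z π) (aa : a * a = 1) (bb : b * b = 1) (c : Commute a b) (ca : Commute a z)
    (cb : Commute b z) (xx : x * x = 1) (xa : Commute x (π a)) (xb : Commute x (π b)) :
    ∃ v, v * v = 1 ∧ Commute v z ∧ Commute v a ∧ Commute v b ∧ π v = x := by
  obtain ⟨v, h1, h2, h3, h4⟩ := q.lift_inv (pg_four aa bb c) (four_le (mem_Cen.2 ca.symm) (mem_Cen.2 cb.symm)) xx
    fun p hp => mem_Cen.1 ((mem_pre q).1 (four_le (U := pre q (Cen x)) ((mem_pre q).2 ⟨ca, mem_Cen.2 xa⟩)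
      ((mem_pre q).2 ⟨cb, mem_Cen.2 xb⟩) hp)).2
  exact ⟨v, h1, h2, h3 _ (mem_sup_left (mem_zpowers a)), h3 _ (mem_sup_right (mem_zpowers b)), h4⟩

theorem cen1 (q : Quo z π) (aa : a * a = 1) (ca : Commute a z) (xa : Commute x (π a)) :
    ∃ g, Commute g z ∧ Commute g a ∧ π g = x := by
  obtain ⟨g, g1, g2, g3, -⟩ := q.lift_cen (isPGroup_zpowers_inv aa) (zpowers_le.2 (mem_Cen.2 ca.symm))
    (q.comm_zpowers ca xa)
  exact ⟨g, g1, g2 _ (mem_zpowers _), g3⟩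

theorem cz_conj (hg : Commute g z) (ha : Commute a z) : Commute (g * a * g⁻¹) z :=
  (hg.mul_left ha).mul_left hg.inv_left

theorem im_odd (q : Quo z π) (ho : Odd (Nat.card Y)) : Odd (Nat.card (q.im Y)) :=
  ho.of_dvd_nat ((card_map_dvd _ _).trans (card_comap_dvd_of_injective _ _ (subtype_injective _)))

theorem im_norm (q : Quo z π) (hg : Commute g z) (hn : g ∈ 𝐍[Y]) : π g ∈ 𝐍[q.im Y] := by
  have := q.finite
  refine mem_norm_of_cj_le (cj_le_iff.2 fun y hy => ?_)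
  obtain ⟨y, hy', c1, rfl⟩ := q.mem_im.1 hy
  exact q.mem_im.2 ⟨_, conj_mem_of_norm hn hy', cz_conj hg c1, q.conj hg c1⟩

theorem im_le (q : Quo z π) (ha : Commute a z) (hY : Y ≤ Cen a) : q.im Y ≤ Cen (π a) := fun x hx => by
  obtain ⟨y, hy, c1, rfl⟩ := q.mem_im.1 hx
  exact mem_Cen.2 (q.comm ha c1 (mem_Cen.1 (hY hy)))

theorem im_e16 (q : Quo z π) (hE : E16 E) (hz : E ≤ Cen z) : E16 (q.im E) := by
  refine ⟨(hE.1.subgroupOf _).map _, ?_⟩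
  rw [← hE.2, ← Nat.card_congr (subgroupOfEquivOfLe hz).toEquiv]
  exact (Nat.card_congr (Equiv.ofBijective (q.hom.subgroupMap _) ⟨fun a b e => Subtype.ext (Subtype.ext
    (q.inj_two hE.1.isPGroup hz a.2 b.2 (congrArg Subtype.val e))), MonoidHom.subgroupMap_surjective _ _⟩)).symm

theorem a4_down (q : Quo z π) (hb : Commute b z) (h : A4 z b) : A4 (π z) (π b) := by
  obtain ⟨v, g, h1, h2, h3, h4, h5, h6, h7, h8⟩ := h
  have h9 := cz_conj h4 h2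
  refine ⟨π v, π g, q.sq h2 h1, q.central _, q.comm h2 hb h3, q.central _, q.comm h4 hb h5, ?_, ?_, ?_⟩
  · rw [← q.conj h4 h2]; exact q.comm h2 h9 h6
  · rw [← q.conj h4 h2]
    exact fun e => h7 (inj q (by rw [conj_mul, h1, mul_one, mul_inv_cancel]) h1 h6.symm h9 h2 e)
  · rw [← q.conj h4 h2, ← q.conj h4 h9, ← q.mul _ _ h2 h9, h8]

theorem a4_up (q : Quo z π) (bb : b * b = 1) (hb : Commute b z) (h : A4 (π z) (π b)) : A4 z b := by
  obtain ⟨v, g, h1, -, h3, -, h5, h6, h7, h8⟩ := h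
  obtain ⟨v1, a1, a2, a3, -, rfl⟩ := lift2 q bb bb (.refl b) hb hb h1 h3 h3
  obtain ⟨v2, b1, b2, b3, b4, b5⟩ := lift2 q bb a1 a3.symm hb a2 (x := g * π v1 * g⁻¹)
    (by rw [conj_mul, h1, mul_one, mul_inv_cancel]) ((h5.mul_left h3).mul_left h5.inv_left) h6.symm
  have hP : IsPGroup 2 (zpowers b ⊔ zpowers v1 ⊔ zpowers v2 : Subgroup G) :=
    ((GT.isElementaryAbelian_four_group (by rw [pow_two, bb]) (by rw [pow_two, a1]) a3.symm).sup_zpowers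
      (by rw [pow_two, b1]) fun p hp => (mem_Cen.1 (four_le (mem_Cen.2 b3) (mem_Cen.2 b4) hp)).symm).isPGroup
  have m0 : b ∈ zpowers b ⊔ zpowers v1 ⊔ zpowers v2 := mem_sup_left (mem_sup_left (mem_zpowers _))
  have m1 : v1 ∈ zpowers b ⊔ zpowers v1 ⊔ zpowers v2 := mem_sup_left (mem_sup_right (mem_zpowers _))
  have m2 : v2 ∈ zpowers b ⊔ zpowers v1 ⊔ zpowers v2 := mem_sup_right (mem_zpowers _)
  have le : ∀ {U : Subgroup G}, b ∈ U → v1 ∈ U → v2 ∈ U → zpowers b ⊔ zpowers v1 ⊔ zpowers v2 ≤ U :=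
    fun h1 h2 h3 => sup_le (four_le h1 h2) (zpowers_le.2 h3)
  generalize zpowers b ⊔ zpowers v1 ⊔ zpowers v2 = P at *
  have hz : P ≤ Cen z := le (mem_Cen.2 hb.symm) (mem_Cen.2 a2.symm) (mem_Cen.2 b2.symm)
  have e0 : π b = g * π b * g⁻¹ := by rw [h5.eq, mul_inv_cancel_right]
  have e2 : π (v1 * v2) = g * π v2 * g⁻¹ := by rw [q.mul _ _ a2 b2, b5, h8]
  obtain ⟨k, k1, k2, rfl⟩ := q.lift_norm hP hz (x := g) fun p hp => by
    obtain ⟨y, hy, -, e⟩ := q.mem_im.1 ((mem_pre q).1 (le (U := pre q ((q.im P).comap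
      (MulAut.conj g).toMonoidHom)) ((mem_pre q).2 ⟨hb, q.mem_im.2 ⟨b, m0, hb, e0⟩⟩)
      ((mem_pre q).2 ⟨a2, q.mem_im.2 ⟨v2, m2, b2, b5⟩⟩)
      ((mem_pre q).2 ⟨b2, q.mem_im.2 ⟨_, mul_mem m1 m2, a2.mul_left b2, e2⟩⟩) hp)).2
    exact ⟨y, hy, e.symm⟩
  have c0 := q.inj_two hP hz (conj_mem_of_norm k2 m0) m0 ((q.conj k1 hb).trans e0.symm)
  have c1 := q.inj_two hP hz (conj_mem_of_norm k2 m1) m2 ((q.conj k1 a2).trans b5.symm)
  have c2 := q.inj_two hP hz (conj_mem_of_norm k2 m2) (mul_mem m1 m2) ((q.conj k1 b2).trans e2.symm)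
  refine ⟨v1, k, a1, a2, a3, k1, mul_inv_eq_iff_eq_mul.1 c0, c1 ▸ b4.symm, fun e => h7 ?_, by rw [c1, c2]⟩
  rw [← q.conj k1 a2, e]

theorem dj_not_mem {s : X} (c : Cz σ s) {a : SL(2, F)} (ha : a * a = -1) : dj σ s a ∉ Zt σ s := fun k => by
  have : (-1 : SL(2, F)) = 1 := by rcases (c.K_mem_Zt k).1 with rfl | rfl <;> simpa using ha.symm
  exact c.z_ne (by rw [this, map_one])

/-- A swap in the coset `K s` is conjugate to `s` or `z s`. -/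
theorem conj_swap [Finite X] {s s' f : X} (c : Cz σ s) (ss : s' * s' = 1) (hs : Commute s' (σ (-1)))
    (n : s' ∉ 𝐍[σ.range]) (ff : f * f = 1) {a b : SL(2, F)} (e : f = σ a * tw σ s b * s') :
    ∃ y, y * f * y⁻¹ = s' ∨ y * f * y⁻¹ = σ (-1) * s' := by
  have c' := c.rebase ss hs n
  obtain ⟨b', e'⟩ : tw σ s b ∈ (tw σ s').range := c.range_tw_eq hs n ▸ ⟨b, rfl⟩
  rw [← e'] at e
  have h1 : σ (a * b') * tw σ s' (b' * a) = 1 := by
    rw [← c'.mul_mul, ← c'.conj_s a b', ← ff, e, c'.s_inv]; group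
  have h2 : σ a⁻¹ * f * (σ a⁻¹)⁻¹ = tw σ s' (b' * a) * s' := by
    rw [e, map_mul, tw_apply σ s' a, map_inv]; group
  refine ⟨σ a⁻¹, ?_⟩
  rcases c'.eq_one_iff.1 h1 with h3 | h3 <;> rw [h2, h3.2]
  exacts [.inl (by rw [map_one, one_mul]), .inr (by rw [c'.tw_z])]

theorem dt_mul (M N : GL (Fin 2) F) : dt (M * N) = dt M * dt N := Matrix.det_mul _ _

theorem sq_iff {M N : GL (Fin 2) F} : IsSquare (dt M * dt N) ↔ (IsSquare (dt M) ↔ IsSquare (dt N)) :=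
  Cl.quad_isSquare_mul_iff M.det_ne_zero N.det_ne_zero

/-- In type A every swap involution commutes with a conjugate of `t`. -/
theorem exists_comm [Finite X] {s t f : X} (c : Cz σ s) (hz : ∀ x, Commute x (σ (-1)))
    (hc : ∀ c ∈ Zt σ s, c = 1 ∨ c = σ (-1)) (tt : t * t = 1) (tn : t ∈ 𝐍[σ.range]) (st : Commute s t)
    (out : ∀ M, Ind σ t M → ¬ IsSquare (dt M)) (ff : f * f = 1) (n : f ∉ 𝐍[σ.range]) :
    ∃ y, Commute (y * t * y⁻¹) f := by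
  have eqK : ∀ {g M N}, Ind σ g M → Ind (tw σ s) g N → IsSquare (dt M) → IsSquare (dt N) →
      ∃ a b, g = σ a * tw σ s b := fun e1 e2 h1 h2 => by
    obtain ⟨a, b, u, h3, rfl⟩ := c.eq_K e1 e2 h1 h2
    rcases hc u h3 with rfl | rfl
    exacts [⟨a, b, mul_one _⟩, ⟨-a, b, (c.neg_left a b).symm⟩]
  obtain ⟨j, m, ⟨i, rfl⟩, e⟩ := Nat.exists_eq_two_pow_mul_odd (orderOf_pos (f * s)).ne'
  have h1 : (f * s) ^ i * f * ((f * s) ^ i)⁻¹ = (f * s) ^ (2 * i + 1) * s := by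
    have h2 : f * (f * s)⁻¹ * f⁻¹ = f * s := by
      rw [mul_inv_rev, c.s_inv, inv_eq_of_mul_eq_one_right ff, mul_assoc, mul_assoc, ff, mul_one]
    have h3 : f * ((f * s) ^ i)⁻¹ * f⁻¹ = (f * s) ^ i := by rw [← inv_pow, ← conj_pow, h2]
    rw [pow_succ, two_mul, pow_add, mul_assoc _ (f * s), mul_assoc f, c.ss, mul_one, mul_assoc,
      mul_inv_eq_iff_eq_mul.1 h3, mul_assoc]
  have h2 : (f * s) ^ (2 * i + 1) * s * ((f * s) ^ (2 * i + 1) * s) = 1 := by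
    rw [← h1, conj_mul, ff, mul_one, mul_inv_cancel]
  obtain ⟨M, N, e1, e2, e3⟩ := c.ind2 (pow_mem (c.mul_norm (hz f) c.sz n c.s_not_mem) (2 * i + 1))
    ⟨j, by rw [← pow_mul, mul_comm, ← e, pow_orderOf_eq_one]⟩
  have fin : ∀ s' y, Commute s' t → y * ((f * s) ^ (2 * i + 1) * s) * y⁻¹ = s' ∨
      y * ((f * s) ^ (2 * i + 1) * s) * y⁻¹ = σ (-1) * s' → ∃ y, Commute (y * t * y⁻¹) f := fun s' y h3 h4 => by
    have h5 : Commute t (y * (f * s) ^ i * f * (y * (f * s) ^ i)⁻¹) := by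
      rw [show y * (f * s) ^ i * f * (y * (f * s) ^ i)⁻¹ = y * ((f * s) ^ i * f * ((f * s) ^ i)⁻¹) * y⁻¹ by group, h1]
      rcases h4 with h4 | h4 <;> rw [h4]
      exacts [h3.symm, (hz t).mul_right h3.symm]
    exact ⟨(y * (f * s) ^ i)⁻¹, by rw [inv_inv]; exact commute_cj' h5⟩
  by_cases hM : IsSquare (dt M)
  · obtain ⟨a, b, e4⟩ := eqK e1 e2 hM ((sq_iff.1 e3).1 hM)
    obtain ⟨y, hy⟩ := conj_swap c c.ss c.sz c.s_not_mem h2 (congrArg (· * s) e4)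
    exact fin _ y st hy
  · obtain ⟨M', N', e4, e5, e6⟩ := c.ind_inv tn tt
    obtain ⟨a, b, e7⟩ := eqK (e1.mul e4) (e2.mul e5) (dt_mul M M' ▸ sq_iff.2 (iff_of_false hM (out _ e4)))
      (dt_mul N N' ▸ sq_iff.2 ((sq_iff.1 e3).symm.trans ((iff_of_false hM (out _ e4)).trans (sq_iff.1 e6))))
    obtain ⟨y, hy⟩ := conj_swap c (s' := t * s) (by rw [st.mul_mul_mul_comm, tt, c.ss, one_mul]) (hz _)
      (fun k => c.s_not_mem ((mul_mem_cancel_left tn).1 k)) h2 (a := a) (b := b) (by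
        rw [← e7, mul_assoc _ t, ← mul_assoc t, tt, one_mul])
    exact fin _ y ((Commute.refl t).mul_left st) hy

end GA

open GA

namespace Gen

variable {z s t : G} {π : G → X} {σ : SL(2, F) →* X} (h : Gen z s t π σ) {a b f g t' : G}
  {E : Subgroup G}
include h

theorem z1 : z ≠ 1 := fun e => h.cz.z_ne (by rw [← h.hz, e]; exact h.quo.one)
theorem sq (ha : IsConj z a) : a * a = 1 := by
  obtain ⟨g, rfl⟩ := isConj_iff.1 ha
  rw [conj_mul, h.zz, mul_one, mul_inv_cancel]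
theorem ctr (x : X) : Commute x (σ (-1)) := h.hz ▸ h.quo.central x
theorem pi_inj (aa : a * a = 1) (bb : b * b = 1) (c : Commute a b) (ca : Commute a z)
    (cb : Commute b z) (e : π a = π b) : a = b := inj h.quo aa bb c ca cb e
theorem act (ht : IsConj z t') (c : Commute t' z) (n : t' ≠ z) : ¬ ∀ a, Commute (π t') (σ a) := fun k =>
  h.typ.elim (fun A => A.out t' ht c n 1 (Ind.of_comm k ⟨rfl, rfl, rfl⟩) (by simp [dt])) fun B => B.act t' ht c n k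
theorem act' (ht : IsConj z t') (c : Commute t' z) (n : t' ≠ z) :
    ¬ ∀ a, Commute (π t') (tw σ (π s) a) := fun k =>
  have := h.quo.finite
  h.act (ht.trans (isConj_cj t' s)) (cz_conj h.sz c)
    (fun e => n (by rw [mul_inv_eq_iff_eq_mul, ← h.sz.eq] at e; exact mul_left_cancel e)) fun a => by
    rw [h.quo.conj h.sz c, ← h.cz.conj_tw a]; exact commute_cj (k a) _
theorem cl (ht : IsConj z t') (c : Commute t' z) (n : t' ≠ z) {M M' : GL (Fin 2) F}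
    (e : Ind σ (π t) M) (e' : Ind σ (π t') M') : IsSquare (dt M * dt M') :=
  h.typ.elim (fun A => sq_iff.2 (iff_of_false (A.out t h.zt h.tz h.ne M e) (A.out t' ht c n M' e'))) fun B =>
    (B.inn _ (h.quo.sq h.tz (h.sq h.zt)) M e).mul (B.inn _ (h.quo.sq c (h.sq ht)) M' e')

theorem ga_cls (aa : a * a = 1) (c : Commute a z) {M M' : GL (Fin 2) F} (e : Ind σ (π t) M)
    (e' : Ind σ (π a) M') (hM : IsSquare (dt M * dt M')) (n1 : ¬ ∀ b, Commute (π a) (σ b))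
    (n2 : ¬ ∀ b, Commute (π a) (tw σ (π s) b)) :
    ∃ g, Commute g z ∧ (∃ a b, π g = σ a * tw σ (π s) b) ∧ g * t * g⁻¹ = a := by
  have := h.quo.finite
  obtain ⟨x, y, k⟩ := h.cz.conjK (h.quo.sq h.tz (h.sq h.zt)) (h.quo.sq c aa) e e' hM (h.act h.zt h.tz h.ne)
    (h.act' h.zt h.tz h.ne) n1 n2
  obtain ⟨g, g1, g2, g3⟩ := h.quo.lift_conj (h.sq h.zt) aa h.tz c k
  exact ⟨g, g1, ⟨x, y, g2⟩, g3⟩

/-- The elements of `𝒯 ∩ N₀` other than `z` are conjugate to `t`. -/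
theorem cls (ht : IsConj z t') (hc : t' ∈ h.C0) (n : t' ≠ z) :
    ∃ g, Commute g z ∧ (∃ a b, π g = σ a * tw σ (π s) b) ∧ g * t * g⁻¹ = t' := by
  have := h.quo.finite
  obtain ⟨c, hn⟩ := h.mem_C0.1 hc
  obtain ⟨M, -, e, -⟩ := h.cz.ind_inv h.tn (h.quo.sq h.tz (h.sq h.zt))
  obtain ⟨M', -, e', -⟩ := h.cz.ind_inv hn (h.quo.sq c (h.sq ht))
  exact h.ga_cls (h.sq ht) c e e' (h.cl ht c n e e') (h.act ht c n) (h.act' ht c n)
/-- An involution of `N₀` that acts like `t` is in `𝒯`. -/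
theorem isConj_of (aa : a * a = 1) (c : Commute a z) {M M' : GL (Fin 2) F} (e : Ind σ (π t) M)
    (e' : Ind σ (π a) M') (hM : IsSquare (dt M * dt M')) (n1 : ¬ ∀ b, Commute (π a) (σ b))
    (n2 : ¬ ∀ b, Commute (π a) (tw σ (π s) b)) : IsConj z a := by
  obtain ⟨g, -, -, rfl⟩ := h.ga_cls aa c e e' hM n1 n2
  exact h.zt.trans (isConj_cj t g)
theorem mul_z (ht : IsConj z t') (hc : t' ∈ h.C0) (n : t' ≠ z) :
    ∃ g, Commute g z ∧ g * t' * g⁻¹ = t' * z := by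
  have := h.quo.finite
  obtain ⟨c, hn⟩ := h.mem_C0.1 hc
  obtain ⟨x, -, k⟩ := h.cz.conj_z (h.quo.sq c (h.sq ht)) hn (h.act ht c n)
  obtain ⟨g, g1, -, g3⟩ := h.quo.lift_conj (v' := t' * z) (h.sq ht)
    (by rw [c.symm.mul_mul_mul_comm, h.sq ht, h.zz, one_mul]) c (c.mul_left (.refl z))
    (k.trans (by rw [h.quo.mul _ _ c (.refl z), h.hz]))
  exact ⟨g, g1, g3⟩

theorem ga_not (c : Commute f z) (n : f ∉ h.C0) : π f ∉ 𝐍[σ.range] := fun k => n (h.mem_C0.2 ⟨c, k⟩)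

theorem ga_rebase (ff : f * f = 1) (c : Commute f z) (n : f ∉ h.C0) : Cz σ (π f) :=
  have := h.quo.finite
  h.cz.rebase (h.quo.sq c ff) (h.ctr _) (h.ga_not c n)

theorem ga_Zt (c : Commute f z) (n : f ∉ h.C0) : Zt σ (π f) = Zt σ (π s) :=
  have := h.quo.finite
  h.cz.Zt_eq (h.ctr _) (h.ga_not c n)

theorem ga_uniq (aa : a * a = 1) (c : Commute a z) (e : π a ∈ Zt σ (π s)) : a = 1 ∨ a = z :=
  (h.cz.uniq _ e (h.quo.sq c aa)).imp
    (fun e => h.pi_inj aa (one_mul 1) (.one_right a) c (.one_left z) (e.trans h.quo.one.symm))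
    fun e => h.pi_inj aa h.zz c c (.refl z) (e.trans h.hz.symm)

theorem ga_nt {x : X} (c : Commute f z) (n : f ∉ h.C0) (e : Commute x (π f)) (hx : x ∉ Zt σ (π s)) :
    (¬ ∀ b, Commute x (σ b)) ∧ ¬ ∀ b, Commute x (tw σ (π s) b) :=
  have := h.quo.finite
  ⟨fun k => hx (h.cz.mem_Zt_of_swap (h.ctr _) (h.ga_not c n) e k),
    fun k => hx (h.cz.mem_Zt_of_swap' (h.ctr _) (h.ga_not c n) e k)⟩

theorem ex (ff : f * f = 1) (c : Commute f z) (n : f ∉ h.C0) :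
    ∃ d, IsConj z d ∧ d ≠ z ∧ d ∈ h.C0 ∧ Commute d f := by
  have := h.quo.finite
  have tt := h.quo.sq h.tz (h.sq h.zt)
  rcases h.typ with A | B
  · obtain ⟨y, hy⟩ := exists_comm h.cz h.ctr A.cen tt h.tn (h.quo.comm h.sz h.tz h.st) (A.out t h.zt h.tz h.ne)
      (h.quo.sq c ff) (h.ga_not c n)
    obtain ⟨d, d1, d2, d3, -, d4⟩ := lift2 h.quo ff ff (.refl f) c c
      (by rw [conj_mul, tt, mul_one, mul_inv_cancel]) hy hy
    obtain ⟨g, g1, -, rfl⟩ := h.quo.lift_conj (h.sq h.zt) d1 h.tz d2 d4.symm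
    exact ⟨_, h.zt.trans (isConj_cj t g), fun e => h.ne (by
      rw [mul_inv_eq_iff_eq_mul, ← g1.eq] at e; exact mul_left_cancel e),
      h.mem_C0.2 ⟨d2, d4 ▸ h.cz.conj_norm' (h.ctr y) h.tn⟩, d3⟩
  · have c' := h.ga_rebase ff c n
    obtain ⟨M, -, e, -⟩ := h.cz.ind_inv h.tn tt
    obtain ⟨x, xx, -⟩ := exists_anti h.cz.odd (h.cz.tr_zero tt e (h.act h.zt h.tz h.ne))
    obtain ⟨d, d1, d2, d3, -, d4⟩ := lift2 h.quo ff ff (.refl f) c c (c'.dj_sq xx) (c'.dj_s x) (c'.dj_s x)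
    have k := dj_not_mem c' xx
    rw [h.ga_Zt c n, ← d4] at k
    have e' : Ind σ (π d) (tG x) := d4 ▸ c'.ind_K x x
    obtain ⟨n1, n2⟩ := h.ga_nt c n (h.quo.comm d2 c d3) k
    exact ⟨d, h.isConj_of d1 d2 e e' ((B.inn _ tt _ e).mul (B.inn _ (h.quo.sq d2 d1) _ e')) n1 n2,
      fun e => k (e ▸ h.hz ▸ h.cz.z_mem_Zt), h.mem_C0.2 ⟨d2, h.cz.norm_of_ind e'⟩, d3⟩

theorem ga_nd (hE : E16 E) (hz : E ≤ Cen z) : ∃ b ∈ E, b ∉ h.C0 := by
  have := h.quo.finite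
  by_contra n
  push Not at n
  refine h.cz.no16 (im_e16 h.quo hE hz) fun x hx => ?_
  obtain ⟨y, hy, -, rfl⟩ := h.quo.mem_im.1 hx
  exact (h.mem_C0.1 (n y hy)).2

theorem ga_ntE (hE : E16 E) (hz : E ≤ Cen z) (hb : b ∈ E) (b1 : b ≠ 1) (bz : b ≠ z) :
    (¬ ∀ a, Commute (π b) (σ a)) ∧ ¬ ∀ a, Commute (π b) (tw σ (π s) a) := by
  obtain ⟨f, hf, n⟩ := h.ga_nd hE hz
  have cb := (mem_Cen.1 (hz hb)).symm
  have cf := (mem_Cen.1 (hz hf)).symm
  exact h.ga_nt cf n (h.quo.comm cb cf (hE.1.comm hb hf)) fun k => (h.ga_uniq (SigAux.sq hE hb) cb k).elim b1 bz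

theorem ga_UU {Y : Subgroup G} (ho : Odd (Nat.card Y)) (hg : g ∈ Y) (c : Commute g z) (e : π g ∈ Zt σ (π s)) :
    g ∈ UU z := by
  have := h.quo.finite
  obtain ⟨k, hk⟩ := h.z2 ⟨_, e⟩
  exact (h.quo.ker g c).1 (eq_one_of_two_odd (congrArg Subtype.val hk)
    (h.quo.odd_of_odd c (ho.of_dvd_nat (orderOf_dvd_natCard _ hg))))

theorem lo : Lo z h.C0 := by
  have := h.quo.finite
  have q := h.quo
  refine ⟨fun g hg => mem_Cen.2 (h.mem_C0.1 hg).1.symm, h.mem_C0.2 ⟨.refl z, h.hz ▸ h.cz.σ_norm _⟩,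
    fun g g' c c' n n' => h.mem_C0.2 ⟨c.mul_left c', q.mul _ _ c c' ▸
      h.cz.mul_norm (h.ctr _) (h.ctr _) (h.ga_not c n) (h.ga_not c' n')⟩,
    fun b bb c n => a4_up q bb c (h.hz ▸ h.cz.a4 (q.sq c bb) (h.ctr _) (h.ga_not c n)),
    fun E hE hz b hb hb' b1 bz k => ?_, fun E hE hz => h.ga_nd hE fun x hx => mem_Cen.2 (hE.1.comm hz hx),
    fun b bb c n Y ho hY hn y hy => ?_,
    fun E hE hz d hd d' hd' f hf d0 d0' n d1 dz d1' dz' dd dd' Y ho hY hn hi y hy => ?_⟩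
  · obtain ⟨c, hn⟩ := h.mem_C0.1 hb'
    obtain ⟨n1, n2⟩ := h.ga_ntE hE (fun x hx => mem_Cen.2 (hE.1.comm hz hx)) hb b1 bz
    exact h.cz.not_a4 (q.sq c (SigAux.sq hE hb)) hn n1 n2 (h.hz ▸ a4_down q c k)
  · have c' := h.ga_rebase bb c n
    have cy := (mem_Cen.1 (hY hy).1).symm
    refine h.ga_UU ho hy cy (h.ga_Zt c n ▸ c'.odd_le_Zt (im_odd q ho) (fun x _ => mem_Cen.2 (h.ctr x).symm)
      (fun a => ?_) (im_le q c (hY.trans inf_le_right)) (q.mem_im.2 ⟨y, hy, cy, rfl⟩))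
    obtain ⟨g, g1, g2, g3⟩ := cen1 q bb c (c'.dj_s a)
    exact g3 ▸ im_norm q g1 (hn ⟨mem_Cen.2 g1.symm, mem_Cen.2 g2.symm⟩)
  · have cz : ∀ {x}, x ∈ E → Commute x z := fun hx => hE.1.comm hx hz
    have cm : ∀ {x y}, x ∈ E → y ∈ E → Commute (π x) (π y) := fun hx hy => q.comm (cz hx) (cz hy) (hE.1.comm hx hy)
    have sq : ∀ {x}, x ∈ E → π x * π x = 1 := fun hx => q.sq (cz hx) (SigAux.sq hE hx)
    have nz : ∀ {x}, x ∈ E → x ≠ 1 → x ≠ z → π x ∉ Zt σ (π f) := fun hx x1 xz k =>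
      (h.ga_uniq (SigAux.sq hE hx) (cz hx) (h.ga_Zt (cz hf) n ▸ k)).elim x1 xz
    have c' := h.ga_rebase (SigAux.sq hE hf) (cz hf) n
    have cy := (mem_Cen.1 (hY hy.1).1).symm
    have dinv := inv_eq_of_mul_eq_one_right (SigAux.sq hE hd)
    refine h.ga_UU ho hy.1 cy (h.ga_Zt (cz hf) n ▸ c'.hard (im_odd q ho) (h.mem_C0.1 d0).2 (h.mem_C0.1 d0').2
      (sq hd) (sq hd') (cm hd hd') (cm hd hf) (cm hd' hf) (nz hd d1 dz) (nz hd' d1' dz')
      (q.mul _ _ (cz hd) (cz hd') ▸ nz (mul_mem hd hd') (fun e => dd (by rw [← dinv]; exact eq_inv_of_mul_eq_one_right e))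
        fun e => dd' (by rw [← (cz hd).eq, ← e, ← mul_assoc, SigAux.sq hE hd, one_mul]))
      (le_inf (fun x _ => mem_Cen.2 (h.ctr x).symm) (im_le q (cz hd) (hY.trans inf_le_right))) (fun x hx => ?_)
      (fun x hx => ?_) ⟨q.mem_im.2 ⟨y, hy.1, cy, rfl⟩, mem_Cen.2 (q.comm (cz hd') cy (mem_Cen.1 hy.2))⟩)
    · obtain ⟨g, g1, g2, rfl⟩ := cen1 q (SigAux.sq hE hd) (cz hd) (mem_Cen.1 hx.2).symm
      exact im_norm q g1 (hn ⟨mem_Cen.2 g1.symm, mem_Cen.2 g2.symm⟩)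
    · obtain ⟨u, hu, cu, rfl⟩ := q.mem_im.1 hx
      have k := (q.ker _ ((cz_conj (cz hf) cu).mul_left cu)).2 (hi u hu)
      rw [q.mul _ _ (cz_conj (cz hf) cu) cu, q.conj (cz hf) cu] at k
      exact eq_inv_of_mul_eq_one_left k

theorem ga_iff (hb : IsConj z b) (c : Commute b z) (n : b ≠ z) : b ∈ h.C0 ↔ ¬ A4 z b :=
  have := h.quo.finite
  ⟨fun k a4 => h.cz.not_a4 (h.quo.sq c (h.sq hb)) (h.mem_C0.1 k).2 (h.act hb c n) (h.act' hb c n)
    (h.hz ▸ a4_down h.quo c a4), fun k => by_contra fun k' => k (h.lo.a4 b (h.sq hb) c k')⟩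

/-- Symmetry of the swap relation on `𝒯`. -/
theorem sym (c : Commute (g * z * g⁻¹) z) : g * z * g⁻¹ ∈ h.C0 ↔ z ∈ cj(g, h.C0) := by
  rw [mem_cj]
  by_cases n : g * z * g⁻¹ = z
  · rw [n, show g⁻¹ * z * g = z by nth_rw 1 [← n]; group]
  · rw [h.ga_iff (isConj_cj z g) c n, h.ga_iff (isConj_cj' z g) (commute_cj' c.symm)
      (fun e => n (by nth_rw 1 [← e]; group)), not_iff_not]
    exact ⟨fun k => by simpa [mul_assoc] using (SigAux.a4_map (MulAut.conj g⁻¹) k).symm,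
      fun k => by simpa [mul_assoc] using (SigAux.a4_map (MulAut.conj g) k).symm⟩

/-- In type B all involutions of an elementary abelian group of order 16 are in `𝒯`. -/
theorem all_T (hB : TB z s π σ) (hE : E16 E) (ha : a ∈ E) (a1 : a ≠ 1) : IsConj z a := by
  have := h.quo.finite
  obtain ⟨g, hg⟩ := h.syl E hE.1.isPGroup
  have hE' := SigAux.e16_cj hE g
  have ha' := conj_mem_cj (g := g) ha
  have a1' : g * a * g⁻¹ ≠ 1 := fun e => a1 (by simpa using e)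
  refine IsConj.trans ?_ (isConj_cj a g).symm
  generalize g * a * g⁻¹ = b at ha' a1'
  have c := (mem_Cen.1 (hg ha')).symm
  have bb := SigAux.sq hE' ha'
  by_cases n : π b ∈ 𝐍[σ.range]
  · by_cases bz : b = z
    · rw [bz]
    obtain ⟨n1, n2⟩ := h.ga_ntE hE' hg ha' a1' bz
    have tt := h.quo.sq h.tz (h.sq h.zt)
    obtain ⟨M, -, e, -⟩ := h.cz.ind_inv h.tn tt
    obtain ⟨M', -, e', -⟩ := h.cz.ind_inv n (h.quo.sq c bb)
    exact h.isConj_of bb c e e' ((hB.inn _ tt _ e).mul (hB.inn _ (h.quo.sq c bb) _ e')) n1 n2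
  · exact hB.sw b bb c n

theorem lo_all (hE : E16 E) : ∀ a ∈ E, a ≠ 1 → ∃ C₀, Lo a C₀ := fun a ha a1 => by
  by_cases k : IsConj z a
  · obtain ⟨g, rfl⟩ := isConj_iff.1 k
    exact ⟨_, h.lo.conj g⟩
  · exact h.typ.elim (fun A => A.lo E hE a ha a1 k) fun B => absurd (h.all_T B hE ha a1) k

theorem ga_E (ff : f * f = 1) (c : Commute f z) (n : f ∉ h.C0) (aa : a * a = 1) (ha : a ∈ h.C0)
    (cf : Commute a f) (a1 : a ≠ 1) (az : a ≠ z) : ∃ E, E16 E ∧ z ∈ E ∧ f ∈ E ∧ a ∈ E := by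
  have := h.quo.finite
  have q := h.quo
  have c' := h.ga_rebase ff c n
  obtain ⟨ca, hn⟩ := h.mem_C0.1 ha
  have cf' := q.comm ca c cf
  have n1 := (h.ga_nt c n cf' fun k => (h.ga_uniq aa ca k).elim a1 az).1
  obtain ⟨M, -, e1, -⟩ := c'.ind_inv hn (q.sq ca aa)
  have e2 := c'.ind_tw cf' e1
  obtain ⟨x, xx, an⟩ := exists_anti c'.odd (c'.tr_zero (q.sq ca aa) e1 n1)
  have k1 : π a ∉ Cen (σ x) := fun k => c'.z_ne (by
    have := e1 x
    rwa [← (mem_Cen.1 k).eq, mul_inv_cancel_right, cjM_of_anti an, c'.σ_neg, right_eq_mul] at this)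
  have wt : Commute (dj σ (π f) x) (π a) := by
    have : π a * dj σ (π f) x * (π a)⁻¹ = dj σ (π f) (-x) := by
      rw [dj, dj, ← cjM_of_anti an, ← e1, ← e2]; group
    rw [c'.dj_neg] at this
    exact (mul_inv_eq_iff_eq_mul.1 this).symm
  obtain ⟨v, vv, vz, vf, va, ev⟩ := lift2 q ff aa cf.symm c ca (c'.dj_sq xx) (c'.dj_s x) wt
  have s1 := e16_step (A := ⊥) (n := 1) ⟨IsElementaryAbelian.bot, card_bot⟩ h.zz bot_le le_rfl
    (fun k => h.z1 (mem_bot.1 k))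
  have s2 := e16_step (B := pre q (Zt σ (π f))) s1 vv (sup_le bot_le (zpowers_le.2 (mem_Cen.2 vz)))
    (sup_le bot_le (zpowers_le.2 ((mem_pre q).2 ⟨.refl z, h.hz ▸ c'.z_mem_Zt⟩)))
    fun k => dj_not_mem c' xx (ev ▸ ((mem_pre q).1 k).2)
  have s3 := e16_step (B := pre q (Cen (σ x))) s2 aa (sup_le (sup_le bot_le (zpowers_le.2 (mem_Cen.2 ca)))
    (zpowers_le.2 (mem_Cen.2 va.symm))) (sup_le (sup_le bot_le (zpowers_le.2
      ((mem_pre q).2 ⟨.refl z, mem_Cen.2 (q.central _)⟩))) (zpowers_le.2 ((mem_pre q).2 ⟨vz, mem_Cen.2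
        (ev ▸ (Commute.refl _).mul_right (c'.comm x x))⟩))) fun k => k1 ((mem_pre q).1 k).2
  have s4 := e16_step s3 ff (sup_le (sup_le (sup_le bot_le (zpowers_le.2 (mem_Cen.2 c)))
    (zpowers_le.2 (mem_Cen.2 vf.symm))) (zpowers_le.2 (mem_Cen.2 cf.symm)))
    (sup_le (sup_le (sup_le bot_le (zpowers_le.2 h.lo.self))
      (zpowers_le.2 (h.mem_C0.2 ⟨vz, ev ▸ c'.K_norm x x⟩))) (zpowers_le.2 ha)) n
  exact ⟨_, s4, mem_sup_left (mem_sup_left (mem_sup_left (mem_sup_right (mem_zpowers _)))),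
    mem_sup_right (mem_zpowers _), mem_sup_left (mem_sup_right (mem_zpowers _))⟩

theorem exists_E (ff : f * f = 1) (c : Commute f z) (n : f ∉ h.C0) (aa : a * a = 1) (ha : a ∈ h.C0)
    (cf : Commute a f) : ∃ E, E16 E ∧ z ∈ E ∧ f ∈ E ∧ a ∈ E := by
  by_cases k : a = 1 ∨ a = z
  · obtain ⟨d, d1, d2, d3, d4⟩ := h.ex ff c n
    obtain ⟨E, hE, h1, h2, -⟩ := h.ga_E ff c n (h.sq d1) d3 d4 (fun e => h.z1 (isConj_one_left.1 (e ▸ d1))) d2
    exact ⟨E, hE, h1, h2, k.elim (fun e => e ▸ one_mem _) fun e => e ▸ h1⟩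
  · exact h.ga_E ff c n aa ha cf (fun e => k (.inl e)) fun e => k (.inr e)

end Gen

end Cfsg.Agent.L4
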