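import Mathlib
import Cfsg.Agent.L4.GenA
import Cfsg.Agent.P4.WW
import Cfsg.Agent.P4.GB
import Cfsg.Agent.Cl.PSL2Finite

/-! The signalizer does not depend on the elementary abelian group of order 16 over `⟨z, f⟩`. -/

set_option autoImplicit false
set_option linter.unusedSectionVars false

namespace Cfsg.Agent.L4

open Cfsg.Agent.Loc.Mss Cfsg.Agent.GW Subgroup Cfsg.Agent.P4 Cfsg.Agent.G2T Cfsg.Agent.Cl.GL2
open Cfsg.Agent.GT Cfsg.Agent.Inv
open scoped MatrixGroups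

section Cz

variable {G : Type*} [Group G] [Finite G] {F : Type} [Field F] [Fintype F] {σ : SL(2, F) →* G}
  {s c g : G}

theorem Cz.cza_cases (h : Cz σ s) (hs : Commute c s) (hc : ∀ a, Commute c (σ a)) :
    c = 1 ∨ c = σ (-1) := by
  have m := h.mem_Zt_of_swap h.sz h.s_not_mem hs hc
  have e := h.inv s h.ss h.sz h.s_not_mem c m
  rw [← hs.eq, mul_inv_cancel_right] at e
  exact h.uniq c m (mul_eq_one_iff_eq_inv.2 e)

theorem Cz.cza_same (h : Cz σ s) {M : GL (Fin 2) F} (hc : Commute c s) (hg : Commute g s)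
    (e : Ind σ c M) (e' : Ind σ g M) : g = c ∨ g = c * σ (-1) := by
  have e1 := e.inv.mul e'
  rw [inv_mul_cancel] at e1
  rcases h.cza_cases (hc.inv_left.mul_left hg) (fun a => by
    have := e1 a
    rw [cjM_one, mul_inv_eq_iff_eq_mul] at this
    exact this) with k | k
  · exact .inl (inv_mul_eq_one.1 k).symm
  · exact .inr (inv_mul_eq_iff_eq_mul.1 k)

/-- The diagonal as a homomorphism. -/
def Cz.czaJ (h : Cz σ s) : SL(2, F) →* G := MonoidHom.mk' (dj σ s) h.dj_mul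

theorem Cz.cza_conj_dj (h : Cz σ s) (hz : Commute g (σ (-1))) (hs : Commute g s) (a : SL(2, F)) :
    ∃ b, g * dj σ s a * g⁻¹ = dj σ s b := by
  have key : ∀ x, x ∈ 𝐍[σ.range] → Commute x s → ∃ b, x * dj σ s a * x⁻¹ = dj σ s b := by
    intro x hx c
    obtain ⟨α, hα⟩ := h.exists_aut hx
    refine ⟨α a, ?_⟩
    rw [dj, dj, ← conj_mul, hα, tw_apply, tw_apply, ← hα]
    calc _ = x * σ a * x⁻¹ * (x * s * σ a * (x * s)⁻¹) := by group
      _ = _ := by rw [c.eq]; group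
  rcases h.nrm g hz with k | k
  · exact key g k hs
  · obtain ⟨b, e⟩ := key _ k (hs.mul_left (Commute.refl s))
    refine ⟨b, ?_⟩
    rw [← e]
    calc _ = g * (dj σ s a * s * s⁻¹) * g⁻¹ := by group
      _ = _ := by rw [(h.dj_s a).eq]; group

theorem Cz.cza_dj_ne (h : Cz σ s) (a : SL(2, F)) : dj σ s a ≠ σ (-1) := fun e => by
  have n1 := SLF.neg_one_ne_one h.two_ne
  have : σ a * tw σ s a = σ (-1) * tw σ s 1 := by rw [map_one, mul_one]; exact e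
  rcases h.eq_iff.1 this with ⟨e1, e2⟩ | ⟨e1, e2⟩
  · exact n1 (e1.symm.trans e2)
  · exact n1 (e2.symm.trans (by simpa using e1))

theorem Cz.cza_dj_ne_one (h : Cz σ s) {a : SL(2, F)} (ha : a * a = -1) : dj σ s a ≠ 1 := fun e => by
  rcases h.dj_eq_one.1 e with rfl | rfl <;>
    exact SLF.neg_one_ne_one h.two_ne (by simpa using ha.symm)

end Cz

theorem cza_scal {F : Type} [Field F] (c : Fˣ) : IsScal ((scalGL c : GL (Fin 2) F) : Mat F) :=
  isScal_scalGL c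

variable {G X : Type*} [Group G] [Finite G] [Group X] {F : Type} [Field F] [Fintype F]
  {z s t : G} {π : G → X} {σ : SL(2, F) →* X} {E : Subgroup G} {f v : G}

/-- An involution interchanging the factors. -/
structure CzaS (z f : G) (π : G → X) (σ : SL(2, F) →* X) : Prop where
  ff : f * f = 1
  cz : Commute f z
  n : π f ∉ 𝐍[σ.range]

/-- An involution of `C(z, f)` normalizing the factors. -/
structure CzaG (z f : G) (π : G → X) (σ : SL(2, F) →* X) (v : G) : Prop where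
  vv : v * v = 1
  cz : Commute v z
  cf : Commute v f
  mem : π v ∈ 𝐍[σ.range]
  v1 : v ≠ 1
  vz : v ≠ z

theorem E16.sq (hE : E16 E) (hv : v ∈ E) : v * v = 1 := by rw [← pow_two, hE.1.2 v hv]

theorem E16.cj (hE : E16 E) (g : G) : E16 cj(g, E) := ⟨hE.1.map _, by rw [card_cj, hE.2]⟩

theorem cza_cent {a b : G} (ca : Commute v a) (cb : Commute v b) :
    v ∈ 𝐂[zpowers a ⊔ zpowers b] := Pre.mem_cent_four ca cb

namespace Gen

variable (h : Gen z s t π σ) {v' g : G} {x : X} {M N : GL (Fin 2) F}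
include h

theorem cza_sw (hE : E16 E) (hz : z ∈ E) (hf : f ∈ E) (n : f ∉ h.C0) : CzaS z f π σ :=
  ⟨hE.sq hf, hE.1.comm hf hz, fun k => n (h.mem_C0.2 ⟨hE.1.comm hf hz, k⟩)⟩

theorem cza_WW (hE : E16 E) {B : Subgroup G} (hB : B ≤ E) (h8 : 8 ≤ Nat.card B) : WW B = WW E :=
  WW_eq hE.1 hE.2.ge (bal2 hE (h.lo_all hE)) hB h8

/-- The elements of `C(z)` whose image commutes with `x`. -/
def czaC (x : X) : Subgroup G := ((Cen x).comap h.quo.hom).map (Cen z).subtype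

theorem mem_czaC : g ∈ h.czaC x ↔ Commute g z ∧ Commute x (π g) :=
  ⟨fun ⟨y, hy, e⟩ => e ▸ ⟨(mem_Cen.1 y.2).symm, mem_Cen.1 hy⟩,
    fun ⟨c, hy⟩ => ⟨⟨g, mem_Cen.2 c.symm⟩, mem_Cen.2 hy, rfl⟩⟩

theorem z_czaC (x : X) : z ∈ h.czaC x := h.mem_czaC.2 ⟨Commute.refl z, h.quo.central x⟩

variable (hf : CzaS z f π σ)
include hf

theorem cza_cz : Cz σ (π f) :=
  have := h.quo.finite
  h.cz.rebase (h.quo.sq hf.cz hf.ff) (h.ctr _) hf.n

theorem cza_nC : f ∉ h.C0 := fun k => hf.n (h.mem_C0.1 k).2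

theorem cza_pair : Pair z f := by
  refine gb_pair h.zz hf.ff h.z1 (fun e => hf.n ?_) (fun e => hf.n ?_) hf.cz.symm
  · rw [e, h.quo.one]; exact one_mem _
  · rw [← e, h.hz]; exact h.cz.σ_norm _

theorem cza_ea : IsElementaryAbelian 2 (zpowers z ⊔ zpowers f) :=
  isElementaryAbelian_four_group (by rw [pow_two, h.zz]) (by rw [pow_two, hf.ff]) hf.cz.symm

theorem cza_four : Nat.card (zpowers z ⊔ zpowers f : Subgroup G) = 4 :=
  have p := h.cza_pair hf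
  card_four_group p.ha p.hb p.ne p.comm

theorem cza_le (hx : Commute x (π f)) : zpowers z ⊔ zpowers f ≤ h.czaC x :=
  sup_le (zpowers_le.2 (h.z_czaC x)) (zpowers_le.2 (h.mem_czaC.2 ⟨hf.cz, hx⟩))

theorem cza_not_mem (hv : CzaG z f π σ v) : v ∉ zpowers z ⊔ zpowers f := by
  rw [gb_four_eq, (h.cza_pair hf).mem_four]
  rintro (rfl | rfl | rfl | rfl)
  exacts [hv.v1 rfl, hv.vz rfl, hf.n hv.mem, hf.n ((mul_mem_cancel_left (h.hz ▸ h.cz.σ_norm (-1))).1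
    (h.quo.mul _ _ (Commute.refl z) hf.cz ▸ hv.mem))]

theorem cza_gb_ea (hv : CzaG z f π σ v) : IsElementaryAbelian 2 (gbB z f v) :=
  (h.cza_ea hf).sup_zpowers (by rw [pow_two, hv.vv]) (cza_cent hv.cz hv.cf)

theorem cza_gb_card (hv : CzaG z f π σ v) : Nat.card (gbB z f v) = 8 := by
  rw [gbB, PG.card_sup_zpowers Nat.prime_two (cent_le_norm _ (cza_cent hv.cz hv.cf))
    (h.cza_not_mem hf hv) (by rw [pow_two, hv.vv]; exact one_mem _), h.cza_four hf]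

theorem cza_eq (hE : E16 E) (hz : z ∈ E) (hfE : f ∈ E) (hv : CzaG z f π σ v) (hvE : v ∈ E) :
    WW (gbB z f v) = WW E := h.cza_WW hE (gbB_le hz hfE hvE) (h.cza_gb_card hf hv).ge

theorem cza_comm (hv : CzaG z f π σ v) (hv' : CzaG z f π σ v') (c : Commute v' v) :
    WW (gbB z f v') = WW (gbB z f v) := by
  by_cases m : v' ∈ gbB z f v
  · rw [PG.eq_of_le_of_card_le (gbB_le (gbB_z z f v) (gbB_s z f v) m)
      (by rw [h.cza_gb_card hf hv, h.cza_gb_card hf hv'])]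
  have hc : v' ∈ 𝐂[gbB z f v] := by
    rw [gbB, cent_sup, GT.centralizer_zpowers]
    exact ⟨cza_cent hv'.cz hv'.cf, mem_Cen.2 c.symm⟩
  have hE : E16 (gbB z f v ⊔ zpowers v') := ⟨(h.cza_gb_ea hf hv).sup_zpowers
    (by rw [pow_two, hv'.vv]) hc, by
      rw [PG.card_sup_zpowers Nat.prime_two (cent_le_norm _ hc) m
        (by rw [pow_two, hv'.vv]; exact one_mem _), h.cza_gb_card hf hv]⟩
  have a1 := mem_sup_left (T := zpowers v') (gbB_z z f v)
  have a2 := mem_sup_left (T := zpowers v') (gbB_s z f v)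
  rw [h.cza_eq hf hE a1 a2 hv' (mem_sup_right (mem_zpowers v')),
    h.cza_eq hf hE a1 a2 hv (mem_sup_left (gbB_v z f v))]

theorem cza_exists (hE : E16 E) (hz : z ∈ E) (hfE : f ∈ E) : ∃ v ∈ E, CzaG z f π σ v := by
  obtain ⟨e, he, hn⟩ : ∃ e ∈ E, e ∉ zpowers z ⊔ zpowers f := by
    by_contra hc
    push Not at hc
    have := card_le_of_le (show E ≤ _ from hc)
    rw [h.cza_four hf, hE.2] at this
    omega
  have mz : z ∈ zpowers z ⊔ zpowers f := mem_sup_left (mem_zpowers z)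
  have mf : f ∈ zpowers z ⊔ zpowers f := mem_sup_right (mem_zpowers f)
  have key : ∀ w ∈ E, w ∉ zpowers z ⊔ zpowers f → w ∈ h.C0 → ∃ v ∈ E, CzaG z f π σ v :=
    fun w hw hn m => ⟨w, hw, hE.sq hw, hE.1.comm hw hz, hE.1.comm hw hfE, (h.mem_C0.1 m).2,
      fun e => hn (e ▸ one_mem _), fun e => hn (e ▸ mz)⟩
  by_cases m : e ∈ h.C0
  · exact key e he hn m
  · exact key _ (mul_mem he hfE) (fun k => hn ((mul_mem_cancel_right mf).1 k))
      (h.lo.half e f (hE.1.comm he hz) hf.cz m (h.cza_nC hf))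

omit hf in
theorem cza_ne (hv : CzaG z f π σ v) : π v ≠ 1 ∧ π v ≠ σ (-1) :=
  ⟨fun e => hv.v1 (h.pi_inj hv.vv (one_mul 1) (Commute.one_right v) hv.cz (Commute.one_left z)
    (e.trans h.quo.one.symm)), fun e => hv.vz (h.pi_inj hv.vv h.zz hv.cz hv.cz (Commute.refl z)
      (e.trans h.hz.symm))⟩

omit hf in
theorem cza_good (vv : v * v = 1) (cz : Commute v z) (cf : Commute v f) (m : π v ∈ 𝐍[σ.range])
    (n1 : π v ≠ 1) (n2 : π v ≠ σ (-1)) : CzaG z f π σ v :=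
  ⟨vv, cz, cf, m, fun e => n1 (by rw [e, h.quo.one]), fun e => n2 (by rw [e, h.hz])⟩

theorem cza_cf (hv : CzaG z f π σ v) : Commute (π v) (π f) := h.quo.comm hv.cz hf.cz hv.cf

theorem cza_lift (xx : x * x = 1) (cf : Commute x (π f)) (m : x ∈ 𝐍[σ.range]) (n1 : x ≠ 1)
    (n2 : x ≠ σ (-1)) : ∃ v, CzaG z f π σ v ∧ π v = x := by
  have le := h.cza_le hf cf
  obtain ⟨v, vv, cz, c, rfl⟩ := h.quo.lift_inv (h.cza_ea hf).isPGroup
    (fun p hp => mem_Cen.2 (h.mem_czaC.1 (le hp)).1.symm) xx fun p hp => (h.mem_czaC.1 (le hp)).2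
  exact ⟨v, h.cza_good vv cz (c f (mem_sup_right (mem_zpowers f))) m n1 n2, rfl⟩

theorem cza_pi (hv : CzaG z f π σ v) (hv' : CzaG z f π σ v') (e : π v' = π v) :
    WW (gbB z f v') = WW (gbB z f v) := by
  have ho := (h.quo.eq_iff hv'.cz hv.cz).1 e
  rw [inv_eq_of_mul_eq_one_right hv'.vv] at ho
  obtain ⟨d, hd, ed⟩ := exists_conj_zpowers hv'.vv hv.vv (odd_orderOf_of_mem_OO ho)
  have dz := (commute_of_mem_zpowers' (hv'.cz.mul_left hv.cz).symm hd).symm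
  have df := (commute_of_mem_zpowers' (hv'.cf.mul_left hv.cf).symm hd).symm
  obtain ⟨E, hE, hz, hfE, -⟩ := h.exists_E hf.ff hf.cz (h.cza_nC hf) (one_mul 1) (one_mem _)
    (Commute.one_left f)
  have m : d ∈ WW (gbB z f v) := delta_le_WW le_sup_left (h.cza_four hf).ge
    (inf_le_delta hE (h.lo_all hE) h.lo h.z1 hz hfE (h.cza_nC hf)
      ⟨zpowers_le.2 ho hd, mem_Cen.2 df.symm⟩)
  rw [← ed, Pre.phi_cj dz df, cj_of_mem m]

theorem cza_picomm (hv : CzaG z f π σ v) (hv' : CzaG z f π σ v') (c : Commute (π v') (π v)) :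
    WW (gbB z f v') = WW (gbB z f v) := by
  have le : gbB z f v ≤ h.czaC (π v') :=
    sup_le (h.cza_le hf (h.cza_cf hf hv')) (zpowers_le.2 (h.mem_czaC.2 ⟨hv.cz, c⟩))
  obtain ⟨w, ww, cz, cw, e⟩ := h.quo.lift_inv (h.cza_gb_ea hf hv).isPGroup
    (fun p hp => mem_Cen.2 (h.mem_czaC.1 (le hp)).1.symm) (h.quo.sq hv'.cz hv'.vv)
    fun p hp => (h.mem_czaC.1 (le hp)).2
  have gw := h.cza_good ww cz (cw f (gbB_s z f v)) (e ▸ hv'.mem) (e ▸ (h.cza_ne hv').1)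
    (e ▸ (h.cza_ne hv').2)
  rw [← h.cza_pi hf hv' gw e, h.cza_comm hf hv gw (cw v (gbB_v z f v))]

theorem cza_ind (hv : CzaG z f π σ v) : ∃ M, Ind σ (π v) M ∧ tr M = 0 := by
  have := h.quo.finite
  have cf := h.cza_cz hf
  obtain ⟨M, -, e, -⟩ := cf.ind_inv hv.mem (h.quo.sq hv.cz hv.vv)
  exact ⟨M, e, cf.tr_zero (h.quo.sq hv.cz hv.vv) e fun k =>
    (cf.cza_cases (h.cza_cf hf hv) k).elim (h.cza_ne hv).1 (h.cza_ne hv).2⟩

theorem cza_act (hv : CzaG z f π σ v) (hv' : CzaG z f π σ v') (e : Ind σ (π v) M)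
    (e' : Ind σ (π v') M) : WW (gbB z f v') = WW (gbB z f v) := by
  have := h.quo.finite
  refine h.cza_picomm hf hv hv' ?_
  rcases (h.cza_cz hf).cza_same (h.cza_cf hf hv) (h.cza_cf hf hv') e e' with k | k <;> rw [k]
  exact (Commute.refl _).mul_left (h.ctr _).symm

theorem cza_typeA (hA : TA z s π σ) (hM : tr M = 0) : ∃ v, CzaG z f π σ v ∧ Ind σ (π v) M := by
  have := h.quo.finite
  have cf := h.cza_cz hf
  by_cases hs : IsSquare (dt M)
  · obtain ⟨k, c, e⟩ := conj_tr_zero cf.odd (M := tG (SLF.w0 F)) (by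
      simp [tr, SLF.w0, Matrix.trace_fin_two]) hM (by simpa [dt] using hs)
    have kk : k * SLF.w0 F * k⁻¹ * (k * SLF.w0 F * k⁻¹) = -1 := by
      rw [conj_mul, SLF.w0_mul_self]; simp
    obtain ⟨v, hv, ev⟩ := h.cza_lift hf (cf.dj_sq kk) (cf.dj_s _) (cf.K_norm _ _)
      (cf.cza_dj_ne_one kk) (cf.cza_dj_ne _)
    refine ⟨v, hv, Ind.of_scal_mul ?_ (cza_scal c)⟩
    rw [← e, ev, ← map_inv, ← map_mul, ← map_mul]
    exact cf.ind_K _ _
  obtain ⟨d, hd, dz, dC, df⟩ := h.ex hf.ff hf.cz (h.cza_nC hf)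
  have gd : CzaG z f π σ d := ⟨h.sq hd, (h.mem_C0.1 dC).1, df, (h.mem_C0.1 dC).2,
    fun e => h.z1 (isConj_one_left.1 (e ▸ hd)), dz⟩
  obtain ⟨M0, e0, t0⟩ := h.cza_ind hf gd
  obtain ⟨k, c, e⟩ := conj_tr_zero cf.odd t0 hM
    (Cl.L2.isSquare_mul_of_not (hA.out d hd gd.cz dz M0 e0) hs)
  have i := ((cf.ind_K k k).mul e0).mul (cf.ind_K k k).inv
  obtain ⟨v, hv, ev⟩ := h.cza_lift hf (x := dj σ (π f) k * π d * (dj σ (π f) k)⁻¹)
    (by rw [conj_mul, h.quo.sq gd.cz gd.vv]; simp)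
    (((cf.dj_s k).mul_left (h.cza_cf hf gd)).mul_left (cf.dj_s k).inv_left) (cf.norm_of_ind i)
    (fun e => (h.cza_ne gd).1 (conj_eq_one_iff.1 e)) fun e => (h.cza_ne gd).2 (by
      rw [mul_inv_eq_iff_eq_mul, ← (cf.dj_z k).eq] at e
      exact mul_left_cancel e)
  exact ⟨v, hv, Ind.of_scal_mul (by rw [← e, ev]; exact i) (cza_scal c)⟩

theorem cza_allA (hA : TA z s π σ) (hv : CzaG z f π σ v) (hv' : CzaG z f π σ v') :
    WW (gbB z f v') = WW (gbB z f v) := by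
  have := h.quo.finite
  have cf := h.cza_cz hf
  have key : ∀ M N, Anti M N → ∀ u u', CzaG z f π σ u → CzaG z f π σ u' → Ind σ (π u) M →
      Ind σ (π u') N → WW (gbB z f u') = WW (gbB z f u) := fun M N an u u' hu hu' e e' => by
    obtain ⟨w, hw, ew⟩ := h.cza_typeA hf hA (M := M * N) (tr_of_anti (N := N) cf.odd (by
      unfold Anti at an ⊢
      rw [Units.val_mul, ← mul_assoc (N : Mat F), an]; simp [mul_assoc]))
    have sq : π u * π u' * (π u * π u') = 1 := by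
      rcases cf.cza_same (h.cza_cf hf hw) ((h.cza_cf hf hu).mul_left (h.cza_cf hf hu')) ew
        (e.mul e') with k | k <;> rw [k]
      · exact h.quo.sq hw.cz hw.vv
      · rw [(h.ctr (π w)).symm.mul_mul_mul_comm, h.quo.sq hw.cz hw.vv, cf.zz, one_mul]
    refine h.cza_picomm hf hu hu' ?_
    rw [Commute, SemiconjBy, ← inv_eq_of_mul_eq_one_right sq, mul_inv_rev,
      inv_eq_of_mul_eq_one_right (h.quo.sq hu.cz hu.vv),
      inv_eq_of_mul_eq_one_right (h.quo.sq hu'.cz hu'.vv)]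
  obtain ⟨M, e, hM⟩ := h.cza_ind hf hv
  obtain ⟨N, e', hN⟩ := h.cza_ind hf hv'
  have := conn_gl cf.odd (fun M => ∀ u, CzaG z f π σ u → Ind σ (π u) M →
    WW (gbB z f u) = WW (gbB z f v)) (fun M N an => by
      have an' : Anti N M := by unfold Anti at an ⊢; rw [an, neg_neg]
      obtain ⟨u, hu, eu⟩ := h.cza_typeA hf hA (tr_of_anti cf.odd an)
      obtain ⟨u', hu', eu'⟩ := h.cza_typeA hf hA (tr_of_anti cf.odd an')
      exact propext ⟨fun k w hw ew => (key M N an u w hu hw eu ew).trans (k u hu eu),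
        fun k w hw ew => (key N M an' u' w hu' hw eu' ew).trans (k u' hu' eu')⟩) hM hN
  exact (this.mp fun u hu eu => h.cza_act hf hv hu e eu) v' hv' e'

theorem cza_mul_z (hv : CzaG z f π σ v) : CzaG z f π σ (v * z) :=
  ⟨by rw [hv.cz.symm.mul_mul_mul_comm, hv.vv, h.zz, one_mul], hv.cz.mul_left (Commute.refl z),
    hv.cf.mul_left hf.cz.symm, by
      rw [h.quo.mul _ _ hv.cz (Commute.refl z), h.hz]; exact mul_mem hv.mem (h.cz.σ_norm _),
    fun e => hv.vz ((eq_inv_of_mul_eq_one_left e).trans (inv_eq_of_mul_eq_one_right h.zz)),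
    fun e => hv.v1 (by simpa using e)⟩

theorem cza_sq (hv : CzaG z f π σ v) {a : SL(2, F)} (e : π v = dj σ (π f) a) : a * a = -1 := by
  have := h.quo.finite
  have cf := h.cza_cz hf
  have := h.quo.sq hv.cz hv.vv
  rw [e, ← cf.dj_mul, cf.dj_eq_one] at this
  refine this.resolve_left fun e' => (h.cza_ne hv).1 ?_
  rw [e, cf.dj_eq_one]
  exact SLF.eq_of_mul_self_eq_one cf.two_ne e'

/-- Type B: good elements lie over the diagonal. -/
theorem cza_typeB (hB : TB z s π σ) (hv : CzaG z f π σ v) : ∃ u, (u = v ∨ u = v * z) ∧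
    CzaG z f π σ u ∧ ∃ a, a * a = -1 ∧ π u = dj σ (π f) a ∧ Ind σ (π v) (tG a) := by
  have := h.quo.finite
  have cf := h.cza_cz hf
  obtain ⟨M, e, -⟩ := h.cza_ind hf hv
  obtain ⟨c, a, rfl⟩ := exists_scal_mul (hB.inn _ (h.quo.sq hv.cz hv.vv) M e)
  have e1 := e.of_scal_mul (cza_scal c)
  rcases cf.cza_same (h.cza_cf hf hv) (cf.dj_s a) e1 (cf.ind_K a a) with k | k
  · exact ⟨v, .inl rfl, hv, a, h.cza_sq hf hv k.symm, k.symm, e1⟩
  · rw [← h.hz, ← h.quo.mul _ _ hv.cz (Commute.refl z)] at k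
    exact ⟨_, .inr rfl, h.cza_mul_z hf hv, a, h.cza_sq hf (h.cza_mul_z hf hv) k.symm, k.symm, e1⟩

theorem cza_conj (hv : CzaG z f π σ v) (hz : Commute g z) (hs : Commute g f) :
    CzaG z f π σ (g * v * g⁻¹) :=
  ⟨by rw [conj_mul, hv.vv]; simp, (hz.mul_left hv.cz).mul_left hz.inv_left,
    (hs.mul_left hv.cf).mul_left hs.inv_left, by
      rw [h.quo.conj hz hv.cz]; exact h.cz.conj_norm' (h.ctr _) hv.mem,
    fun e => hv.v1 (conj_eq_one_iff.1 e), fun e => hv.vz (by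
      rw [mul_inv_eq_iff_eq_mul, ← hz.eq] at e; exact mul_left_cancel e)⟩

/-- A good element normalizing `W` has signalizer `W`. -/
theorem cza_of_norm {v0 : G} (hv0 : CzaG z f π σ v0) {a0 : SL(2, F)} (ha0 : π v0 = dj σ (π f) a0)
    (hv : CzaG z f π σ v) (hn : v ∈ 𝐍[WW (gbB z f v0)]) : WW (gbB z f v) = WW (gbB z f v0) := by
  have := h.quo.finite
  have cf := h.cza_cz hf
  set M0 := Cen z ⊓ Cen f ⊓ 𝐍[WW (gbB z f v0)] with hM0
  have mem : ∀ {g}, g ∈ M0 → Commute g z ∧ Commute g f := fun hg =>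
    ⟨(mem_Cen.1 hg.1.1).symm, (mem_Cen.1 hg.1.2).symm⟩
  have mk : ∀ {w}, CzaG z f π σ w → w ∈ 𝐍[WW (gbB z f v0)] → zpowers w ≤ M0 := fun hw hn =>
    zpowers_le.2 ⟨⟨mem_Cen.2 hw.cz.symm, mem_Cen.2 hw.cf.symm⟩, hn⟩
  obtain ⟨P, hP0, hP⟩ := Syl.exists_ge (isPGroup_zpowers_inv hv0.vv)
    (mk hv0 (norm_WW _ (le_normalizer (gbB_v z f v0))))
  have hPz : P ≤ Cen z := hP.le.trans (inf_le_left.trans inf_le_left)
  let φ : P →* X := h.quo.hom.comp (inclusion hPz)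
  have : (cf.czaJ.range.comap φ).Normal := ⟨fun n ⟨a, ha⟩ g => by
    obtain ⟨b, hb⟩ := cf.cza_conj_dj (h.ctr (π g))
      (h.quo.comm (mem (hP.le g.2)).1 hf.cz (mem (hP.le g.2)).2) a
    exact ⟨b, by rw [map_mul, map_mul, map_inv, ← ha]; exact hb.symm⟩⟩
  obtain ⟨c, ⟨b, hb⟩, hc, c1, cc⟩ := PG.exists_mem_center_of_normal hP.pg
    (cf.czaJ.range.comap φ) (ne_bot_iff_exists_ne_one.2
      ⟨⟨⟨v0, hP0 (mem_zpowers v0)⟩, a0, ha0.symm⟩, fun e => hv0.v1 (congrArg (fun x => x.1.1) e)⟩)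
  have eb : π c = dj σ (π f) b := hb.symm
  have gc : CzaG z f π σ c := ⟨by rw [← pow_two]; exact congrArg Subtype.val cc,
    (mem (hP.le c.2)).1, (mem (hP.le c.2)).2, eb ▸ cf.K_norm b b, fun e => c1 (Subtype.ext e),
    fun e => cf.cza_dj_ne b (by rw [← eb, e, h.hz])⟩
  have cm : ∀ x ∈ P, Commute x c := fun x hx =>
    congrArg Subtype.val (mem_center_iff.1 hc ⟨x, hx⟩)
  obtain ⟨m, hm, hle⟩ := hP.conj_le (isPGroup_zpowers_inv hv.vv) (mk hv hn)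
  have e1 := h.cza_comm hf gc (h.cza_conj hf hv (mem hm).1 (mem hm).2)
    (cm _ (hle (conj_mem_cj (mem_zpowers v))))
  rw [← h.cza_comm hf gc hv0 (cm _ (hP0 (mem_zpowers v0))), Pre.phi_cj (mem hm).1 (mem hm).2,
    ← cj_of_norm hm.2] at e1
  exact cj_eq_cj.1 e1

theorem cza_lift_good {v0 : G} (hv0 : CzaG z f π σ v0) {a0 : SL(2, F)} (ha0 : π v0 = dj σ (π f) a0)
    {y : SL(2, F)} (yy : y * y = -1)
    (hy : dj σ (π f) y ∈ h.quo.im (Cen z ⊓ Cen f ⊓ 𝐍[WW (gbB z f v0)])) :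
    ∃ v, CzaG z f π σ v ∧ π v = dj σ (π f) y ∧ WW (gbB z f v) = WW (gbB z f v0) := by
  have := h.quo.finite
  have cf := h.cza_cz hf
  obtain ⟨m, hm, c, e⟩ := h.quo.mem_im.1 hy
  have jj := cf.dj_sq yy
  have ho : Odd (orderOf (m * m)) := odd_orderOf_of_mem_OO
    ((h.quo.ker _ (c.mul_left c)).1 (by rw [h.quo.mul _ _ c c, e]; exact jj))
  have e' : π (m ^ orderOf (m * m)) = dj σ (π f) y := by
    rw [h.quo.pow c, e]; exact Cx.pow_odd_inv jj ho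
  have gv : CzaG z f π σ (m ^ orderOf (m * m)) := h.cza_good
    (by rw [← (Commute.refl m).mul_pow, pow_orderOf_eq_one]) (c.pow_left _)
    ((mem_Cen.1 hm.1.2).symm.pow_left _) (e' ▸ cf.K_norm y y) (e' ▸ cf.cza_dj_ne_one yy)
    (e' ▸ cf.cza_dj_ne y)
  exact ⟨_, gv, e', h.cza_of_norm hf hv0 ha0 gv (pow_mem hm.2 _)⟩

omit hf in
theorem cza_bal0 (hB : TB z s π σ)
    (h2 : ∀ b c : SL(2, F), b * b = -1 → c * b = b * c → ∃ n : ℕ, c ^ 2 ^ n = 1) (hE : E16 E)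
    (hz : z ∈ E) {a : G} (ha : a ∈ E) (a1 : a ≠ 1) : UU a ⊓ Cen z ≤ UU z := by
  have := h.quo.finite
  have q := h.quo
  by_cases az : a = z
  · rw [az]; exact inf_le_left
  have ca := hE.1.comm ha hz
  by_cases m : a ∈ h.C0
  swap
  · exact h.lo.bal (hE.sq ha) ca m
  obtain ⟨f, hfE, n, hi⟩ := exists_common hE (h.lo_all hE) h.lo hz ha h.z1 a1 az
  have hf := h.cza_sw hE hz hfE n
  have cf := h.cza_cz hf
  have ga : CzaG z f π σ a := ⟨hE.sq ha, ca, hE.1.comm ha hfE, (h.mem_C0.1 m).2, a1, az⟩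
  obtain ⟨-, -, -, b, bb, -, eb⟩ := h.cza_typeB hf hB ga
  have ho : Odd (Nat.card (q.im (UU a))) := (odd_card_OO (Cen a)).of_dvd_nat
    ((card_map_dvd _ _).trans (card_comap_dvd_of_injective _ _ (subtype_injective _)))
  have hle := cf.hard' (Y := q.im (UU a)) ho ga.mem (q.sq ca ga.vv) (h.cza_cf hf ga)
    (fun k => (cf.uniq _ k (q.sq ca ga.vv)).elim (h.cza_ne ga).1 (h.cza_ne ga).2)
    (fun k ko c => by
      have e := eb k
      rw [c.eq, mul_inv_cancel_right, cjM_tG] at e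
      obtain ⟨n, hn⟩ := h2 b k bb (mul_inv_eq_iff_eq_mul.1 (cf.inj e).symm).symm
      exact eq_one_of_two_odd hn ko)
    (fun x hx => by
      obtain ⟨y, hy, c1, rfl⟩ := q.mem_im.1 hx
      exact ⟨mem_Cen.2 (h.ctr _).symm, mem_Cen.2 (q.comm ca c1 (mem_Cen.1 (BalAux.UU_le a hy)))⟩)
    (fun x hx => by
      obtain ⟨g, g1, g2, rfl, -⟩ := q.lift_cen (isPGroup_zpowers_inv ga.vv)
        (zpowers_le.2 (mem_Cen.2 ca.symm)) (q.comm_zpowers ca (mem_Cen.1 hx.2).symm)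
      refine mem_norm_of_cj_le (cj_le_iff.2 fun y hy => ?_)
      obtain ⟨y, hy', c1, rfl⟩ := q.mem_im.1 hy
      exact q.mem_im.2 ⟨_, conj_mem_of_norm (BalAux.norm_UU a (mem_Cen.2
        (g2 a (mem_zpowers a)).symm)) hy', (g1.mul_left c1).mul_left g1.inv_left, q.conj g1 c1⟩)
    fun x hx => by
      obtain ⟨y, hy, c1, rfl⟩ := q.mem_im.1 hx
      have c2 := (hf.cz.mul_left c1).mul_left hf.cz.inv_left
      have := (q.ker _ (c2.mul_left c1)).2 (hi y ⟨hy, mem_Cen.2 c1.symm⟩)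
      rw [q.mul _ _ c2 c1, q.conj hf.cz c1] at this
      exact eq_inv_of_mul_eq_one_left this
  intro y hy
  have c1 := (mem_Cen.1 hy.2).symm
  have m1 := hle (q.mem_im.2 ⟨y, hy.1, c1, rfl⟩)
  rw [h.cz.Zt_eq (h.ctr _) hf.n] at m1
  obtain ⟨k, hk⟩ := pg_iff.1 h.z2 _ m1
  exact (q.ker y c1).1 (eq_one_of_two_odd hk (q.odd_of_odd c1 (odd_orderOf_of_mem_OO hy.1)))

theorem cza_sup (hB : TB z s π σ)
    (h2 : ∀ b c : SL(2, F), b * b = -1 → c * b = b * c → ∃ n : ℕ, c ^ 2 ^ n = 1) (hE : E16 E)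
    (hz : z ∈ E) (hfE : f ∈ E) : WW E = UU z ⊔ UU f ⊔ UU (z * f) := by
  have bal : ∀ a ∈ E, a ≠ 1 → ∀ b ∈ E, b ≠ 1 → UU a ⊓ Cen b ≤ UU b := fun a ha a1 b hb b1 y hy => by
    obtain ⟨g, e⟩ := isConj_iff.1 (h.all_T hB hE hb b1).symm
    rw [← BalAux.mem_UU_conj g, e]
    refine h.cza_bal0 hB h2 (hE.cj g) (e ▸ conj_mem_cj hb) (conj_mem_cj ha)
      (fun k => a1 (conj_eq_one_iff.1 k)) ⟨(BalAux.mem_UU_conj g).2 hy.1, ?_⟩
    rw [← e, ← Cen_conj]; exact conj_mem_cj hy.2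
  have le : ∀ a ∈ E, a ≠ 1 → UU a ≤ WW E := fun a ha a1 =>
    le_WW hE.1 hE.2.ge (odd_card_OO _) (Pre.norm_UU hE.1 ha) fun B hB hi =>
      le_trans (le_signalizerDelta_iff.2 fun b hb b1 =>
        (inf_le_inf_left _ (centralizer_le_centralizer_singleton hb)).trans (bal a ha a1 b (hB hb) b1))
        (delta_le_WW hB (by rw [Pre.card_hyp hE.2 hB hi]; norm_num))
  have p := h.cza_pair hf
  have hb := bal2 hE (h.lo_all hE)
  have hu := mul_mem hz hfE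
  have u1 : z * f ≠ 1 := p.mul.ne_one_right
  have hn : E ≤ 𝐍[WW E] := le_normalizer.trans (norm_WW E)
  exact le_antisymm (le_of_four_group p.ha p.hb p.ne p.comm (hn hz) (hn hfE)
    (Nat.two_dvd_ne_zero.2 (Nat.odd_iff.1 (WW_odd hE.1 hE.2.ge hb)))
    ((WW_cen hE.1 hE.2.ge hb hz h.z1).trans (le_sup_left.trans le_sup_left))
    ((WW_cen hE.1 hE.2.ge hb hfE p.ne_one_right).trans (le_sup_right.trans le_sup_left))
    ((WW_cen hE.1 hE.2.ge hb hu u1).trans le_sup_right))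
    (sup_le (sup_le (le z hz h.z1) (le f hfE p.ne_one_right)) (le _ hu u1))

end Gen

/-- (C1) -/
theorem Gen.WW_good (h : Gen z s t π σ) (hE : E16 E) (hz : z ∈ E) (hf : f ∈ E) (n : f ∉ h.C0)
    {E' : Subgroup G} (hE' : E16 E') (hz' : z ∈ E') (hf' : f ∈ E') : WW E' = WW E := by
  have := h.quo.finite
  have sw := h.cza_sw hE hz hf n
  have cf := h.cza_cz sw
  obtain ⟨v, hvE, hv⟩ := h.cza_exists sw hE hz hf
  obtain ⟨v', hvE', hv'⟩ := h.cza_exists sw hE' hz' hf'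
  rcases h.typ with hA | hB
  · rw [← h.cza_eq sw hE hz hf hv hvE, ← h.cza_eq sw hE' hz' hf' hv' hvE', h.cza_allA sw hA hv hv']
  obtain ⟨u, hu, gu, a, aa, ea, -⟩ := h.cza_typeB sw hB hv
  obtain ⟨u', hu', gu', a', aa', ea', -⟩ := h.cza_typeB sw hB hv'
  have uE : u ∈ E := by rcases hu with rfl | rfl; exacts [hvE, mul_mem hvE hz]
  have uE' : u' ∈ E' := by rcases hu' with rfl | rfl; exacts [hvE', mul_mem hvE' hz']
  refine (sl_gb cf.odd cf.big
    (H := (h.quo.im (Cen z ⊓ Cen f ⊓ 𝐍[WW (gbB z f u)])).comap cf.czaJ) aa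
    (h.quo.mem_im.2 ⟨u, ⟨⟨mem_Cen.2 gu.cz.symm, mem_Cen.2 gu.cf.symm⟩,
      norm_WW _ (le_normalizer (gbB_v z f u))⟩, gu.cz, ea⟩) (fun g x xx hx hx' => ?_)).elim
      (fun e => ?_) fun h2 => ?_
  · obtain ⟨w, gw, e1, e2⟩ := h.cza_lift_good sw gu ea xx hx
    obtain ⟨w', gw', e1', e2'⟩ := h.cza_lift_good sw gu ea (by rw [conj_mul, xx]; simp) hx'
    have le := h.cza_le sw (cf.dj_s g)
    obtain ⟨g', cz, cp, eg, -⟩ := h.quo.lift_cen (h.cza_ea sw).isPGroup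
      (fun p hp => mem_Cen.2 (h.mem_czaC.1 (le hp)).1.symm) fun p hp => (h.mem_czaC.1 (le hp)).2
    have cs := cp f (mem_sup_right (mem_zpowers f))
    refine h.quo.mem_im.2 ⟨g', ⟨⟨mem_Cen.2 cz.symm, mem_Cen.2 cs.symm⟩, cj_eq_iff.1 ?_⟩, cz, eg⟩
    have := h.cza_pi sw gw' (h.cza_conj sw gw cz cs)
      (by rw [h.quo.conj cz gw.cz, eg, e1, e1', cf.dj_conj])
    rwa [Pre.phi_cj cz cs, e2, e2'] at this
  · obtain ⟨w, gw, e1, e2⟩ := h.cza_lift_good sw gu ea aa' (e.ge (mem_top a'))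
    rw [← h.cza_eq sw hE hz hf gu uE, ← h.cza_eq sw hE' hz' hf' gu' uE', ← e2,
      h.cza_pi sw gw gu' (ea'.trans e1.symm)]
  · rw [h.cza_sup sw hB h2 hE hz hf, h.cza_sup sw hB h2 hE' hz' hf']

end Cfsg.Agent.L4
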