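import Mathlib
import Cfsg.Agent.L4.CZA
import Cfsg.Agent.P4.Sig

/-! The centralizer of `z` normalizes the signalizer. -/

set_option autoImplicit false
set_option linter.unusedSectionVars false

namespace Cfsg.Agent.L4

open Cfsg.Agent.Loc.Mss Cfsg.Agent.GW Subgroup Cfsg.Agent.P4 Cfsg.Agent.G2T Cfsg.Agent.Cl.GL2
open Cfsg.Agent.GT Cfsg.Agent.Inv
open scoped MatrixGroups

variable {G X : Type*} [Group G] [Finite G] [Group X] {F : Type} [Field F] [Fintype F]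
  {z s t : G} {π : G → X} {σ : SL(2, F) →* X} {E : Subgroup G}

/-- Two commuting involutions of `C(z)` with signalizer `W`. -/
structure CzP (z : G) (W : Subgroup G) (v w : G) : Prop where
  vv : v * v = 1
  ww : w * w = 1
  vz : Commute v z
  wz : Commute w z
  vw : Commute v w
  eq : WW (gbB z v w) = W

namespace Gen

variable (h : Gen z s t π σ) (hE : E16 E) (hz : z ∈ E) {f v w v' w' : G} {x : X}
include h hE

theorem cz_UU : UU z ≤ 𝐍[WW E] ∨ z ∉ E := by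
  refine (em (z ∈ E)).imp_left fun hz => ?_
  refine CopAct.le_of_hyperplane_centralizer_le hE.1 (ne_bot_of_four (by rw [hE.2]; omega))
    (Pre.norm_UU hE.1 hz) (Sg.nd_UU z) fun B hB hi =>
      inf_le_right.trans ((cent_le_norm B).trans ?_)
  rw [← h.cza_WW hE hB (Pre.card_hyp hE.2 hB hi).ge]
  exact norm_WW B

include hz

theorem cz_key (p : CzP z (WW E) v w) (p' : CzP z (WW E) v' w') (e1 : x * π v * x⁻¹ = π v')
    (e2 : x * π w * x⁻¹ = π w') : x ∈ h.quo.im 𝐍[WW E] := by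
  have q := h.quo
  obtain ⟨g, gz, rfl, eg⟩ := q.lift_conj p.vv p'.vv p.vz p'.vz e1
  have cu := (gz.mul_left p.wz).mul_left gz.inv_left
  have ho := (q.eq_iff p'.wz cu).1 ((q.conj gz p.wz).trans e2).symm
  rw [inv_eq_of_mul_eq_one_right p'.ww] at ho
  obtain ⟨d, hd, ed⟩ := exists_conj_zpowers p'.ww (b := g * w * g⁻¹)
    (by rw [conj_mul, p.ww]; simp) (odd_orderOf_of_mem_OO ho)
  have dz := (commute_of_mem_zpowers' (p'.wz.mul_left cu).symm hd).symm
  have dv : Commute d v' := (commute_of_mem_zpowers' (p'.vw.mul_right (by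
    rw [← eg]; exact (Commute.conj_iff g).2 p.vw)) hd).symm
  have hd' := (h.cz_UU hE).resolve_right (not_not.2 hz) (zpowers_le.2 ho hd)
  refine q.mem_im.2 ⟨g, (mul_mem_cancel_left hd').1 (cj_eq_iff.1 ?_), gz, rfl⟩
  have e : cj(d * g, gbB z v w) = gbB z v' w' := by
    simp only [gbB, cj_sup, MonoidHom.map_zpowers, MulEquiv.coe_toMonoidHom, MulAut.conj_apply]
    rw [(dz.mul_left gz).eq, mul_inv_cancel_right,
      show d * g * w * (d * g)⁻¹ = d * (g * w * g⁻¹) * d⁻¹ by group, ed,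
      show d * g * v * (d * g)⁻¹ = d * (g * v * g⁻¹) * d⁻¹ by group, eg, dv.eq, mul_inv_cancel_right]
  conv_lhs => rw [← p.eq]
  rw [WW_cj, e, p'.eq]

omit hE hz in
theorem cz_mul_z {W : Subgroup G} (p : CzP z W v w) : CzP z W v (w * z) := by
  refine ⟨p.vv, by rw [p.wz.symm.mul_mul_mul_comm, p.ww, h.zz, one_mul], p.vz,
    p.wz.mul_left (Commute.refl z), p.vw.mul_right p.vz, ?_⟩
  rw [← p.eq]
  congr 1
  refine le_antisymm (gbB_le (gbB_z _ _ _) (gbB_s _ _ _) (mul_mem (gbB_v _ _ _) (gbB_z _ _ _)))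
    (gbB_le (gbB_z _ _ _) (gbB_s _ _ _) ?_)
  exact (mul_mem_cancel_right (gbB_z z v (w * z))).1 (gbB_v _ _ _)

theorem cz_exists (hf : CzaS z f π σ) (hfE : f ∈ E) {a b : SL(2, F)} (aa : a * a = -1)
    (bb : b * b = -1) (ab : b * a = -(a * b)) :
    ∃ v w, CzP z (WW E) v w ∧ π v = dj σ (π f) a ∧ π w = dj σ (π f) b := by
  have := h.quo.finite
  have cf := h.cza_cz hf
  obtain ⟨v, gv, ev⟩ := h.cza_lift hf (cf.dj_sq aa) (cf.dj_s a) (cf.K_norm a a)
    (cf.cza_dj_ne_one aa) (cf.cza_dj_ne a)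
  have le : gbB z f v ≤ h.czaC (dj σ (π f) b) := sup_le (h.cza_le hf (cf.dj_s b))
    (zpowers_le.2 (h.mem_czaC.2 ⟨gv.cz, by
      rw [ev, Commute, SemiconjBy, ← cf.dj_mul, ab, cf.dj_neg, cf.dj_mul]⟩))
  obtain ⟨w, ww, wz, cw, ew⟩ := h.quo.lift_inv (h.cza_gb_ea hf gv).isPGroup
    (fun p hp => mem_Cen.2 (h.mem_czaC.1 (le hp)).1.symm) (cf.dj_sq bb)
    fun p hp => (h.mem_czaC.1 (le hp)).2
  have wv := cw v (gbB_v z f v)
  have wf := cw f (gbB_s z f v)
  have p := gb_pair h.zz gv.vv h.z1 gv.v1 gv.vz.symm gv.cz.symm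
  have ea := isElementaryAbelian_four_group (by rw [pow_two, h.zz]) (by rw [pow_two, gv.vv])
    gv.cz.symm
  have le2 : zpowers z ⊔ zpowers v ≤ h.czaC (σ a) := sup_le (zpowers_le.2 (h.z_czaC _))
    (zpowers_le.2 (h.mem_czaC.2 ⟨gv.cz, ev ▸ (Commute.refl _).mul_right (cf.comm a a)⟩))
  have nw : w ∉ zpowers z ⊔ zpowers v := fun m => by
    have c := (h.mem_czaC.1 (le2 m)).2
    rw [ew] at c
    have c2 : Commute (σ a) (σ b) := by
      simpa [dj] using c.mul_right (cf.comm a b).inv_right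
    have e := cf.inj (by rw [map_mul, map_mul]; exact c2.eq : σ (a * b) = σ (b * a))
    rw [ab] at e
    refine SLF.neg_one_ne_one cf.two_ne (mul_right_cancel (b := a * b) ?_)
    rw [one_mul, neg_mul, one_mul, ← e]
  have c8 : Nat.card (gbB z v w) = 8 := by
    rw [gbB, PG.card_sup_zpowers Nat.prime_two (cent_le_norm _ (cza_cent wz wv)) nw
      (by rw [pow_two, ww]; exact one_mem _), card_four_group p.ha p.hb p.ne p.comm]
  have eb : IsElementaryAbelian 2 (gbB z v w) :=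
    ea.sup_zpowers (by rw [pow_two, ww]) (cza_cent wz wv)
  have fc : f ∈ 𝐂[gbB z v w] := by
    rw [gbB, cent_sup, GT.centralizer_zpowers]
    exact ⟨cza_cent hf.cz gv.cf.symm, mem_Cen.2 wf⟩
  have nf : f ∉ gbB z v w := fun m => h.cza_nC hf (gbB_le h.lo.self (h.mem_C0.2 ⟨gv.cz, gv.mem⟩)
    (h.mem_C0.2 ⟨wz, ew ▸ cf.K_norm b b⟩) m)
  have hE' : E16 (gbB z v w ⊔ zpowers f) := ⟨eb.sup_zpowers (by rw [pow_two, hf.ff]) fc, by
    rw [PG.card_sup_zpowers Nat.prime_two (cent_le_norm _ fc) nf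
      (by rw [pow_two, hf.ff]; exact one_mem _), c8]⟩
  exact ⟨v, w, ⟨gv.vv, ww, gv.cz, wz, wv.symm, (h.cza_WW hE' le_sup_left c8.ge).trans
    (h.WW_good hE hz hfE (h.cza_nC hf) hE' (mem_sup_left (gbB_z z v w))
      (mem_sup_right (mem_zpowers f)))⟩, ev, ew⟩

end Gen

theorem Gen.cen_le (h : Gen z s t π σ) (hE : E16 E) (hz : z ∈ E) : Cen z ≤ 𝐍[WW E] := by
  have q := h.quo
  have := q.finite
  obtain ⟨f, hfE, n⟩ := h.lo.nd E hE hz
  have hf := h.cza_sw hE hz hfE n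
  have cf := h.cza_cz hf
  set M := q.im 𝐍[WW E] with hM
  have m1 : ∀ x, Commute x (π f) → x ∈ M := fun x hx => by
    obtain ⟨g, c1, c2, e, -⟩ := q.lift_cen (isPGroup_zpowers_inv hf.ff)
      (zpowers_le.2 (mem_Cen.2 hf.cz.symm)) (q.comm_zpowers hf.cz hx)
    refine q.mem_im.2 ⟨g, cj_eq_iff.1 ?_, c1, e⟩
    have k1 := conj_mem_cj (g := g) hz
    have k2 := conj_mem_cj (g := g) hfE
    rw [c1.eq, mul_inv_cancel_right] at k1
    rw [(c2 f (mem_zpowers f)).eq, mul_inv_cancel_right] at k2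
    rw [WW_cj, h.WW_good hE hz hfE n (hE.cj g) k1 k2]
  have aa := SLF.w0_mul_self (F := F)
  set a := SLF.w0 F with ha
  obtain ⟨b, bb, ab⟩ := sl_exists_inv cf.odd aa
  obtain ⟨v, w, p, ev, ew⟩ := h.cz_exists hE hz hf hfE aa bb ab
  have cj1 : ∀ c d e : SL(2, F), σ c * (σ d * tw σ (π f) e) * (σ c)⁻¹ =
      σ (c * d * c⁻¹) * tw σ (π f) e := fun c d e => by
    rw [map_mul, map_mul, map_inv, mul_assoc, mul_assoc, ← (cf.comm c e).inv_left.eq]; group
  have m2 : σ a ∈ M := h.cz_key hE hz p (h.cz_mul_z p) (by rw [ev, dj, cj1, mul_inv_cancel_right])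
    (by
      rw [q.mul _ _ p.wz (Commute.refl z), h.hz, ew, dj, cj1, ← cf.neg_left,
        show a * b = -(b * a) by rw [ab, neg_neg], neg_mul, mul_inv_cancel_right])
  have m3 : ∀ c, σ c ∈ M := by
    have : (M.comap σ).Normal := ⟨fun c hc d => by
      have := mul_mem (mul_mem (m1 _ (cf.dj_s d)) hc) (inv_mem (m1 _ (cf.dj_s d)))
      rwa [dj, cf.ind_K d d c, cjM_tG] at this⟩
    rcases sl_normal cf.big (M.comap σ) with e | e
    · rcases sl_center cf.two_ne (mem_center_iff.1 (e m2)) with e | e <;> rw [e] at aa <;>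
        exact absurd (by simpa using aa.symm) (SLF.neg_one_ne_one cf.two_ne)
    · exact fun c => show c ∈ M.comap σ from e ▸ mem_top c
  have ms : π f ∈ M := m1 _ (Commute.refl _)
  have m4 : ∀ c, tw σ (π f) c ∈ M := fun c => mul_mem (mul_mem ms (m3 c)) (inv_mem ms)
  have m5 : ∀ g ∈ 𝐍[σ.range], Odd (orderOf g) → g ∈ M := fun g hg ho => by
    obtain ⟨α, oα, hα⟩ := cf.exists_aut_odd (h.ctr g) ho
    obtain ⟨β, oβ, hβ⟩ := cf.symm.exists_aut_odd (cf.tw_z ▸ h.ctr g) ho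
    have an : Anti (tG b) (tG a) := by
      unfold Anti
      rw [← Units.val_mul, ← Units.val_mul, ← map_mul, ← map_mul, ab]
      simp
    obtain ⟨k, k1, k2⟩ := aut_pair cf.odd α oα an
    obtain ⟨l, l1, l2⟩ := aut_pair cf.odd β oβ an
    have e : ∀ c, k * α c * k⁻¹ = c → l * β c * l⁻¹ = c → σ k * tw σ (π f) l * g * dj σ (π f) c *
        (σ k * tw σ (π f) l * g)⁻¹ = dj σ (π f) c := fun c e1 e2 => by
      rw [show σ k * tw σ (π f) l * g * dj σ (π f) c * (σ k * tw σ (π f) l * g)⁻¹ =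
        σ k * tw σ (π f) l * (g * σ c * g⁻¹ * (g * tw σ (π f) c * g⁻¹)) * (σ k * tw σ (π f) l)⁻¹ by
          rw [dj]; group, dj, hα, hβ, cf.mul_inv, cf.mul_mul, cf.mul_mul, e1, e2]
    exact (mul_mem_cancel_left (mul_mem (m3 k) (m4 l))).1 (h.cz_key hE hz p p
      (by rw [ev, e a k2 l2]) (by rw [ew, e b k1 l1]))
  have m6 : ∀ g ∈ 𝐍[σ.range], (∃ n : ℕ, g ^ 2 ^ n = 1) → g ∈ M := fun g hg h2 => by
    obtain ⟨A, B, e1, e2, sq⟩ := cf.ind2 hg h2
    obtain ⟨c, k, ek⟩ := exists_scal_mul (M := A * B⁻¹) (by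
      obtain ⟨r, hr⟩ := sq
      have hB : dt B ≠ 0 := B.det_ne_zero
      refine ⟨r / dt B, ?_⟩
      rw [Units.val_mul, Matrix.det_mul, Matrix.coe_units_inv, Matrix.det_nonsing_inv,
        Ring.inverse_eq_inv', div_mul_div_comm, ← hr]
      change dt A * (dt B)⁻¹ = _
      field_simp)
    have i1 : Ind σ (tw σ (π f) k * g) A := by
      have := (cf.ind_K 1 k).mul e1
      rwa [map_one, one_mul, show tG (1 : SL(2, F)) = 1 from map_one _, one_mul] at this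
    have i2 : Ind (tw σ (π f)) (tw σ (π f) k * g) A := by
      rw [mul_inv_eq_iff_eq_mul.1 ek, mul_assoc]
      exact ((Ind.map _ k).mul e2).scal_mul (cza_scal c)
    have e : ∀ d, tw σ (π f) k * g * dj σ (π f) d * (tw σ (π f) k * g)⁻¹ = dj σ (π f) (cjM A d) :=
      fun d => by rw [dj, ← conj_mul, i1 d, i2 d, dj]
    have mm : ∀ d e, cjM A d * cjM A e = cjM A (d * e) := fun d e => (map_mul (cjE A) d e).symm
    obtain ⟨v', w', p', ev', ew'⟩ := h.cz_exists hE hz hf hfE (a := cjM A a) (b := cjM A b)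
      (by rw [mm, aa, cjM_neg_one]) (by rw [mm, bb, cjM_neg_one]) (by
        rw [mm, ab, ← neg_one_mul, ← mm, cjM_neg_one, neg_one_mul, mm])
    exact (mul_mem_cancel_left (m4 k)).1 (h.cz_key hE hz p p' (by rw [ev, ev', e])
      (by rw [ew, ew', e]))
  have m7 : 𝐍[σ.range] ≤ M := fun g hg => by
    obtain ⟨x, hx, u, hu, h2, ho, e⟩ := exists_two_mul_odd g
    rw [e]
    exact mul_mem (m6 x (zpowers_le.2 hg hx) h2) (m5 u (zpowers_le.2 hg hu) ho)
  refine fun g hg => q.mem_of_im ((h.cz_UU hE).resolve_right (not_not.2 hz)) (mem_Cen.1 hg).symm ?_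
  rcases cf.nrm (π g) (h.ctr _) with e | e
  exacts [m7 e, (mul_mem_cancel_right ms).1 (m7 e)]

end Cfsg.Agent.L4
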