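import Mathlib
import Cfsg.Agent.Ch.MultSL2
import Cfsg.Agent.Ch.MultiplierCrit

/-! Central extensions of `SL₂(q)` by a group of odd order that admit all diagonal automorphisms split. -/

set_option autoImplicit false

namespace Cfsg.Agent.L4.Ex

open Subgroup
open scoped MatrixGroups commutatorElement

variable {H Q : Type*} [Group H] [Group Q] {F : Type} [Field F] [Fintype F]

theorem comm_of_lift (ξ : H →* Q) (hc : ξ.ker ≤ center H) {x x' y y' : H} (e1 : ξ x = ξ x') (e2 : ξ y = ξ y') :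
    ⁅x, y⁆ = ⁅x', y'⁆ := by
  have h1 : x'⁻¹ * x ∈ center H := hc (by simp [MonoidHom.mem_ker, e1])
  have h2 : y'⁻¹ * y ∈ center H := hc (by simp [MonoidHom.mem_ker, e2])
  rw [← mul_inv_cancel_left x' x, ← mul_inv_cancel_left y' y, Ch.commutatorElement_mul_central_left h1,
    Ch.commutatorElement_mul_central_right h2]

theorem up_comm (h4 : 4 < Nat.card F) (ξ : H →* SL(2, F)) (hs : Function.Surjective ξ) (hc : ξ.ker ≤ center H)
    (hd : ∀ v : F, v ≠ 0 → ∀ t u x y, ξ x = GT.slUp t → ξ y = GT.slUp u →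
      ∃ x' y', ξ x' = GT.slUp (v * t) ∧ ξ y' = GT.slUp (v * u) ∧ ⁅x', y'⁆ = ⁅x, y⁆)
    {t u : F} {x y : H} (hx : ξ x = GT.slUp t) (hy : ξ y = GT.slUp u) : ⁅x, y⁆ = 1 := by
  choose l hl using fun t : F => hs (GT.slUp t)
  have m : ∀ t u, ⁅l t, l u⁆ ∈ center H := fun t u => hc (by
    rw [MonoidHom.mem_ker, map_commutatorElement, hl, hl, commutatorElement_eq_one_iff_mul_comm, ← GT.slUp_add,
      ← GT.slUp_add, add_comm])
  let : CommGroup (center H) := { (inferInstance : Group (center H)) with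
    mul_comm := fun a b => Subtype.ext (mem_center_iff.1 b.2 a) }
  let ω : F → F → center H := fun t u => ⟨_, m t u⟩
  have hv : ∀ v : F, v ≠ 0 → ∀ t u, ω (v * t) (v * u) = ω t u := fun v hv t u => by
    obtain ⟨x', y', e1, e2, e⟩ := hd v hv t u _ _ (hl t) (hl u)
    exact Subtype.ext ((comm_of_lift ξ hc (by rw [hl, e1]) (by rw [hl, e2])).trans e)
  obtain ⟨v, h0, h1, h2⟩ := Ch.exists_ne_root_six h4
  have := Ch.biadd_eq_one_of_two_scalars (ω := ω) (fun t t' u => Subtype.ext ?_) (fun t u u' => Subtype.ext ?_) h0 h1 h2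
    (hv v h0) (hv _ (sub_ne_zero.2 h1.symm)) t u
  · exact (comm_of_lift ξ hc (by rw [hl, hx]) (by rw [hl, hy])).trans (congrArg Subtype.val this)
  · change ⁅l (t + t'), l u⁆ = ⁅l t, l u⁆ * ⁅l t', l u⁆
    rw [comm_of_lift ξ hc (x' := l t * l t') (by rw [map_mul, hl, hl, hl, GT.slUp_add]) rfl,
      mem_center_iff.1 (m t' u)]
    calc _ = l t * ⁅l t', l u⁆ * (l t)⁻¹ * ⁅l t, l u⁆ := by simp only [commutatorElement_def]; group
      _ = _ := by rw [mem_center_iff.1 (m t' u) (l t), mul_inv_cancel_right]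
  · change ⁅l t, l (u + u')⁆ = ⁅l t, l u⁆ * ⁅l t, l u'⁆
    rw [comm_of_lift ξ hc (y' := l u * l u') rfl (by rw [map_mul, hl, hl, hl, GT.slUp_add])]
    calc _ = ⁅l t, l u⁆ * (l u * ⁅l t, l u'⁆ * (l u)⁻¹) := by simp only [commutatorElement_def]; group
      _ = _ := by rw [mem_center_iff.1 (m t u') (l u), mul_inv_cancel_right]

theorem inf_eq_bot [Finite H] (h4 : 4 < Nat.card F) (ξ : H →* SL(2, F)) (hs : Function.Surjective ξ)
    (hc : ξ.ker ≤ center H) (ho : ∀ x ∈ ξ.ker, Odd (orderOf x))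
    (hd : ∀ v : F, v ≠ 0 → ∀ t u x y, ξ x = GT.slUp t → ξ y = GT.slUp u →
      ∃ x' y', ξ x' = GT.slUp (v * t) ∧ ξ y' = GT.slUp (v * u) ∧ ⁅x', y'⁆ = ⁅x, y⁆) :
    ξ.ker ⊓ commutator H = ⊥ := by
  refine eq_bot_iff.2 fun w hw => ?_
  by_contra w1
  obtain ⟨r, hr, hdvd⟩ := Nat.exists_prime_and_dvd (fun e => w1 (orderOf_eq_one_iff.1 e) : orderOf w ≠ 1)
  have r2 : r ≠ 2 := by
    rintro rfl
    exact (Nat.not_even_iff_odd.2 (ho w hw.1)) (even_iff_two_dvd.2 hdvd)
  have key : ∀ U : Subgroup SL(2, F), ⁅U.comap ξ, U.comap ξ⁆ = ⊥ → r ∣ U.index := fun U hU => by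
    have := Ch.pow_index_mem_commutator_comap ξ hs U (hc hw.1) hw.2
    rw [hU, mem_bot] at this
    exact hdvd.trans (orderOf_dvd_of_pow_eq_one this)
  obtain ⟨p, hchar⟩ := CharP.exists F
  have := Fact.mk (CharP.char_is_prime F p)
  have := Fact.mk hr
  by_cases h : r = p
  · subst h
    have := key (Ch.slUpHom F).range (eq_bot_iff.2 (commutator_le.2 fun x ⟨t, ht⟩ y ⟨u, hu⟩ =>
      up_comm h4 ξ hs hc hd ht.symm hu.symm))
    rw [Ch.index_slUpHom] at this
    exact Cl.not_char_dvd_pow_sub_one r two_ne_zero this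
  · obtain ⟨R⟩ : Nonempty (Sylow r SL(2, F)) := inferInstance
    have := S0262.result p r r2 h R
    refine R.not_dvd_index (key R ?_)
    have := Ch.commutator_eq_bot_of_isCyclic (ξ.subgroupComap R) fun x hx => mem_center_iff.2 fun g =>
      Subtype.ext (mem_center_iff.1 (hc (congrArg Subtype.val hx)) g)
    rw [← map_subtype_commutator, this, Subgroup.map_bot]

theorem exists_section [Finite H] (h4 : 4 < Nat.card F) (ξ : H →* SL(2, F)) (hs : Function.Surjective ξ)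
    (hc : ξ.ker ≤ center H) (ho : ∀ x ∈ ξ.ker, Odd (orderOf x))
    (hd : ∀ v : F, v ≠ 0 → ∀ t u x y, ξ x = GT.slUp t → ξ y = GT.slUp u →
      ∃ x' y', ξ x' = GT.slUp (v * t) ∧ ξ y' = GT.slUp (v * u) ∧ ⁅x', y'⁆ = ⁅x, y⁆) :
    ∃ η : SL(2, F) →* H, ∀ a, ξ (η a) = a := by
  have hb := inf_eq_bot h4 ξ hs hc ho hd
  have := Cl.sl_isPerfect (ι := Fin 2) (F := F) (Or.inr (Ch.exists_sq_ne_one_of_card (by omega)))
  have bij : Function.Bijective (ξ.comp (commutator H).subtype) := by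
    refine ⟨(injective_iff_map_eq_one _).2 fun x hx => Subtype.ext ?_, fun a => ?_⟩
    · exact mem_bot.1 (hb ▸ mem_inf.2 ⟨hx, x.2⟩)
    · obtain ⟨x, hx, e⟩ := Ch.exists_mem_commutator_of_surjective ξ hs (y := a)
        (by rw [Group.IsPerfect.commutator_eq_top]; trivial)
      exact ⟨⟨x, hx⟩, e⟩
  exact ⟨(commutator H).subtype.comp (MulEquiv.ofBijective _ bij).symm.toMonoidHom,
    (MulEquiv.ofBijective _ bij).apply_symm_apply⟩

end Cfsg.Agent.L4.Ex
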