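import Mathlib
import Cfsg.Agent.L4.GenA
import Cfsg.Agent.L4.ExactA
import Cfsg.Agent.Cl.QuadClassify

/-! Lifting the factors to the centralizer (see stubs/Cfsg/Agent/L4/PLAN.md) -/

set_option autoImplicit false
set_option linter.unusedSectionVars false

namespace Cfsg.Agent.L4

open Cfsg.Agent.Loc.Mss Cfsg.Agent.GW Subgroup Cfsg.Agent.P4 Cfsg.Agent.G2T Cfsg.Agent.Cl.GL2
open scoped MatrixGroups commutatorElement

variable {G X : Type*} [Group G] [Finite G] [Group X] {F : Type} [Field F] [Fintype F]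
  {z s t : G} {π : G → X} {σ : SL(2, F) →* X}

namespace Ex

theorem dt_ne (M : GL (Fin 2) F) : dt M ≠ 0 := (Matrix.isUnits_det_units M).ne_zero

theorem dt_mul (M N : GL (Fin 2) F) : dt (M * N) = dt M * dt N := by
  rw [dt, Units.val_mul, Matrix.det_mul]

theorem sq_iff (M N : GL (Fin 2) F) : IsSquare (dt M * dt N) ↔ (IsSquare (dt M) ↔ IsSquare (dt N)) :=
  Cl.quad_isSquare_mul_iff (dt_ne M) (dt_ne N)

theorem nsq_pow {M : GL (Fin 2) F} (h : ¬ IsSquare (dt M)) {m : ℕ} (hm : Odd m) : ¬ IsSquare (dt (M ^ m)) := by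
  obtain ⟨k, rfl⟩ := hm
  rw [pow_succ, dt_mul, sq_iff, two_mul, pow_add, dt_mul]
  exact fun e => h (e.1 ⟨_, rfl⟩)

/-- The diagonal matrix with entries `v, 1`. -/
def dg {v : F} (hv : v ≠ 0) : GL (Fin 2) F :=
  Matrix.GeneralLinearGroup.mkOfDetNeZero !![v, 0; 0, 1] (by simp [Matrix.det_fin_two, hv])

theorem cjM_dg {v : F} (hv : v ≠ 0) (u : F) : cjM (dg hv) (GT.slUp u) = GT.slUp (v * u) := by
  rw [cjM_eq_iff', GT.coe_slUp, GT.coe_slUp]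
  change !![v, 0; 0, 1] * _ = _ * !![v, 0; 0, 1]
  ext i j
  fin_cases i <;> fin_cases j <;> simp [Matrix.mul_apply, Fin.sum_univ_two]

theorem odd_O {o : G} (ho : o ∈ UU z) : Odd (orderOf o) :=
  (BalAux.odd_inf z ⊤).of_dvd_nat (orderOf_dvd_natCard _ (mem_inf.2 ⟨ho, mem_top _⟩))

/-- Every swap involution acts without fixed points on the core. -/
def HO (h : Gen z s t π σ) : Prop := ∀ f, f * f = 1 → Commute f z → f ∉ h.C0 → UU z ⊓ Cen f = ⊥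

variable {h : Gen z s t π σ} (hO : HO h) {f g c o : G} {x y : X} {M N : GL (Fin 2) F}
include hO

theorem HO.inv (ff : f * f = 1) (c : Commute f z) (n : π f ∉ 𝐍[σ.range]) (ho : o ∈ UU z) : f * o * f⁻¹ = o⁻¹ :=
  inv_of_fpf (BalAux.norm_UU z (mem_Cen.2 c.symm)) ff (fun _ hy e => mem_bot.1
    (hO f ff c (fun m => n (h.mem_C0.1 m).2) ▸ mem_inf.2 ⟨hy, mem_Cen.2 e.symm⟩)) ho

theorem HO.ab : UU z ≤ 𝐂[UU z] := fun a ha b hb => by
  have k := fun o => hO.inv (o := o) h.ss h.sz h.cz.s_not_mem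
  have := k _ (mul_mem ha hb)
  rw [← conj_mul, k a ha, k b hb, ← _root_.mul_inv_rev, inv_inj] at this
  exact this

theorem HO.memC (hg : Commute g z) (e : π g ∈ h.quo.im 𝐂[UU z]) : g ∈ 𝐂[UU z] := h.quo.mem_of_im hO.ab hg e

omit hO in
theorem im_conj (hx : x ∈ h.quo.im 𝐂[UU z]) (y : X) : y * x * y⁻¹ ∈ h.quo.im 𝐂[UU z] := by
  obtain ⟨g, hg, c, rfl⟩ := h.quo.mem_im.1 hx
  obtain ⟨k, ck, rfl⟩ := h.quo.surj y
  refine h.quo.mem_im.2 ⟨k * g * k⁻¹, fun o ho => ?_, (ck.mul_left c).mul_left ck.inv_left, h.quo.conj ck c⟩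
  have := hg _ ((mem_normalizer_iff''.1 (BalAux.norm_UU z (mem_Cen.2 ck.symm)) o).1 ho)
  calc o * (k * g * k⁻¹) = k * (k⁻¹ * o * k * g) * k⁻¹ := by group
    _ = _ := by rw [this]; group

omit hO in
theorem lift_two (h : Gen z s t π σ) (xx : x * x = 1) : ∃ v, v * v = 1 ∧ Commute v z ∧ π v = x := by
  obtain ⟨v, h1, h2, -, h3⟩ := h.quo.lift_inv (P := ⊥) IsPGroup.of_bot bot_le xx fun p hp => by
    rw [mem_bot.1 hp, h.quo.one]; exact Commute.one_right _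
  exact ⟨v, h1, h2, h3⟩

theorem HO.swap_mul (xx : x * x = 1) (yy : y * y = 1) (nx : x ∉ 𝐍[σ.range]) (ny : y ∉ 𝐍[σ.range]) :
    x * y ∈ h.quo.im 𝐂[UU z] := by
  obtain ⟨v, vv, cv, rfl⟩ := lift_two h xx
  obtain ⟨w, ww, cw, rfl⟩ := lift_two h yy
  refine h.quo.mem_im.2 ⟨v * w, fun o ho => ?_, cv.mul_left cw, h.quo.mul _ _ cv cw⟩
  have : v * w * o * (v * w)⁻¹ = o := by
    calc _ = v * (w * o * w⁻¹) * v⁻¹ := by group
      _ = o := by rw [hO.inv ww cw ny ho, hO.inv vv cv nx (inv_mem ho), inv_inv]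
  exact (mul_inv_eq_iff_eq_mul.1 this).symm

theorem HO.σ_mem (a : SL(2, F)) : σ a ∈ h.quo.im 𝐂[UU z] := by
  have := sl_perfect h.cz.big
  have k : ∀ a, σ a * tw σ (π s) a⁻¹ ∈ h.quo.im 𝐂[UU z] := fun a => by
    have := hO.swap_mul (x := σ a * π s * (σ a)⁻¹) (by rw [conj_mul, h.cz.ss]; simp) h.cz.ss (fun e =>
      h.cz.s_not_mem (by simpa [mul_assoc] using mul_mem (mul_mem (inv_mem (h.cz.σ_norm a)) e) (h.cz.σ_norm a)))
      h.cz.s_not_mem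
    rwa [tw_apply, h.cz.s_inv, map_inv, ← mul_assoc, ← mul_assoc]
  have : commutator SL(2, F) ≤ (h.quo.im 𝐂[UU z]).comap σ := commutator_le.2 fun a _ b _ => by
    have := mul_mem (k a) (im_conj (h := h) (inv_mem (k a)) (σ b))
    rw [h.cz.mul_inv, ← map_inv, ← mul_one (σ b), ← map_one (tw σ (π s)), h.cz.mul_mul, ← mul_one (σ b⁻¹),
      ← map_one (tw σ (π s)), h.cz.mul_mul, h.cz.mul_mul] at this
    simpa [commutatorElement_def, mul_assoc] using this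
  exact this (by rw [Group.IsPerfect.commutator_eq_top]; trivial)

theorem HO.tw_mem (a : SL(2, F)) : tw σ (π s) a ∈ h.quo.im 𝐂[UU z] := im_conj (h := h) (hO.σ_mem a) _

theorem HO.Zt_mem (hx : x ∈ Zt σ (π s)) : x ∈ h.quo.im 𝐂[UU z] := by
  have := hO.swap_mul (y := π s * x) h.cz.ss (by
    have := h.cz.inv _ h.cz.ss h.cz.sz h.cz.s_not_mem x hx
    rw [h.cz.s_inv] at this
    rw [← mul_assoc, this, inv_mul_cancel]) h.cz.s_not_mem fun e =>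
      h.cz.s_not_mem (by simpa using mul_mem e (inv_mem (h.cz.Zt_le hx)))
  rwa [← mul_assoc, h.cz.ss, one_mul] at this

theorem HO.out : ∃ y ∈ h.quo.im 𝐂[UU z], ∃ M N, Ind σ y M ∧ Ind (tw σ (π s)) y N ∧ ¬ IsSquare (dt M) ∧
    ¬ IsSquare (dt N) := by
  obtain ⟨f, f', ff, -, n, ff', -, n', M, e, hM⟩ := h.cz.out
  obtain ⟨m, hm, M', N', e1, e2, hs⟩ := h.cz.gl _ (h.cz.norm_of_ind e)
  have : ¬ IsSquare (dt M') := fun k => nsq_pow hM hm ((e.pow m).isSquare h.cz.inj e1 k)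
  exact ⟨_, pow_mem (hO.swap_mul ff ff' n n') m, M', N', e1, e2, this, fun k => this (((sq_iff _ _).1 hs).2 k)⟩

theorem HO.ind_mem (e1 : Ind σ x M) (e2 : Ind (tw σ (π s)) x N) (hs : IsSquare (dt M * dt N)) :
    x ∈ h.quo.im 𝐂[UU z] := by
  have := h.quo.finite
  have k : ∀ {x M N}, Ind σ x M → Ind (tw σ (π s)) x N → IsSquare (dt M) → IsSquare (dt N) →
      x ∈ h.quo.im 𝐂[UU z] := fun e1 e2 h1 h2 => by
    obtain ⟨a, b, c, hc, rfl⟩ := h.cz.eq_K e1 e2 h1 h2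
    exact mul_mem (mul_mem (hO.σ_mem a) (hO.tw_mem b)) (hO.Zt_mem hc)
  rw [sq_iff] at hs
  by_cases hM : IsSquare (dt M)
  · exact k e1 e2 hM (hs.1 hM)
  · obtain ⟨y, hy, M', N', f1, f2, n1, n2⟩ := hO.out
    have := k (e1.mul f1) (e2.mul f2) (by rw [dt_mul, sq_iff]; tauto) (by rw [dt_mul, sq_iff]; tauto)
    simpa using mul_mem this (inv_mem hy)

theorem HO.two_mem (hg : Commute g z) (n : π g ∈ 𝐍[σ.range]) (h2 : ∃ k : ℕ, g ^ 2 ^ k = 1) : g ∈ 𝐂[UU z] := by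
  have := h.quo.finite
  obtain ⟨k, hk⟩ := h2
  obtain ⟨M, N, e1, e2, hs⟩ := h.cz.ind2 n ⟨k, by rw [← h.quo.pow hg, hk, h.quo.one]⟩
  exact hO.memC hg (hO.ind_mem e1 e2 hs)

theorem HO.exists_ind (M : GL (Fin 2) F) : ∃ g ∈ 𝐂[UU z], Commute g z ∧ Ind σ (π g) M := by
  have k : ∀ M : GL (Fin 2) F, IsSquare (dt M) → ∃ a, Ind σ (σ a) M := fun M hM => by
    obtain ⟨c, a, rfl⟩ := exists_scal_mul hM
    exact ⟨a, (Ind.map σ a).scal_mul (isScal_scalGL c)⟩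
  obtain ⟨x, hx, e⟩ : ∃ x ∈ h.quo.im 𝐂[UU z], Ind σ x M := by
    by_cases hM : IsSquare (dt M)
    · obtain ⟨a, e⟩ := k M hM
      exact ⟨_, hO.σ_mem a, e⟩
    · obtain ⟨y, hy, M', -, f1, -, n1, -⟩ := hO.out
      obtain ⟨a, e⟩ := k (M * M') (by rw [dt_mul, sq_iff]; tauto)
      exact ⟨_, mul_mem (hO.σ_mem a) (inv_mem hy), by simpa using e.mul f1.inv⟩
  obtain ⟨g, hg, c, rfl⟩ := h.quo.mem_im.1 hx
  exact ⟨g, hg, c, e⟩

theorem HO.exists_lift : ∃ σ' : SL(2, F) →* G, ∀ a, Commute (σ' a) z ∧ π (σ' a) = σ a := by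
  let H := Ch.pullback h.quo.hom σ
  have cz : ∀ x : H, Commute (x.1.1 : G) z := fun x => (mem_Cen.1 x.1.1.2).symm
  have px : ∀ x : H, π x.1.1 = σ x.1.2 := fun x => x.2
  have ext : ∀ x y : H, (x.1.1 : G) = y.1.1 → x = y := fun x y e =>
    Subtype.ext (Prod.ext (Subtype.ext e) (h.cz.inj (by rw [← px, ← px, e])))
  have ker : ∀ x ∈ (Ch.pullbackSnd h.quo.hom σ).ker, (x.1.1 : G) ∈ UU z := fun x hx =>
    (h.quo.ker _ (cz x)).1 (by rw [px, show x.1.2 = 1 from hx, map_one])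
  have hc : (Ch.pullbackSnd h.quo.hom σ).ker ≤ center H := fun x hx => mem_center_iff.2 fun y => ext _ _
    (hO.memC (cz y) (px y ▸ hO.σ_mem _) _ (ker x hx)).symm
  have h4 : 4 < Nat.card F := by
    have h1 := h.cz.big
    have h2 := Nat.odd_iff.1 h.cz.odd
    rw [Nat.card_eq_fintype_card]; omega
  obtain ⟨η, hη⟩ := exists_section h4 (Ch.pullbackSnd h.quo.hom σ) (Ch.pullbackSnd_surjective h.quo.hom_surj) hc
    (fun x hx => by
      have := odd_O (ker x hx)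
      rwa [show (x.1.1 : G) = ((Cen z).subtype.comp (Ch.pullbackFst h.quo.hom σ)) x from rfl,
        orderOf_injective _ fun x y e => ext x y e] at this)
    fun v hv a b x y hx hy => by
      obtain ⟨g, hg, c, e⟩ := hO.exists_ind (dg hv)
      let α : H → H := fun x => ⟨(⟨g * x.1.1 * g⁻¹, mem_Cen.2 ((c.mul_left (cz x)).mul_left c.inv_left).symm⟩,
        cjM (dg hv) x.1.2), (h.quo.conj c (cz x)).trans (by rw [px, e]; rfl)⟩
      refine ⟨α x, α y, ?_, ?_, ext _ _ ?_⟩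
      · change cjM (dg hv) x.1.2 = _
        rw [show x.1.2 = GT.slUp a from hx, cjM_dg]
      · change cjM (dg hv) y.1.2 = _
        rw [show y.1.2 = GT.slUp b from hy, cjM_dg]
      · have m := ker ⁅x, y⁆ (by
          rw [MonoidHom.mem_ker, map_commutatorElement, hx, hy, commutatorElement_eq_one_iff_mul_comm, ← GT.slUp_add,
            ← GT.slUp_add, add_comm])
        change ⁅g * x.1.1 * g⁻¹, g * y.1.1 * g⁻¹⁆ = ⁅(x.1.1 : G), (y.1.1 : G)⁆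
        rw [← conjugate_commutatorElement, mul_inv_eq_iff_eq_mul]
        exact (hg _ m).symm
  exact ⟨((Cen z).subtype.comp (Ch.pullbackFst h.quo.hom σ)).comp η, fun a => ⟨cz (η a),
    (px (η a)).trans (congrArg σ (hη a))⟩⟩

/-- Uniqueness of lifts. -/
theorem HO.lift_eq {ρ ρ' : SL(2, F) →* G} (c : ∀ a, Commute (ρ a) z) (c' : ∀ a, Commute (ρ' a) z)
    (m : ∀ a, π (ρ a) ∈ h.quo.im 𝐂[UU z]) (e : ∀ a, π (ρ a) = π (ρ' a)) (a : SL(2, F)) : ρ a = ρ' a := by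
  have := sl_perfect h.cz.big
  have o : ∀ a, (ρ a)⁻¹ * ρ' a ∈ UU z := fun a => (h.quo.eq_iff (c a) (c' a)).1 (e a)
  have k : ∀ a b, Commute ((ρ a)⁻¹ * ρ' a) (ρ b) := fun a b => hO.memC (c b) (m b) _ (o a)
  have k' : ∀ a b, Commute ((ρ a)⁻¹ * ρ' a) (ρ' b) := fun a b => hO.memC (c' b) (e b ▸ m b) _ (o a)
  have : commutator SL(2, F) ≤ ρ.eqLocus ρ' := commutator_le.2 fun a _ b _ => by
    change ρ _ = ρ' _
    have e1 : ρ a * ρ b * (ρ a)⁻¹ = ρ' a * ρ b * (ρ' a)⁻¹ := by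
      calc _ = ρ a * ((ρ a)⁻¹ * ρ' a * ρ b * ((ρ a)⁻¹ * ρ' a)⁻¹) * (ρ a)⁻¹ := by
            rw [(k a b).eq, mul_inv_cancel_right]
        _ = _ := by group
    have e2 : ρ b * (ρ' a)⁻¹ * (ρ b)⁻¹ = ρ' b * (ρ' a)⁻¹ * (ρ' b)⁻¹ := by
      calc _ = ρ b * ((ρ b)⁻¹ * ρ' b * (ρ' a)⁻¹ * ((ρ b)⁻¹ * ρ' b)⁻¹) * (ρ b)⁻¹ := by
            rw [(k' b a).inv_right.eq, mul_inv_cancel_right]
        _ = _ := by group
    simp only [commutatorElement_def, map_mul, map_inv]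
    rw [e1, mul_assoc (ρ' a), mul_assoc (ρ' a), e2]; group
  exact this (by rw [Group.IsPerfect.commutator_eq_top]; trivial)

theorem HO.conj_lift {φ : SL(2, F) →* X} {φ' : SL(2, F) →* G} (c : ∀ a, Commute (φ' a) z) (p : ∀ a, π (φ' a) = φ a)
    (m : ∀ a, φ a ∈ h.quo.im 𝐂[UU z]) (hg : Commute g z) (β : SL(2, F) ≃* SL(2, F))
    (e : ∀ a, π g * φ a * (π g)⁻¹ = φ (β a)) (a : SL(2, F)) : g * φ' a * g⁻¹ = φ' (β a) :=
  hO.lift_eq (ρ := cjh g φ') (ρ' := φ'.comp β.toMonoidHom) (fun a => (hg.mul_left (c a)).mul_left hg.inv_left)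
    (fun _ => c _) (fun a => by rw [cjh_apply, h.quo.conj hg (c a), p]; exact im_conj (h := h) (m a) _)
    (fun a => by rw [cjh_apply, h.quo.conj hg (c a), p, e]; exact (p _).symm) a

theorem HO.eq_of_two {a b : G} (ca : Commute a z) (cb : Commute b z) (m : b ∈ 𝐂[UU z]) (h1 : ∃ k : ℕ, a ^ 2 ^ k = 1)
    (h2 : ∃ k : ℕ, b ^ 2 ^ k = 1) (e : π a = π b) : a = b := by
  obtain ⟨k, hk⟩ := h1
  obtain ⟨l, hl⟩ := h2
  have ho := (h.quo.eq_iff cb ca).1 e.symm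
  have c : Commute (b⁻¹ * a) b := m _ ho
  have : b⁻¹ * a = 1 := eq_one_of_two_odd (k := k + l) (by
    have := c.symm.mul_pow (2 ^ (k + l))
    rw [mul_inv_cancel_left, pow_add, pow_mul a, hk, one_pow, mul_comm (2 ^ k), pow_mul b, hl, one_pow, one_mul] at this
    rw [pow_add, mul_comm, ← this]) (odd_O ho)
  exact (inv_mul_eq_one.1 this).symm

omit hO in
/-- An element over `Zt` is a 2-element times an element of the core. -/
theorem parts (h : Gen z s t π σ) (hc : Commute c z) (m : π c ∈ Zt σ (π s)) :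
    ∃ v, Commute v z ∧ Commute v c ∧ (∃ k : ℕ, v ^ 2 ^ k = 1) ∧ π v = π c ∧ v⁻¹ * c ∈ UU z := by
  have := h.quo.finite
  obtain ⟨v, hv, u, hu, hk, ho, e, -⟩ := h.quo.exists_parts hc
  have cz : ∀ w ∈ zpowers c, Commute w z := fun w hw => (mem_Cen.1 (zpowers_le.2 (mem_Cen.2 hc.symm) hw)).symm
  obtain ⟨n, rfl⟩ := mem_powers_iff_mem_zpowers.2 hu
  obtain ⟨k, hk'⟩ := h.z2 ⟨π c ^ n, pow_mem m n⟩
  have : π (c ^ n) = 1 := eq_one_of_two_odd (k := k) (by rw [h.quo.pow hc]; exact congrArg Subtype.val hk')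
    (h.quo.odd_of_odd (cz _ hu) ho)
  rw [this, mul_one] at e
  exact ⟨v, cz v hv, (mem_Cen.1 (zpowers_le.2 (mem_Cen.2 (Commute.refl c)) hv)).symm, hk, e.symm,
    (h.quo.eq_iff (cz v hv) hc).1 e.symm⟩

end Ex

theorem Gen.exact (h : Gen z s t π σ)
    (hO : ∀ f, f * f = 1 → Commute f z → f ∉ h.C0 → UU z ⊓ Cen f = ⊥)
    (term : ∀ P : Subgroup G, Cen z ≤ P → Cen t ≤ P → P = ⊤) :
    ∃ σ' : SL(2, F) →* G, σ' (-1) = z ∧ (∀ a, π (σ' a) = σ a) ∧ Rg σ' s t := by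
  change Ex.HO h at hO
  have := h.quo.finite
  obtain ⟨σ', hσ⟩ := hO.exists_lift
  have c1 := fun a => (hσ a).1
  have p1 := fun a => (hσ a).2
  have c2 : ∀ a, Commute (tw σ' s a) z := fun a => (h.sz.mul_left (c1 a)).mul_left h.sz.inv_left
  have p2 : ∀ a, π (tw σ' s a) = tw σ (π s) a := fun a => by rw [tw_apply, h.quo.conj h.sz (c1 a), p1, tw_apply]
  have ez : σ' (-1) = z := h.pi_inj (by rw [← map_mul]; simp) h.zz (c1 _) (c1 _) (Commute.refl z) (by rw [p1, h.hz])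
  have inj : Function.Injective σ' := fun a b e => h.cz.inj (by rw [← p1, ← p1, e])
  have up1 : ∀ {g M}, Commute g z → Ind σ (π g) M → Ind σ' g M := fun hg e =>
    hO.conj_lift c1 p1 hO.σ_mem hg (cjE _) e
  have up2 : ∀ {g M}, Commute g z → Ind (tw σ (π s)) (π g) M → Ind (tw σ' s) g M := fun hg e =>
    hO.conj_lift c2 p2 hO.tw_mem hg (cjE _) e
  have dz : ∀ {g M}, Ind σ' g M → Commute g z := fun {g M} e => by
    have := e (-1)
    rw [cjM_neg_one, ez] at this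
    exact mul_inv_eq_iff_eq_mul.1 this
  have dn : ∀ {g M}, Ind σ' g M → Ind σ (π g) M := fun e a => by rw [← p1, ← h.quo.conj (dz e) (c1 a), e a, p1]
  have nr : ∀ {g}, Commute g z → (g ∈ 𝐍[σ'.range] ↔ π g ∈ 𝐍[σ.range]) := fun {g} hg => by
    refine ⟨fun n => mem_normalizer_fintype ?_, fun n => mem_normalizer_fintype ?_⟩
    · rintro _ ⟨a, rfl⟩
      obtain ⟨b, hb⟩ := (mem_normalizer_iff.1 n _).1 (show σ' a ∈ σ'.range from ⟨a, rfl⟩)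
      exact ⟨b, by rw [← p1, hb, h.quo.conj hg (c1 a), p1]⟩
    · rintro _ ⟨a, rfl⟩
      obtain ⟨α, hα⟩ := h.cz.exists_aut n
      exact ⟨α a, (hO.conj_lift c1 p1 hO.σ_mem hg α hα a).symm⟩
  have nz : ∀ {g}, g ∈ 𝐍[σ'.range] → Commute g z := fun {g} n => by
    obtain ⟨b, hb⟩ := (mem_normalizer_iff.1 n _).1 (show σ' (-1) ∈ σ'.range from ⟨_, rfl⟩)
    rw [ez] at hb
    rcases Inv.SLF.eq_of_mul_self_eq_one h.cz.two_ne (g := b) (inj (by rw [map_mul, hb, conj_mul, h.zz]; simp)) with rfl | rfl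
    · exact absurd (by simpa using hb.symm) h.z1
    · rw [ez] at hb
      exact mul_inv_eq_iff_eq_mul.1 hb.symm
  have cm : ∀ {φ : SL(2, F) →* X} {φ' : SL(2, F) →* G}, (∀ a, Commute (φ' a) z) → (∀ a, π (φ' a) = φ a) →
      (∀ a, φ a ∈ h.quo.im 𝐂[UU z]) → ∀ {g}, Commute g z → (∀ a, Commute (π g) (φ a)) → ∀ a, Commute g (φ' a) :=
    fun c p m g hg e a => mul_inv_eq_iff_eq_mul.1 (hO.conj_lift c p m hg (MulEquiv.refl _)
      (fun a => mul_inv_eq_iff_eq_mul.2 (e a)) a)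
  have zt : ∀ {c}, c ∈ Zt σ' s ↔ Commute c z ∧ π c ∈ Zt σ (π s) := fun {c} => by
    refine ⟨fun m => ?_, fun ⟨hc, m⟩ => mem_Zt.2 ⟨cm c1 p1 hO.σ_mem hc (mem_Zt.1 m).1, cm c2 p2 hO.tw_mem hc (mem_Zt.1 m).2⟩⟩
    have hc : Commute c z := ez ▸ (mem_Zt.1 m).1 (-1)
    exact ⟨hc, mem_Zt.2 ⟨fun a => p1 a ▸ h.quo.comm hc (c1 a) ((mem_Zt.1 m).1 a),
      fun a => p2 a ▸ h.quo.comm hc (c2 a) ((mem_Zt.1 m).2 a)⟩⟩
  refine ⟨σ', ez, p1, ⟨h.cz.odd, h.cz.big, inj, h.ss, ez ▸ h.sz, fun a b => ?_, fun g hg => ?_, fun g n => ?_,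
    fun c hc cc => ?_, fun f ff hf n c hc => ?_, fun g n h2 c hc => ?_, ?_⟩, ez ▸ h.zs, ez ▸ h.zt, ez ▸ h.ne,
    (nr h.tz).2 h.tn, h.st, fun t' h1 h2 h3 e => ?_, fun t' h1 h2 M M' e e' => ?_, ?_, ez ▸ term⟩
  · exact cm c2 p2 hO.tw_mem (c1 a) (fun b => p1 a ▸ h.cz.comm a b) b
  · rw [ez] at hg
    rw [nr hg, nr (hg.mul_left h.sz), h.quo.mul _ _ hg h.sz]
    exact h.cz.nrm _ (h.ctr _)
  · obtain ⟨m, hm, M, N, e1, e2, hs⟩ := h.cz.gl _ ((nr (nz n)).1 n)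
    rw [← h.quo.pow (nz n)] at e1 e2
    exact ⟨m, hm, M, N, up1 ((nz n).pow_left m) e1, up2 ((nz n).pow_left m) e2, hs⟩
  · obtain ⟨hc, m⟩ := zt.1 hc
    rw [ez]
    exact (h.cz.uniq _ m (h.quo.sq hc cc)).imp
      (fun e => h.pi_inj cc (one_mul 1) (Commute.one_right c) hc (Commute.one_left z) (by rw [e, h.quo.one]))
      fun e => h.pi_inj cc h.zz hc hc (Commute.refl z) (by rw [e, h.hz])
  · obtain ⟨hc, m⟩ := zt.1 hc
    rw [ez] at hf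
    rw [nr hf] at n
    obtain ⟨v, cv, vc, ⟨k, hk⟩, e, ho⟩ := Ex.parts h hc m
    have : f * v * f⁻¹ = v⁻¹ := hO.eq_of_two ((hf.mul_left cv).mul_left hf.inv_left) cv.inv_left
      (inv_mem (hO.memC cv (hO.Zt_mem (e ▸ m)))) ⟨k, by rw [conj_pow, hk]; simp⟩ ⟨k, by rw [inv_pow, hk, inv_one]⟩
      (by rw [h.quo.conj hf cv, h.quo.inv cv, e]; exact h.cz.inv _ (h.quo.sq hf ff) (h.ctr _) n _ m)
    calc f * c * f⁻¹ = f * v * f⁻¹ * (f * (v⁻¹ * c) * f⁻¹) := by group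
      _ = v⁻¹ * (c⁻¹ * v) := by rw [this, hO.inv ff hf n ho]; group
      _ = c⁻¹ := by rw [← vc.inv_right.eq]; group
  · obtain ⟨hc, m⟩ := zt.1 hc
    have hg := nz n
    rw [nr hg] at n
    obtain ⟨v, cv, -, ⟨k, hk⟩, e, ho⟩ := Ex.parts h hc m
    have : g * v * g⁻¹ = v := hO.eq_of_two ((hg.mul_left cv).mul_left hg.inv_left) cv
      (hO.memC cv (hO.Zt_mem (e ▸ m))) ⟨k, by rw [conj_pow, hk]; simp⟩ ⟨k, hk⟩ (by
        obtain ⟨l, hl⟩ := h2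
        rw [h.quo.conj hg cv, e, (h.cz.two _ n ⟨l, by rw [← h.quo.pow hg, hl, h.quo.one]⟩ _ m).eq, mul_inv_cancel_right])
    have := (show Commute g v from mul_inv_eq_iff_eq_mul.1 this).mul_right (hO.two_mem hg n h2 _ ho).symm
    rwa [mul_inv_cancel_left] at this
  · obtain ⟨f, f', ff, -, n, ff', -, n', M, e, hM⟩ := h.cz.out
    obtain ⟨v, vv, cv, rfl⟩ := Ex.lift_two h ff
    obtain ⟨w, ww, cw, rfl⟩ := Ex.lift_two h ff'
    exact ⟨v, w, vv, ez ▸ cv, mt (nr cv).1 n, ww, ez ▸ cw, mt (nr cw).1 n', M,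
      up1 (cv.mul_left cw) (h.quo.mul _ _ cv cw ▸ e), hM⟩
  · rw [ez] at h1 h2 h3
    exact h.act h1 h2 h3 fun a => p1 a ▸ h.quo.comm h2 (c1 a) (e a)
  · rw [ez] at h1 h2
    exact h.cl h1 (dz e') h2 (dn e) (dn e')
  · rw [ez]
    rcases h.typ with hA | hB
    · refine Or.inl ⟨fun c hc e => ?_, fun M e => hA.out t h.zt h.tz h.ne M (dn e)⟩
      obtain ⟨hc, m⟩ := zt.1 hc
      refine h.cz.z_ne ?_
      rw [← h.hz, ← e, h.quo.mul _ _ hc hc]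
      rcases hA.cen _ m with e | e
      · rw [e, one_mul]
      · rw [e, h.cz.zz]
    · refine Or.inr ⟨fun v vv M e => hB.inn _ (h.quo.sq (dz e) vv) M (dn e),
        fun f ff hf n => hB.sw f ff hf (mt (nr hf).2 n), hB.tor.imp_left fun ⟨x, m, e⟩ => ?_⟩
      obtain ⟨c, hc, rfl⟩ := h.quo.surj x
      obtain ⟨v, cv, -, ⟨k, hk⟩, e', -⟩ := Ex.parts h hc m
      exact ⟨v, zt.2 ⟨cv, e' ▸ m⟩, hO.eq_of_two (cv.mul_left cv) (Commute.refl z)
        (fun o ho => (mem_Cen.1 (BalAux.UU_le z ho)).symm) ⟨k, by rw [(Commute.refl v).mul_pow, hk, one_mul]⟩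
        ⟨1, by rw [pow_one, pow_two, h.zz]⟩ (by rw [h.quo.mul _ _ cv cv, e', e, h.hz])⟩

end Cfsg.Agent.L4
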