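import Mathlib
import Cfsg.Agent.L4.Defs
import Cfsg.Agent.P4.Cx
import Cfsg.Agent.Phan.CTPair
import Cfsg.Agent.Ch.UniversalCover
import Cfsg.Agent.Ch.MultiplierCrit

/-! The common part of the linear and the unitary pair. -/

set_option autoImplicit false
set_option linter.unusedSectionVars false

namespace Cfsg.Agent.L4

open Cfsg.Agent.Loc.Mss Cfsg.Agent.GW Subgroup
open scoped MatrixGroups commutatorElement

section

variable {P Q R X : Type*} [Group P] [Group Q] [Group R] [Group X]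

theorem l3_comm_eq {φ : R →* X} (hk : φ.ker ≤ center R) {x x' y y' : R} (h1 : φ x = φ x')
    (h2 : φ y = φ y') : ⁅x, y⁆ = ⁅x', y'⁆ := by
  have hc : x⁻¹ * x' ∈ center R := hk (by simp [MonoidHom.mem_ker, h1])
  have hd : y⁻¹ * y' ∈ center R := hk (by simp [MonoidHom.mem_ker, h2])
  obtain ⟨c, rfl⟩ : ∃ c, x' = x * c := ⟨x⁻¹ * x', by group⟩
  obtain ⟨d, rfl⟩ : ∃ d, y' = y * d := ⟨y⁻¹ * y', by group⟩
  rw [inv_mul_cancel_left] at hc hd
  have a := mem_center_iff.1 hc
  have b := mem_center_iff.1 hd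
  rw [commutatorElement_def, commutatorElement_def]
  calc x * y * x⁻¹ * y⁻¹ = x * (y * d * c) * c⁻¹ * (d⁻¹ * x⁻¹) * y⁻¹ := by group
    _ = x * (c * (y * d)) * c⁻¹ * (x⁻¹ * d⁻¹) * y⁻¹ := by
      rw [a, mem_center_iff.1 (inv_mem hd) x⁻¹]
    _ = _ := by group

theorem l3_range_eq [Group.IsPerfect P] (a : P →* R) : a.range = ⁅a.range, a.range⁆ := by
  rw [MonoidHom.range_eq_map, ← Subgroup.map_commutator, ← commutator_def,
    Group.IsPerfect.commutator_eq_top]

theorem l3_range_le [Group.IsPerfect P] {φ : R →* X} (hk : φ.ker ≤ center R) (a : P →* R)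
    (b : Q →* R) (h : (φ.comp a).range ≤ (φ.comp b).range) : a.range ≤ b.range := by
  rw [l3_range_eq a, commutator_le]
  rintro _ ⟨p, rfl⟩ _ ⟨p', rfl⟩
  obtain ⟨q, hq⟩ := h ⟨p, rfl⟩
  obtain ⟨q', hq'⟩ := h ⟨p', rfl⟩
  exact ⟨⁅q, q'⁆, by rw [map_commutatorElement]; exact l3_comm_eq hk hq hq'⟩

/-- A surjection whose kernel lies in a centre of order dividing three. -/
theorem l3_iso {η : P →* R} (hs : Function.Surjective η) (hk : ∀ g, η g = 1 → g ∈ center P)
    (h3 : Nat.card (center P) ∣ 3) :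
    (∃ ψ : P ≃* R, ∀ g, ψ g = η g) ∨ ∃ ψ : P ⧸ center P ≃* R, ∀ g : P, ψ g = η g := by
  have hle : η.ker ≤ center P := hk
  have hd := (card_dvd_of_le hle).trans h3
  rcases (Nat.dvd_prime Nat.prime_three).1 hd with e | e
  · exact Or.inl ⟨MulEquiv.ofBijective η ⟨(MonoidHom.ker_eq_bot_iff η).1 (card_eq_one.1 e), hs⟩,
      fun _ => rfl⟩
  · have : Finite (center P) := Nat.finite_of_card_ne_zero fun h => by simp [h] at h3
    have e' : η.ker = center P :=
      eq_of_le_of_card_ge hle (by rw [e]; exact Nat.le_of_dvd (by norm_num) h3)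
    exact Or.inr ⟨(QuotientGroup.quotientMulEquivOfEq e'.symm).trans
      (QuotientGroup.quotientKerEquivOfSurjective η hs), fun _ => rfl⟩

end

theorem l3_card_le {a b : ℕ} (h : a * (a ^ 2 - 1) ≤ b * (b ^ 2 - 1)) (ha : 1 < a) : a ≤ b := by
  by_contra! hl
  have h1 : b ^ 2 - 1 ≤ a ^ 2 - 1 := Nat.sub_le_sub_right (Nat.pow_le_pow_left hl.le 2) 1
  have h2 : 0 < a ^ 2 - 1 := Nat.sub_pos_of_lt (Nat.one_lt_pow (by norm_num) ha)
  exact absurd h (not_le.2 ((Nat.mul_le_mul_left b h1).trans_lt (Nat.mul_lt_mul_of_pos_right hl h2)))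

/-- A block `u` of type `SL₂(E)` with central involution `m`. -/
structure Bl {H S : Type*} [Group H] [Group S] (u : S →* H) (m : S) : Prop where
  mm : m ^ 2 = 1
  mc : ∀ s, Commute m s
  cu : ∀ x y, Commute (u m) x → Commute (u m) y → ⁅x, y⁆ ∈ u.range
  iu : ∀ s, u s ∈ center H → s = 1

variable {F : Type} [Field F] [Fintype F] {E : Type} [Field E] [Fintype E]
  {H S R X : Type*} [Group H] [Group S] [Group R] [Group X]

theorem Bl.comp {u : S →* H} {m : S} (h : Bl u m) (θ : H ≃* H) : Bl (θ.toMonoidHom.comp u) m where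
  mm := h.mm
  mc := h.mc
  cu x y hx hy := by
    obtain ⟨x, rfl⟩ := θ.surjective x
    obtain ⟨y, rfl⟩ := θ.surjective y
    obtain ⟨s, hs⟩ := h.cu x y (θ.injective (by simpa using hx.eq)) (θ.injective (by simpa using hy.eq))
    exact ⟨s, by simp [hs, map_commutatorElement]⟩
  iu s hs := h.iu s (mem_center_iff.2 fun g => θ.injective (by
    simpa using mem_center_iff.1 hs (θ g)))

theorem Bl.range_eq {u : S →* H} {m : S} (h : Bl u m) (e : SL(2, E) ≃* S) {π : H →* X}
    (hπ : Function.Surjective π) (hk : ∀ g, π g = 1 → g ^ 3 = 1 ∧ g ∈ center H)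
    (h3 : 3 < Fintype.card F) {A : SL(2, F) →* X} (hA : Function.Injective A)
    (hz : π (u m) = A (-1)) (hn : Cen (A (-1)) ≤ 𝐍[A.range]) :
    Fintype.card E = Fintype.card F ∧ A.range = (π.comp u).range := by
  have := P4.sl_perfect h3
  have : Finite S := Finite.of_surjective _ e.surjective
  have hB : Function.Injective (π.comp u) :=
    (injective_iff_map_eq_one _).2 fun s hs => h.iu s (hk _ hs).2
  have um : u m ^ 2 = 1 := by rw [← map_pow, h.mm, map_one]
  have hc : ∀ a, ∃ x, π x = A a ∧ Commute (u m) x := fun a => by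
    obtain ⟨x, hx⟩ := hπ (A a)
    refine ⟨x, hx, Phan.commute_of_map hk um ?_⟩
    rw [hz, hx]
    exact (Commute.neg_one_left a).map A
  have hle : A.range ≤ (π.comp u).range := by
    rw [l3_range_eq A, commutator_le]
    rintro _ ⟨a, rfl⟩ _ ⟨b, rfl⟩
    obtain ⟨x, hx, cx⟩ := hc a
    obtain ⟨y, hy, cy⟩ := hc b
    obtain ⟨s, hs⟩ := h.cu x y cx cy
    exact ⟨s, by rw [MonoidHom.comp_apply, hs, map_commutatorElement, hx, hy]⟩
  have cA : Nat.card A.range = Fintype.card F * (Fintype.card F ^ 2 - 1) := by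
    rw [← Nat.card_congr (MonoidHom.ofInjective hA).toEquiv, Cl.card_sl_two, Nat.card_eq_fintype_card]
  have cB : Nat.card (π.comp u).range = Fintype.card E * (Fintype.card E ^ 2 - 1) := by
    rw [← Nat.card_congr (MonoidHom.ofInjective hB).toEquiv, ← Nat.card_congr e.toEquiv,
      Cl.card_sl_two, Nat.card_eq_fintype_card]
  have : Finite (π.comp u).range := Finite.of_surjective _ (π.comp u).rangeRestrict_surjective
  have l1 : Fintype.card F ≤ Fintype.card E :=
    l3_card_le (by rw [← cA, ← cB]; exact card_le_of_le hle) (by omega)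
  let B : SL(2, E) →* X := (π.comp u).comp e.toMonoidHom
  have hN : (A.range.comap B).Normal := ⟨fun n hn' g => by
    have hg : B g ∈ 𝐍[A.range] := hn (mem_Cen.2 (by
      rw [← hz]; exact ((h.mc (e g)).map u).map π))
    rw [mem_comap, map_mul, map_mul, map_inv]
    exact (hg _).1 hn'⟩
  have heq : A.range = (π.comp u).range := by
    rcases P4.sl_normal (F := E) (by omega) (A.range.comap B) with h1 | h1
    · exfalso
      have hcomm : ∀ a b : SL(2, F), a * b = b * a := fun a b => hA (by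
        obtain ⟨s, hs⟩ := hle ⟨a, rfl⟩
        obtain ⟨t, ht⟩ := hle ⟨b, rfl⟩
        obtain ⟨s, rfl⟩ := e.surjective s
        obtain ⟨t, rfl⟩ := e.surjective t
        have := congrArg B (mem_center_iff.1 (h1 (x := s) ⟨a, hs.symm⟩) t)
        rw [map_mul, map_mul, show B s = A a from hs, show B t = A b from ht] at this
        rw [map_mul, map_mul, this])
      have h4 : commutator SL(2, F) = ⊥ := by
        rw [commutator_def, commutator_eq_bot_iff_le_centralizer]
        exact fun a _ b _ => hcomm b a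
      rw [Group.IsPerfect.commutator_eq_top] at h4
      have h5 : Nat.card (⊤ : Subgroup SL(2, F)) = Nat.card (⊥ : Subgroup SL(2, F)) := by rw [h4]
      rw [card_top, card_bot, Cl.card_sl_two, Nat.card_eq_fintype_card] at h5
      have := Nat.eq_one_of_mul_eq_one_right h5
      omega
    · refine le_antisymm hle ?_
      rintro _ ⟨s, rfl⟩
      obtain ⟨s, rfl⟩ := e.surjective s
      exact h1.ge (mem_top s)
  exact ⟨le_antisymm (l3_card_le (by rw [← cA, ← cB, heq]) (by omega)) l1, heq⟩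

variable {σ ρ : SL(2, F) →* R} {φ : R →* X}

theorem Pr.neg_ne (h : Pr σ ρ φ) : (-1 : SL(2, F)) ≠ 1 := fun e => by
  have := congrFun (congrFun (congrArg Subtype.val e) 0) 0
  have h2 : (2 : F) = 0 := by
    simp at this
    linear_combination -this
  have h3 : ringChar F = 2 := by
    have := (ringChar.spec F 2).1 (by exact_mod_cast h2)
    exact ((Nat.dvd_prime Nat.prime_two).1 this).resolve_left CharP.ringChar_ne_one
  have := FiniteField.even_card_iff_char_two.1 h3
  have := Nat.odd_iff.1 h.odd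
  omega

/-- The two involutions lift to commuting involutions. -/
theorem Pr.lifts (h : Pr σ ρ φ) {π : H →* X} (hπ : Function.Surjective π)
    (hk : ∀ g, π g = 1 → g ^ 3 = 1 ∧ g ∈ center H) :
    ∃ s t, π s = φ (σ (-1)) ∧ π t = φ (ρ (-1)) ∧ s ^ 2 = 1 ∧ t ^ 2 = 1 ∧ s ≠ 1 ∧ t ≠ 1 ∧ s ≠ t ∧
      Commute s t := by
  have sq : ∀ τ : SL(2, F) →* R, φ (τ (-1)) ^ 2 = 1 := fun τ => by
    rw [← map_pow, ← map_pow, neg_one_sq, map_one, map_one]
  obtain ⟨s, hs, ss⟩ := Phan.exists_lift_pow (ρ := π) (fun g hg => (hk g hg).1) (m := 2)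
    (by norm_num) (by norm_num) (hπ _) (sq σ)
  obtain ⟨t, ht, tt⟩ := Phan.exists_lift_pow (ρ := π) (fun g hg => (hk g hg).1) (m := 2)
    (by norm_num) (by norm_num) (hπ _) (sq ρ)
  refine ⟨s, t, hs, ht, ss, tt, ?_, ?_, ?_, Phan.commute_of_map hk ss ?_⟩
  · rintro rfl
    exact h.neg_ne (h.inj1 (by simpa using hs.symm))
  · rintro rfl
    exact h.neg_ne (h.inj2 (by simpa using ht.symm))
  · rintro rfl
    exact h.ne (hs.symm.trans ht)
  · rw [hs, ht]; exact h.comm.map φ

theorem Pr.core (h : Pr σ ρ φ) [Finite H] [Group.IsPerfect H] (hm : Nat.card (Ch.Mult H) = 1)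
    {π : H →* X} (hπ : Function.Surjective π) (hk : ∀ g, π g = 1 → g ^ 3 = 1 ∧ g ∈ center H)
    {u l : S →* H} {m : S} (bu : Bl u m) (bl : Bl l m) (e : SL(2, E) ≃* S)
    (zu : π (u m) = φ (σ (-1))) (zl : π (l m) = φ (ρ (-1)))
    (gen : 3 < Fintype.card E → u.range ⊔ l.range = ⊤) :
    Fintype.card E = Fintype.card F ∧ ∃ η : H →* R, Function.Surjective η ∧
      (∀ g, η g = 1 → g ∈ center H) ∧ (η.comp u).range = σ.range ∧ (η.comp l).range = ρ.range ∧
      ∀ d, d * d = m → Commute (u d) (l m) → ∃ a, a * a = -1 ∧ Commute (σ a) (ρ (-1)) := by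
  obtain ⟨hc, r1⟩ := bu.range_eq e hπ hk h.big h.inj1 zu h.n1
  obtain ⟨-, r2⟩ := bl.range_eq e hπ hk h.big h.inj2 zl h.n2
  have big := h.big
  have g := gen (by omega)
  have hφ : Function.Surjective φ := by
    rw [← MonoidHom.range_eq_top, eq_top_iff, ← MonoidHom.range_eq_top.2 hπ, MonoidHom.range_eq_map π,
      ← g, Subgroup.map_sup, ← MonoidHom.range_comp, ← MonoidHom.range_comp, ← r1, ← r2]
    exact sup_le (by rintro _ ⟨a, rfl⟩; exact ⟨_, rfl⟩) (by rintro _ ⟨a, rfl⟩; exact ⟨_, rfl⟩)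
  obtain ⟨η, hη⟩ := Ch.exists_lift_of_trivial_multiplier
    (Ch.hasCyclicSchurMultiplier_one_iff_card.2 hm) π hφ h.ker
  have := P4.sl_perfect h.big
  have := P4.sl_perfect (F := E) (by omega)
  have : Group.IsPerfect S := Group.IsPerfect.ofSurjective (f := e.toMonoidHom) e.surjective
  have k : ∀ {τ : SL(2, F) →* R} {v : S →* H}, (φ.comp τ).range = (π.comp v).range →
      (η.comp v).range = τ.range := fun {τ v} r =>
    le_antisymm (l3_range_le h.ker _ _ (by rw [← MonoidHom.comp_assoc, hη, r]))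
      (l3_range_le h.ker _ _ (by rw [← MonoidHom.comp_assoc, hη, r]))
  have hη' : ∀ x, φ (η x) = π x := fun x => by rw [← hη]; rfl
  refine ⟨hc, η, ?_, fun x hx => (hk x (by rw [← hη', hx, map_one])).2, k r1, k r2,
    fun d hd hc => ?_⟩
  · rw [← MonoidHom.range_eq_top, eq_top_iff, ← h.gen, ← k r1, ← k r2]
    exact sup_le (by rintro _ ⟨a, rfl⟩; exact ⟨_, rfl⟩) (by rintro _ ⟨a, rfl⟩; exact ⟨_, rfl⟩)
  · obtain ⟨a, ha⟩ := (k r1).le ⟨d, rfl⟩
    obtain ⟨b, hb⟩ := (k r2).le ⟨m, rfl⟩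
    have ha' : σ a = η (u d) := ha
    have hb' : ρ b = η (l m) := hb
    have e1 : b = -1 := h.inj2 (by rw [MonoidHom.comp_apply, hb', hη', zl]; rfl)
    refine ⟨a, h.inj1 ?_, by rw [← e1, ha', hb']; exact hc.map η⟩
    rw [MonoidHom.comp_apply, map_mul, ha', ← map_mul, ← map_mul, hd, hη', zu]; rfl

end Cfsg.Agent.L4
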