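import Mathlib
import Cfsg.Agent.L4.Defs
import Cfsg.Agent.L4.L3Core
import Cfsg.Agent.Ch.MultSL
import Cfsg.Agent.Cl.Transport

/-! The linear pair -/

set_option autoImplicit false
set_option linter.unusedSectionVars false

namespace Cfsg.Agent.L4

open Cfsg.Agent.Loc.Mss Cfsg.Agent.GW Subgroup Cfsg.Agent.P4 Cfsg.Agent.G2T Cfsg.Agent.Cl.GL2
open scoped MatrixGroups commutatorElement

section

variable {K : Type*} [Field K]

theorem l3_two_ne [Fintype K] (hK : Odd (Fintype.card K)) : (2 : K) ≠ 0 := fun h2 => by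
  have h3 : ringChar K = 2 := by
    have := (ringChar.spec K 2).1 (by exact_mod_cast h2)
    exact ((Nat.dvd_prime Nat.prime_two).1 this).resolve_left CharP.ringChar_ne_one
  have := FiniteField.even_card_iff_char_two.1 h3
  have := Nat.odd_iff.1 hK
  omega

/-- A matrix commuting with a reflection-like diagonal matrix has block form. -/
theorem l3_off (h2 : (2 : K) ≠ 0) {k : Fin 3} {x : Matrix (Fin 3) (Fin 3) K}
    (h : Commute (Matrix.diagonal fun i => if i = k then 1 else -1) x) (j : Fin 3) (hj : j ≠ k) :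
    x k j = 0 ∧ x j k = 0 := by
  have a := congrFun (congrFun h.eq k) j
  have b := congrFun (congrFun h.eq j) k
  simp [hj] at a b
  exact ⟨(mul_eq_zero.1 (show 2 * x k j = 0 by linear_combination a)).resolve_left h2,
    (mul_eq_zero.1 (show 2 * x j k = 0 by linear_combination -b)).resolve_left h2⟩

theorem l3_ent {k : Fin 3} {x : Matrix (Fin 3) (Fin 3) K} (h : ∀ j, j ≠ k → x k j = 0)
    (y : Matrix (Fin 3) (Fin 3) K) : (x * y) k k = x k k * y k k := by
  rw [Matrix.mul_apply, Finset.sum_eq_single k (fun j _ hj => by rw [h j hj, zero_mul]) (by simp)]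

/-- Commutators in the centraliser of a reflection-like involution. -/
theorem l3_comm (h2 : (2 : K) ≠ 0) {H : Type*} [Group H] (f : H →* Matrix (Fin 3) (Fin 3) K)
    {k : Fin 3} {s x y : H} (hs : f s = Matrix.diagonal fun i => if i = k then 1 else -1)
    (hx : Commute s x) (hy : Commute s y) :
    (∀ j, j ≠ k → f ⁅x, y⁆ k j = 0 ∧ f ⁅x, y⁆ j k = 0) ∧ f ⁅x, y⁆ k k = 1 := by
  have o : ∀ {g}, Commute s g → ∀ j, j ≠ k → f g k j = 0 ∧ f g j k = 0 := fun hg =>
    l3_off h2 (hs ▸ hg.map f)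
  have m : ∀ {g}, Commute s g → ∀ g', f (g * g') k k = f g k k * f g' k k := fun hg g' => by
    rw [map_mul, l3_ent fun j hj => (o hg j hj).1]
  have i : ∀ {g}, Commute s g → f g k k * f g⁻¹ k k = 1 := fun hg => by
    rw [← m hg, mul_inv_cancel, map_one, Matrix.one_apply_eq]
  refine ⟨o (((hx.mul_right hy).mul_right hx.inv_right).mul_right hy.inv_right), ?_⟩
  rw [commutatorElement_def, m ((hx.mul_right hy).mul_right hx.inv_right), m (hx.mul_right hy), m hx]
  linear_combination (f y k k * f y⁻¹ k k) * i hx + i hy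

theorem l3_bl_up (h2 : (2 : K) ≠ 0) : Bl (Phan.up (F := K)) Phan.m1 where
  mm := Cl.sl_ext (by ext i j; fin_cases i <;> fin_cases j <;> simp [pow_two, Phan.coe_m1])
  mc s := Cl.sl_ext (by
    ext i j; fin_cases i <;> fin_cases j <;> simp [Phan.coe_m1, Matrix.mul_apply, Fin.sum_univ_two])
  cu x y hx hy := by
    obtain ⟨a, b⟩ := l3_comm h2 Matrix.SpecialLinearGroup.coeMonoidHom (k := 2)
      (by ext i j; fin_cases i <;> fin_cases j <;> simp [Phan.coe_up, Phan.coe_m1]) hx hy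
    exact Phan.mem_range_up (a 0 (by decide)).2 (a 1 (by decide)).2 (a 0 (by decide)).1
      (a 1 (by decide)).1 b
  iu _ := Phan.eq_one_of_up_mem_center

theorem l3_bl_lo (h2 : (2 : K) ≠ 0) : Bl (Phan.lo (F := K)) Phan.m1 where
  mm := (l3_bl_up h2).mm
  mc := (l3_bl_up h2).mc
  cu x y hx hy := by
    obtain ⟨a, b⟩ := l3_comm h2 Matrix.SpecialLinearGroup.coeMonoidHom (k := 0)
      (by ext i j; fin_cases i <;> fin_cases j <;> simp [Phan.coe_lo, Phan.coe_m1]) hx hy
    exact Phan.mem_range_lo (a 1 (by decide)).1 (a 2 (by decide)).1 (a 1 (by decide)).2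
      (a 2 (by decide)).2 b
  iu _ := Phan.eq_one_of_lo_mem_center

open Matrix.SpecialLinearGroup in
theorem l3_gen : (Phan.up (F := K)).range ⊔ (Phan.lo (F := K)).range = ⊤ := by
  have u : ∀ (i j : Fin 3) (hij : i ≠ j) (c : K), i ≠ 2 → j ≠ 2 →
      transvection hij c ∈ (Phan.up (F := K)).range ⊔ (Phan.lo (F := K)).range :=
    fun i j hij c hi hj => mem_sup_left (by
      refine Phan.mem_range_up ?_ ?_ ?_ ?_ ?_ <;> simp [transvection_coe, hi, hj])
  have l : ∀ (i j : Fin 3) (hij : i ≠ j) (c : K), i ≠ 0 → j ≠ 0 →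
      transvection hij c ∈ (Phan.up (F := K)).range ⊔ (Phan.lo (F := K)).range :=
    fun i j hij c hi hj => mem_sup_right (by
      refine Phan.mem_range_lo ?_ ?_ ?_ ?_ ?_ <;> simp [transvection_coe, hi, hj])
  have cm : ∀ {x y : Phan.S3 K} {A : Subgroup (Phan.S3 K)}, x ∈ A → y ∈ A → ⁅x, y⁆ ∈ A :=
    fun hx hy => mul_mem (mul_mem (mul_mem hx hy) (inv_mem hx)) (inv_mem hy)
  refine Cl.sl_eq_top_of_transvection_mem _ fun i j hij c => ?_
  by_cases h1 : i ≠ 2 ∧ j ≠ 2
  · exact u i j hij c h1.1 h1.2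
  by_cases h2 : i ≠ 0 ∧ j ≠ 0
  · exact l i j hij c h2.1 h2.2
  have h3 : (i = 0 ∧ j = 2) ∨ (i = 2 ∧ j = 0) := by revert i j; decide
  have e := Cl.sl_commutator_transvection (i := i) (j := 1) (k := j) (by omega) (by omega) hij c 1
  rw [mul_one] at e
  rw [← e]
  rcases h3 with ⟨rfl, rfl⟩ | ⟨rfl, rfl⟩
  · exact cm (u _ _ _ _ (by decide) (by decide)) (l _ _ _ _ (by decide) (by decide))
  · exact cm (l _ _ _ _ (by decide) (by decide)) (u _ _ _ _ (by decide) (by decide))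

end

variable {R : Type*} [Group R] [Finite R] {F : Type} [Field F] [Fintype F] {K : Type} [Field K] [Fintype K]
  {σ ρ : SL(2, F) →* R} {φ : R →* Matrix.ProjectiveSpecialLinearGroup (Fin 3) K}

theorem Pr.lin (h : Pr σ ρ φ) (hK : Odd (Fintype.card K)) :
    (Nonempty (R ≃* Matrix.SpecialLinearGroup (Fin 3) F) ∨
      Nonempty (R ≃* Matrix.ProjectiveSpecialLinearGroup (Fin 3) F)) ∧
    (Fintype.card F % 4 = 1 → ∃ a, a * a = -1 ∧ Commute (σ a) (ρ (-1))) := by
  have h2 := l3_two_ne hK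
  let π : Phan.S3 K →* Matrix.ProjectiveSpecialLinearGroup (Fin 3) K := QuotientGroup.mk' _
  have hπ : Function.Surjective π := QuotientGroup.mk'_surjective _
  have hk : ∀ g, π g = 1 → g ^ 3 = 1 ∧ g ∈ center _ := fun g hg =>
    have := (QuotientGroup.eq_one_iff g).1 hg
    ⟨Phan.pow_three_of_center this, this⟩
  obtain ⟨s, t, hs, ht, ss, tt, s1, t1, st, c⟩ := h.lifts hπ hk
  obtain ⟨θ, e1, e2⟩ := Phan.exists_aut_pair ss tt s1 t1 st c h2
  have : Group.IsPerfect (Phan.S3 K) := ⟨Cl.sl_commutator_eq_top (Or.inl (by simp))⟩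
  have ho := Nat.odd_iff.1 hK
  obtain ⟨hc, η, hη, kη, -, -, hd⟩ := h.core (E := K) (Ch.card_mult_sl (n := 3) (by norm_num) (by
      simp only [Nat.card_eq_fintype_card, Set.mem_insert_iff, Set.mem_singleton_iff, Prod.mk.injEq]
      omega)) hπ hk ((l3_bl_up h2).comp θ) ((l3_bl_lo h2).comp θ) (MulEquiv.refl _)
    (by rw [← hs, ← e1]; rfl) (by rw [← ht, ← e2]; rfl) (fun _ => by
      rw [MonoidHom.range_comp, MonoidHom.range_comp, ← Subgroup.map_sup, l3_gen]
      exact map_top_of_surjective _ θ.surjective)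
  have τ : K ≃+* F := FiniteField.ringEquivOfCardEq hc
  refine ⟨?_, fun h4 => ?_⟩
  · rcases l3_iso hη kη (by rw [Cl.card_center_sl]; exact Nat.gcd_dvd_left _ _) with ⟨ψ, -⟩ | ⟨ψ, -⟩
    · exact Or.inl ⟨ψ.symm.trans (Cl.slMapEquiv _ τ)⟩
    · exact Or.inr ⟨ψ.symm.trans (Cl.pslMapEquiv _ τ)⟩
  · obtain ⟨i, hi⟩ : IsSquare (-1 : K) := FiniteField.isSquare_neg_one_iff.2 (by omega)
    obtain ⟨d, hd'⟩ : ∃ d : Phan.S2 K, d.1 = !![i, 0; 0, -i] :=
      ⟨⟨_, by rw [Matrix.det_fin_two_of]; linear_combination hi⟩, rfl⟩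
    refine hd d (Cl.sl_ext ?_) (Commute.map (Cl.sl_ext ?_) θ)
    · ext a b; fin_cases a <;> fin_cases b <;> simp [Phan.coe_m1, hd', ← hi]
    · ext a b; fin_cases a <;> fin_cases b <;>
        simp [Phan.coe_m1, Phan.coe_up, Phan.coe_lo, hd', Matrix.mul_apply, Fin.sum_univ_three]

end Cfsg.Agent.L4
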