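import Mathlib
import Cfsg.Agent.L4.Defs
import Cfsg.Agent.L4.L3L
import Cfsg.Agent.Phan.UDiag
import Cfsg.Agent.Ch.MultSU

/-! The unitary pair -/

set_option autoImplicit false
set_option linter.unusedSectionVars false

namespace Cfsg.Agent.L4

open Cfsg.Agent.Loc.Mss Cfsg.Agent.GW Subgroup Cfsg.Agent.P4 Cfsg.Agent.G2T Cfsg.Agent.Cl.GL2
open scoped MatrixGroups commutatorElement

section

open Cfsg.Agent.Phan Cfsg.Agent.Cl Matrix

variable {K : Type*} [Field K] {τ : K →+* K} {q : ℕ} (hq : UField τ q)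

/-- The central involution of `SU₂`. -/
def l3m : SU 2 K q := dg2 hq (-1) (by simp)

theorem l3m_mat : mat (l3m hq) = -1 := by
  rw [l3m, mat_dg2]; ext i j; fin_cases i <;> fin_cases j <;> simp

theorem l3_mem_emb (j : Fin 2 ↪ Fin 3) (k : Fin 3) (hk : ∀ x, (∀ a, x ≠ j a) → x = k)
    {g : SU 3 K q} (h1 : ∀ i, i ≠ k → mat g i k = 0) (h2 : mat g k k = 1) : g ∈ (embU hq j).range :=
  mem_range_of_fix hq j fun x hx => by
    rw [hk x hx]
    ext i
    by_cases e : i = k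
    · simp [ev, e, h2]
    · simp [ev, e, h1 i e]

theorem l3_bl_emb (h2 : (2 : K) ≠ 0) (j : Fin 2 ↪ Fin 3) (k : Fin 3)
    (hk : ∀ x, (∀ a, x ≠ j a) ↔ x = k)
    (hm : mat (embU hq j (l3m hq)) = diagonal fun i => if i = k then 1 else -1) :
    Bl (embU hq j) (l3m hq) where
  mm := su_ext (by rw [mat_pow, l3m_mat, mat_one]; simp)
  mc s := su_ext (by rw [mat_mul, mat_mul, l3m_mat]; simp)
  cu x y hx hy := by
    obtain ⟨a, b⟩ := l3_comm h2 (SpecialLinearGroup.coeMonoidHom.comp (SU 3 K q).subtype)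
      (k := k) (s := embU hq j (l3m hq)) hm hx hy
    exact l3_mem_emb hq j k (fun x => (hk x).1) (fun i hi => (a i hi).2) b
  iu _ := eq_one_of_embU_mem_center hq (by omega) j ((hk k).2 rfl)

theorem l3_upm : mat (upU hq (l3m hq)) = diagonal fun i => if i = 2 then 1 else -1 := by
  rw [mat_upU, l3m_mat]; ext i j; fin_cases i <;> fin_cases j <;> simp

theorem l3_lom : mat (loU hq (l3m hq)) = diagonal fun i => if i = 0 then 1 else -1 := by
  rw [mat_loU, l3m_mat]; ext i j; fin_cases i <;> fin_cases j <;> simp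

theorem l3_genU (h3 : 3 ≤ q) : (upU hq).range ⊔ (loU hq).range = ⊤ := by
  rw [eq_top_iff]
  intro g _
  rw [← mem_map_iff_mem (f := piU K q 3) piU_injective]
  have hg : piU K q 3 g ∈ Blk τ Finset.univ := ⟨piU_mem hq g, by simp⟩
  rw [blk_eq_sup hq h3 (by simp) (a := 2) (b := 1) (by simp) (by simp) (by decide)] at hg
  refine (sup_le (b := Blk τ {2, 1}) (fun k hk => ?_) fun k hk => ?_ :
    _ ≤ Subgroup.map (piU K q 3) _) hg
  · obtain ⟨x, rfl⟩ := exists_piU hq hk.1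
    refine mem_map_of_mem _ (mem_sup_left ((mem_range_embU hq _).2 ?_))
    convert hk using 2
    decide
  · obtain ⟨x, rfl⟩ := exists_piU hq hk.1
    refine mem_map_of_mem _ (mem_sup_right ((mem_range_embU hq _).2 ?_))
    convert hk using 2
    decide

/-- Two distinct commuting involutions of `SU₃` are in standard position. -/
theorem l3_pairU (ho : Odd q) {s t : SU 3 K q} (hs : s ^ 2 = 1) (ht : t ^ 2 = 1) (hs1 : s ≠ 1)
    (ht1 : t ≠ 1) (hst : s ≠ t) (hc : Commute s t) :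
    ∃ θ : SU 3 K q ≃* SU 3 K q, θ (upU hq (l3m hq)) = s ∧ θ (loU hq (l3m hq)) = t := by
  obtain ⟨c, hc'⟩ := ho.add_one.two_dvd
  obtain ⟨U, hU, hd⟩ := exists_unitary_diag hq ![s, t]
    (by
      simp only [Fin.forall_fin_two]
      exact ⟨⟨Commute.refl _, hc⟩, hc.symm, Commute.refl _⟩)
    (by
      simp only [Fin.forall_fin_two]
      exact ⟨by rw [hc', pow_mul]; exact (congrArg (· ^ c) hs).trans (one_pow c),
        by rw [hc', pow_mul]; exact (congrArg (· ^ c) ht).trans (one_pow c)⟩)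
  have key : ∀ u : SU 3 K q, u ^ 2 = 1 → u ≠ 1 → (∃ d, mat (cjU hq U hU u) = diagonal d) →
      ∃ k : Fin 3, mat (cjU hq U hU u) = diagonal fun i => if i = k then 1 else -1 := by
    rintro u hu hu1 ⟨d, e⟩
    obtain ⟨k, hk⟩ := exists_sign_index (d := d)
      (by rw [← e, ← mat_pow, ← map_pow, hu, map_one, mat_one]) (by rw [← e, su_det])
      (fun h => hu1 ((cjU hq U hU).map_eq_one_iff.1 (su_ext (e.trans h))))
    exact ⟨k, by rw [e, funext hk]⟩
  obtain ⟨k, hk⟩ := key s hs hs1 (hd 0)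
  obtain ⟨l, hl⟩ := key t ht ht1 (hd 1)
  have hkl : k ≠ l := by
    rintro rfl
    exact hst ((cjU hq U hU).injective (su_ext (hk.trans hl.symm)))
  obtain ⟨π, h1, h3⟩ : ∃ π : Equiv.Perm (Fin 3), π k = 2 ∧ π l = 0 := by
    clear hk hl; revert k l; decide
  refine ⟨(rxU hq π).trans (cjU hq U hU).symm, ?_, ?_⟩ <;>
    rw [MulEquiv.trans_apply, MulEquiv.symm_apply_eq] <;> apply su_ext <;> ext i j
  · rw [hk, mat_rxU, l3_upm, ← h1]; simp [diagonal_apply]
  · rw [hl, mat_rxU, l3_lom, ← h3]; simp [diagonal_apply]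

theorem l3_std {R : Type*} [Group R] {η : SU 3 K q →* R} (hs : Function.Surjective η)
    (hk : ∀ g, η g = 1 → g ∈ center _) :
    IsStandardUnitaryPair ⊤ (η.comp (upU hq)).range (η.comp (loU hq)).range K q := by
  have e1 : suBlock 3 K q {0, 1} = (upU hq).range := suBlock_eq_range hq _ (by
    ext x; simp only [Set.mem_insert_iff, Set.mem_singleton_iff, Set.mem_range]; revert x; decide)
  have e2 : suBlock 3 K q {1, 2} = (loU hq).range := suBlock_eq_range hq _ (by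
    ext x; simp only [Set.mem_insert_iff, Set.mem_singleton_iff, Set.mem_range]; revert x; decide)
  rw [MonoidHom.range_comp, MonoidHom.range_comp, ← e1, ← e2]
  rcases l3_iso hs hk (by rw [hq.card_center_SU (by omega)]; exact Nat.gcd_dvd_left _ _) with
    ⟨ψ, e⟩ | ⟨ψ, e⟩
  · refine Or.inl ⟨ψ.trans topEquiv.symm, ?_, ?_⟩ <;>
      exact congrArg (Subgroup.map · _) (MonoidHom.ext e)
  · refine Or.inr ⟨ψ.trans topEquiv.symm, ?_, ?_⟩ <;>
      exact congrArg (Subgroup.map · _) (MonoidHom.ext e)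

theorem l3_rev :
    ((rxU hq (Equiv.swap 0 2)).toMonoidHom.comp (upU hq)).range = (loU hq).range ∧
      ((rxU hq (Equiv.swap 0 2)).toMonoidHom.comp (loU hq)).range = (upU hq).range := by
  have a : ∀ s, rxU hq (Equiv.swap 0 2) (upU hq s) ∈ (loU hq).range := fun s =>
    l3_mem_emb hq _ 0 (by decide) (fun i hi => by
      rw [mat_rxU, mat_upU]; fin_cases i <;> simp_all [Equiv.swap_apply_def])
      (by rw [mat_rxU, mat_upU]; simp)
  have b : ∀ s, rxU hq (Equiv.swap 0 2) (loU hq s) ∈ (upU hq).range := fun s =>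
    l3_mem_emb hq _ 2 (by decide) (fun i hi => by
      rw [mat_rxU, mat_loU]; fin_cases i <;> simp_all [Equiv.swap_apply_def])
      (by rw [mat_rxU, mat_loU]; simp)
  have c : ∀ g : SU 3 K q, rxU hq (Equiv.swap 0 2) (rxU hq (Equiv.swap 0 2) g) = g := fun g =>
    su_ext (by ext i j; simp [mat_rxU])
  refine ⟨le_antisymm ?_ ?_, le_antisymm ?_ ?_⟩ <;> rintro _ ⟨s, rfl⟩
  · exact a s
  · obtain ⟨t, ht⟩ := b s
    exact ⟨t, (congrArg _ ht).trans (c _)⟩
  · exact b s
  · obtain ⟨t, ht⟩ := a s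
    exact ⟨t, (congrArg _ ht).trans (c _)⟩

end

variable {R : Type*} [Group R] [Finite R] {F : Type} [Field F] [Fintype F] {K : Type} [Field K] [Fintype K]
  {q : ℕ} {σ ρ : SL(2, F) →* R} {φ : R →* Cfsg.PSU 3 K q}

theorem Pr.uni (h : Pr σ ρ φ) (hK : Fintype.card K = q ^ 2) (hq : Odd q) :
    q = Fintype.card F ∧ Cfsg.IsStandardUnitaryPair ⊤ σ.range ρ.range K q ∧
      Cfsg.IsStandardUnitaryPair ⊤ ρ.range σ.range K q ∧
      (q % 4 = 3 → ∃ a, a * a = -1 ∧ Commute (σ a) (ρ (-1))) := by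
  obtain ⟨τ, hu⟩ := Cl.exists_uField hK
  have h2 : (2 : K) ≠ 0 := l3_two_ne (hK ▸ hq.pow)
  have ho := Nat.odd_iff.1 hq
  let π : SU 3 K q →* Cfsg.PSU 3 K q := QuotientGroup.mk' _
  have hπ : Function.Surjective π := QuotientGroup.mk'_surjective _
  have c3 : Nat.card (center (SU 3 K q)) ∣ 3 := by
    rw [hu.card_center_SU (by omega)]; exact Nat.gcd_dvd_left _ _
  have hk : ∀ g, π g = 1 → g ^ 3 = 1 ∧ g ∈ center _ := fun g hg =>
    have := (QuotientGroup.eq_one_iff g).1 hg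
    ⟨orderOf_dvd_iff_pow_eq_one.1 ((orderOf_dvd_natCard _ this).trans c3), this⟩
  obtain ⟨s, t, hs, ht, ss, tt, s1, t1, st, c⟩ := h.lifts hπ hk
  obtain ⟨θ, e1, e2⟩ := l3_pairU hu hq ss tt s1 t1 st c
  have : Group.IsPerfect (SU 3 K q) := ⟨hu.commutator_SU le_rfl (by omega)⟩
  obtain ⟨-, e, -⟩ := Phan.exists_sl2_model hu
  have := Fintype.ofFinite (Cl.uFix τ)
  have cq : Fintype.card (Cl.uFix τ) = q := by rw [← Nat.card_eq_fintype_card, hu.card_uFix]
  obtain ⟨hc, η, hη, kη, r1, r2, hd⟩ := h.core (E := Cl.uFix τ) (by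
      rw [Ch.card_mult_congr (hu.suEquiv 3)]
      exact Ch.card_mult_USG (hu.isHerm_uStd _) hu (Module.finrank_fin_fun K) le_rfl (by omega)
        (by omega) (by omega)) hπ hk
    ((l3_bl_emb hu h2 _ 2 (by decide) (l3_upm hu)).comp θ)
    ((l3_bl_emb hu h2 _ 0 (by decide) (l3_lom hu)).comp θ) e
    (by rw [← hs, ← e1]; rfl) (by rw [← ht, ← e2]; rfl) (fun h3 => by
      rw [MonoidHom.range_comp, MonoidHom.range_comp, ← Subgroup.map_sup, l3_genU hu (by omega)]
      exact map_top_of_surjective _ θ.surjective)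
  have st : ∀ ω : SU 3 K q ≃* SU 3 K q, IsStandardUnitaryPair ⊤
      ((η.comp ω.toMonoidHom).comp (Phan.upU hu)).range
      ((η.comp ω.toMonoidHom).comp (Phan.loU hu)).range K q := fun ω =>
    l3_std hu (hη.comp ω.surjective) fun g hg => (Cl.mulEquiv_mem_center_iff ω g).1 (kη _ hg)
  refine ⟨cq ▸ hc, r1 ▸ r2 ▸ st θ, ?_, fun h4 => ?_⟩
  · obtain ⟨a, b⟩ := l3_rev hu
    have := st ((Phan.rxU hu (Equiv.swap 0 2)).trans θ)
    rw [← r1, ← r2, ← MonoidHom.comp_assoc, ← MonoidHom.comp_assoc, MonoidHom.range_comp,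
      MonoidHom.range_comp (η.comp θ.toMonoidHom), ← a, ← b, ← MonoidHom.range_comp,
      ← MonoidHom.range_comp]
    exact this
  · obtain ⟨i, hi⟩ : IsSquare (-1 : K) := FiniteField.isSquare_neg_one_iff.2 (by
      rw [hK, Nat.pow_mod, h4]; norm_num)
    have hn : i * τ i = 1 := by
      obtain ⟨k, hk⟩ : ∃ k, q + 1 = 2 * (2 * k) := ⟨(q + 1) / 4, by omega⟩
      rw [hu.pow, ← pow_succ', hk, pow_mul, pow_two, ← hi, pow_mul, neg_one_sq, one_pow]
    have hi' : τ i * τ i = -1 := by rw [← map_mul, ← hi, map_neg, map_one]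
    refine hd (Phan.dg2 hu i hn) (Phan.su_ext ?_) (Commute.map (Phan.su_ext ?_) θ)
    · rw [Phan.mat_mul, Phan.mat_dg2, l3m_mat]
      ext a b; fin_cases a <;> fin_cases b <;> simp [← hi, hi']
    · rw [Phan.mat_mul, Phan.mat_mul, l3_lom, Phan.mat_upU, Phan.mat_dg2]
      ext a b; fin_cases a <;> fin_cases b <;> simp

end Cfsg.Agent.L4
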