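import Mathlib
import Cfsg.Agent.L4.Basic
import Cfsg.Agent.GW.Cop
import Cfsg.Agent.GW.QuatA
import Cfsg.Agent.GW.Struct
import Cfsg.Agent.GT.FourGroup
import Cfsg.Agent.Blk.ZStar

/-! The group `C(x)`. -/

set_option autoImplicit false
set_option linter.unusedSectionVars false

namespace Cfsg.Agent.L4

open Cfsg.Agent.Loc.Mss Cfsg.Agent.GW Subgroup Cfsg.Agent.P4 Cfsg.Agent.G2T Cfsg.Agent.Cl.GL2
open scoped MatrixGroups

variable {G : Type*} [Group G] [Finite G] {F : Type} [Field F] [Fintype F]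
  {σ ρ : SL(2, F) →* G} {s r x : G}

theorem rka_not_scal (h2 : (2 : F) ≠ 0) {h : SL(2, F)} (h1 : h ≠ 1) (h1' : h ≠ -1) :
    ¬ IsScal ((tG h : GL (Fin 2) F) : Mat F) := fun e => by
  rcases sl_center h2 (a := h) (fun b => by
    have := cjM_scal e b
    rw [cjM_tG, mul_inv_eq_iff_eq_mul] at this
    exact this.symm) with e | e
  exacts [h1 e, h1' e]

theorem rka_comm {φ : SL(2, F) →* G} (hφ : Function.Injective φ) (h2 : (2 : F) ≠ 0) {g : G}
    {N : GL (Fin 2) F} (e : Ind φ g N) {h b : SL(2, F)} (h1 : h ≠ 1) (h1' : h ≠ -1)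
    (hg : Commute g (φ h)) (hb : Commute (φ b) (φ h)) : Commute g (φ b) := by
  have a1 : N ∈ torus (tG h) := mem_centralizer_singleton_iff.2
    (mem_centralizer_singleton_iff.1 ((e.comm_iff hφ).1 hg.eq)).symm
  have a2 : tG b ∈ torus (tG h) := mem_centralizer_singleton_iff.2 (by
    rw [← map_mul, ← map_mul, hφ (by rw [map_mul, map_mul, hb.eq] : φ (b * h) = φ (h * b))])
  exact (e.comm_iff hφ).2 (mem_centralizer_singleton_iff.2
    (torus_comm (rka_not_scal h2 h1 h1') a2 a1))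

namespace Cz

variable (hz : Cz σ s) {h : SL(2, F)} {c g : G} (hc : c ∈ Zt σ s)
include hz hc

theorem rka_x (b : SL(2, F)) : Commute (tw σ s h * c) (σ b) :=
  (hz.comm b h).symm.mul_left ((mem_Zt.1 hc).1 b)

omit hz in
theorem rka_of_x (e : Commute g (tw σ s h * c)) (e' : Commute g c) : Commute g (tw σ s h) := by
  simpa using e.mul_right e'.inv_right

theorem rka_not_tw (h1 : h ≠ 1) (h1' : h ≠ -1) : ¬ ∀ b, Commute (tw σ s h * c) (tw σ s b) :=
  fun e => by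
  rcases sl_center hz.two_ne (a := h) (fun b => hz.tw_inj (by
    rw [map_mul, map_mul]
    exact (rka_of_x hc (e b).symm ((mem_Zt.1 hc).2 b).symm).eq)) with e | e
  exacts [h1 e, h1' e]

theorem rka_norm (h1 : h ≠ 1) (h1' : h ≠ -1) (e : Commute g (σ (-1)))
    (e' : Commute g (tw σ s h * c)) : g ∈ 𝐍[σ.range] := by
  by_contra n
  refine hz.rka_not_tw hc h1 h1' fun b => ?_
  have : tw σ s b ∈ cj(g, σ.range) := (hz.cj_swap e n).1 ▸ ⟨b, rfl⟩
  obtain ⟨_, ⟨a, rfl⟩, ha⟩ := this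
  rw [← ha]
  exact (e'.symm.mul_right (hz.rka_x hc a)).mul_right e'.symm.inv_right

theorem rka_odd (h1 : h ≠ 1) (h1' : h ≠ -1) {t : G} (tt : t * t = 1) (tn : t ∈ 𝐍[σ.range])
    (th : Commute t (tw σ s h)) {U : Subgroup G} (ho : Odd (Nat.card U))
    (hx : U ≤ Cen (tw σ s h * c)) (hn : σ.range ≤ 𝐍[U]) (ht : t ∈ 𝐍[U]) {y : G} (hy : y ∈ U)
    (yz : Commute y (σ (-1))) : (∀ b, Commute y (σ b)) ∧ Commute y t := by
  have od : ∀ y ∈ U, Odd (orderOf y) := fun y hy => ho.of_dvd_nat (orderOf_dvd_natCard U hy)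
  have one : ∀ y ∈ U, y * y = 1 → y = 1 := fun y hy e => by
    have := (od y hy).coprime_two_right.eq_one_of_dvd (orderOf_dvd_of_pow_eq_one (by rw [sq, e]))
    exact orderOf_eq_one_iff.1 this
  have hM : U.comap σ = ⊥ := by
    by_contra hb
    haveI : (U.comap σ).Normal := ⟨fun a ha b => by
      rw [mem_comap, map_mul, map_mul, map_inv]
      exact conj_mem_of_norm (hn ⟨b, rfl⟩) ha⟩
    exact hz.z_ne (one _ (neg_one_mem hz.odd _ hb) hz.zz)
  have p1 : ∀ y ∈ U, Commute y (σ (-1)) → ∀ b, Commute y (σ b) := by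
    intro y hy yz b
    obtain ⟨α, hα⟩ := hz.exists_aut (hz.norm_of_odd yz (od y hy))
    have : α b * b⁻¹ ∈ U.comap σ := by
      rw [mem_comap, map_mul, map_inv, ← hα]
      have := U.mul_mem hy (conj_mem_of_norm (hn ⟨b, rfl⟩) (U.inv_mem hy))
      simpa only [mul_assoc] using this
    rw [hM, mem_bot, mul_inv_eq_one] at this
    have e := hα b
    rw [this, mul_inv_eq_iff_eq_mul] at e
    exact e
  refine ⟨p1 y hy yz, ?_⟩
  have tz := hz.z_of_norm tn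
  have hQ : Odd (Nat.card ↥(U ⊓ Cen (σ (-1)))) := ho.of_dvd_nat (card_dvd_of_le inf_le_left)
  have tQ : t ∈ 𝐍[U ⊓ Cen (σ (-1))] := zpowers_le.1 (norm_inf (zpowers_le.2 ht)
    (norm_of_le (zpowers_le.2 (mem_Cen.2 tz.symm))))
  obtain ⟨c0, hc0, j, hj, tj, rfl⟩ := GW.exists_fixed_mul_inverted hQ tt tQ
    (x := y) ⟨hy, mem_Cen.2 yz.symm⟩
  suffices j1 : j = 1 by rw [j1, mul_one]; exact (mem_Cen.1 hc0.2).symm
  have jz : Commute j (σ (-1)) := (mem_Cen.1 hj.2).symm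
  obtain ⟨α, oα, hα⟩ := hz.symm.exists_aut_odd (g := j) (by rw [hz.tw_z]; exact jz) (od j hj.1)
  obtain ⟨M, N, -, eN, -⟩ := hz.ind_inv tn tt
  have jtj : j * t * j = t := by
    rw [mul_assoc, mul_inv_eq_iff_eq_mul.1 tj, mul_inv_cancel_left]
  obtain ⟨k, -, hk⟩ := aut_inv hz.odd α oα (M := N) fun a => hz.tw_inj (by
    rw [← hα, ← eN, ← hα, ← eN]
    conv_rhs => rw [← jtj]
    group)
  have ho' : (tw σ s k)⁻¹ * j ∈ Zt σ s := mem_Zt.2 ⟨fun a =>
    (hz.comm a k).symm.inv_left.mul_left (p1 j hj.1 jz a), fun a => by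
      have e := hα a
      rw [hk, map_mul, map_mul, map_inv] at e
      change _ * _ * _ = _ * (_ * _)
      rw [mul_assoc, mul_inv_eq_iff_eq_mul.1 e]
      group⟩
  have jx : Commute j (tw σ s h * c) := (mem_Cen.1 (hx hj.1)).symm
  have ox : Commute ((tw σ s k)⁻¹ * j) (tw σ s h * c) :=
    ((mem_Zt.1 ho').2 h).mul_right (hz.Zt_comm ho' hc)
  have kx : Commute (tw σ s k) (tw σ s h * c) := by
    simpa using jx.mul_left ox.inv_left
  have tk : Commute t (tw σ s k) := rka_comm hz.tw_inj hz.two_ne eN h1 h1' th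
    (rka_of_x hc kx ((mem_Zt.1 hc).2 k).symm)
  have tj' : Commute t j := by
    simpa using tk.mul_right (hz.two t tn ⟨1, by rw [pow_one, sq, tt]⟩ _ ho')
  rw [tj'.eq, mul_inv_cancel_right] at tj
  exact one j hj.1 (by nth_rewrite 1 [tj]; exact inv_mul_cancel j)

end Cz

namespace Cfg

variable (h : Cfg σ ρ s r x) {g a : G}
include h

theorem xσ (b : SL(2, F)) : Commute x (σ b) := by
  obtain ⟨k, -, -, -, c, hc, rfl⟩ := h.x1
  exact h.c1.rka_x hc b

theorem xρ (b : SL(2, F)) : Commute x (ρ b) := by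
  obtain ⟨k, -, -, -, c, hc, rfl⟩ := h.x2
  exact h.c2.rka_x hc b

theorem norm1 (hz : Commute g (σ (-1))) (hx : Commute g x) : g ∈ 𝐍[σ.range] := by
  obtain ⟨k, h1, h1', -, c, hc, rfl⟩ := h.x1
  exact h.c1.rka_norm hc h1 h1' hz hx

theorem norm2 (hz : Commute g (ρ (-1))) (hx : Commute g x) : g ∈ 𝐍[ρ.range] := by
  obtain ⟨k, h1, h1', -, c, hc, rfl⟩ := h.x2
  exact h.c2.rka_norm hc h1 h1' hz hx

/-- (F2) -/
theorem f2 (hz : Commute g (σ (-1))) (hx : Commute g x) (h2 : ∃ n : ℕ, g ^ 2 ^ n = 1)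
    (ha : ∀ b, Commute a (σ b)) (hx' : Commute a x) (h2' : ∃ n : ℕ, a ^ 2 ^ n = 1) :
    Commute g a := by
  have gn := h.norm1 hz hx
  obtain ⟨k, h1, h1', -, c, hc, rfl⟩ := h.x1
  obtain ⟨b, c', hc', rfl⟩ := h.c1.eq_tw ha h2'
  obtain ⟨M, N, -, eN, -⟩ := h.c1.ind2 gn h2
  have gk := Cz.rka_of_x hc hx (h.c1.two g gn h2 c hc)
  have e1 : Commute (tw σ s b * c') (tw σ s k) :=
    Cz.rka_of_x hc hx' (((mem_Zt.1 hc).2 b).symm.mul_left (h.c1.Zt_comm hc' hc))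
  have e2 : Commute (tw σ s b) (tw σ s k) :=
    (Cz.rka_of_x hc' e1.symm ((mem_Zt.1 hc').2 k).symm).symm
  exact (rka_comm h.c1.tw_inj h.c1.two_ne eN h1 h1' gk e2).mul_right (h.c1.two g gn h2 c' hc')

theorem rka_tz : Commute (ρ (-1)) (σ (-1)) := h.c1.z_of_norm h.t1

theorem rka_act1 : ¬ ∀ a, Commute (ρ (-1)) (σ a) := by
  obtain ⟨g, hg⟩ := h.fr
  exact h.act _ (isConj_iff.2 ⟨g, by rw [hg, cjh_apply]⟩) h.rka_tz h.ne

theorem rka_act2 : ¬ ∀ a, Commute (σ (-1)) (ρ a) := by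
  intro e
  obtain ⟨g, hg⟩ := h.fr
  have e' : ∀ a, Commute (g⁻¹ * σ (-1) * g) (σ a) := fun a => by
    have := e a
    rw [hg, cjh_apply] at this
    change _ * _ = _ * _
    calc g⁻¹ * σ (-1) * g * σ a = g⁻¹ * (σ (-1) * (g * σ a * g⁻¹)) * g := by group
      _ = σ a * (g⁻¹ * σ (-1) * g) := by rw [this.eq]; group
  refine h.act _ (isConj_iff.2 ⟨g⁻¹, by rw [inv_inv]⟩) (e' _) (fun e1 => h.ne ?_) e'
  rw [hg, cjh_apply]
  conv_lhs => rw [← e1]
  group

/-- (R5) -/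
theorem odd_cen {U : Subgroup G} (ho : Odd (Nat.card U)) (hx : U ≤ Cen x)
    (hn : σ.range ⊔ ρ.range ≤ 𝐍[U]) : U ≤ 𝐂[σ.range ⊔ ρ.range] := by
  have n1 : σ.range ≤ 𝐍[U] := le_sup_left.trans hn
  have n2 : ρ.range ≤ 𝐍[U] := le_sup_right.trans hn
  have a1 : ∀ y ∈ U, Commute y (σ (-1)) → (∀ b, Commute y (σ b)) ∧ Commute y (ρ (-1)) := by
    obtain ⟨k, h1, h1', th, c, hc, rfl⟩ := h.x1
    exact fun y hy yz => h.c1.rka_odd hc h1 h1' h.c2.zz h.t1 th ho hx n1 (n2 ⟨_, rfl⟩) hy yz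
  have a2 : ∀ y ∈ U, Commute y (ρ (-1)) → (∀ b, Commute y (ρ b)) ∧ Commute y (σ (-1)) := by
    obtain ⟨k, h1, h1', th, c, hc, rfl⟩ := h.x2
    exact fun y hy yz => h.c2.rka_odd hc h1 h1' h.c1.zz h.z2 th ho hx n2 (n1 ⟨_, rfl⟩) hy yz
  have hU : U ≤ Cen (σ (-1)) := by
    refine GT.le_of_four_group (orderOf_eq_prime (by rw [sq, h.c1.zz]) h.c1.z_ne)
      (orderOf_eq_prime (by rw [sq, h.c2.zz]) h.c2.z_ne) h.ne.symm h.rka_tz.symm (n1 ⟨_, rfl⟩)
      (n2 ⟨_, rfl⟩) ho.not_two_dvd_nat inf_le_right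
      (fun y hy => mem_Cen.2 (a2 y hy.1 (mem_Cen.1 hy.2).symm).2.symm) fun y hy => ?_
    obtain ⟨a, -, ha⟩ := h.c1.conj_z h.c2.zz h.t1 h.rka_act1
    have e : Commute (σ a * ρ (-1) * (σ a)⁻¹) y := by
      rw [ha, h.rka_tz.eq]; exact mem_Cen.1 hy.2
    have e' : Commute ((σ a)⁻¹ * y * σ a) (ρ (-1)) := by
      change _ * _ = _ * _
      calc (σ a)⁻¹ * y * σ a * ρ (-1) = (σ a)⁻¹ * (y * (σ a * ρ (-1) * (σ a)⁻¹)) * σ a := by group
        _ = ρ (-1) * ((σ a)⁻¹ * y * σ a) := by rw [← e.eq]; group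
    have := (a2 _ (conj_mem_of_norm' (n1 ⟨a, rfl⟩) hy.1) e').2
    have := ((h.c1.σ_z a).mul_left this).mul_left (h.c1.σ_z a).inv_left
    exact mem_Cen.2 (by simpa [mul_assoc] using this.symm)
  refine le_cent_sup (fun y hy => ?_) fun y hy => ?_
  · rintro _ ⟨b, rfl⟩
    exact ((a1 y hy (mem_Cen.1 (hU hy)).symm).1 b).symm
  · rintro _ ⟨b, rfl⟩
    exact ((a2 y hy (a1 y hy (mem_Cen.1 (hU hy)).symm).2).1 b).symm

/-- The two factors are conjugate in the group they generate. -/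
theorem exists_conj : ∃ g ∈ σ.range ⊔ ρ.range, cj(g, σ.range) = ρ.range ∧
    g * σ (-1) * g⁻¹ = ρ (-1) := by
  obtain ⟨a, -, ha⟩ := h.c1.conj_z h.c2.zz h.t1 h.rka_act1
  obtain ⟨b, -, hb⟩ := h.c2.conj_z h.c1.zz h.z2 h.rka_act2
  have e : (σ a)⁻¹ * ρ b * σ (-1) * ((σ a)⁻¹ * ρ b)⁻¹ = ρ (-1) := by
    calc _ = (σ a)⁻¹ * (ρ b * σ (-1) * (ρ b)⁻¹) * σ a := by group
      _ = _ := by rw [hb, ← h.rka_tz.eq, ← ha]; group
  have gx : Commute ((σ a)⁻¹ * ρ b) x := (h.xσ a).symm.inv_left.mul_left (h.xρ b).symm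
  refine ⟨(σ a)⁻¹ * ρ b, mul_mem (mem_sup_left (inv_mem ⟨a, rfl⟩)) (mem_sup_right ⟨b, rfl⟩), ?_, e⟩
  generalize (σ a)⁻¹ * ρ b = g at e gx
  obtain ⟨g₀, hg⟩ := h.fr
  have hρ : ∀ a, ρ a = g₀ * σ a * g₀⁻¹ := fun a => by rw [hg, cjh_apply]
  have c : Commute (g * g₀⁻¹) (ρ (-1)) := by
    change _ * _ = _ * _
    conv_lhs => rw [hρ]
    rw [← e]
    group
  have e1 : cj(g, σ.range) = cj(g * g₀⁻¹, ρ.range) := by
    ext y
    constructor
    · rintro ⟨_, ⟨u, rfl⟩, rfl⟩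
      exact ⟨_, ⟨u, rfl⟩, by simp [hρ, mul_assoc]⟩
    · rintro ⟨_, ⟨u, rfl⟩, rfl⟩
      exact ⟨_, ⟨u, rfl⟩, by simp [hρ, mul_assoc]⟩
  by_cases n : g * g₀⁻¹ ∈ 𝐍[ρ.range]
  · rw [e1]
    ext y
    constructor
    · rintro ⟨u, hu, rfl⟩
      exact conj_mem_of_norm n hu
    · intro hy
      exact ⟨_, conj_mem_of_norm' n hy, by simp [mul_assoc]⟩
  · exfalso
    have e2 := (h.c2.cj_swap c n).1
    rw [← e1] at e2
    have hx := h.xσ
    obtain ⟨k, h1, h1', -, c, hc, rfl⟩ := h.x2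
    refine h.c2.rka_not_tw hc h1 h1' fun b => ?_
    have : tw ρ r b ∈ cj(g, σ.range) := e2 ▸ ⟨b, rfl⟩
    obtain ⟨_, ⟨a, rfl⟩, ha⟩ := this
    rw [← ha]
    exact (gx.symm.mul_right (hx a)).mul_right gx.symm.inv_right

end Cfg

theorem rka_le {Y : Type*} [Group Y] [Finite Y] {σ : SL(2, F) →* Y} (hF : Odd (Fintype.card F))
    (h3 : 3 < Fintype.card F) (hi : Function.Injective σ) (hO : oddCore Y = ⊥)
    (hn : Cen (σ (-1)) ≤ 𝐍[σ.range])
    (hu : ∀ a, a * a = 1 → (∀ b, Commute a (σ b)) → a = 1 ∨ a = σ (-1))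
    (hz : σ (-1) ∉ center Y) (N : Subgroup Y) [hN : N.Normal] (hb : N ≠ ⊥) : σ.range ≤ N := by
  have zz : σ (-1) * σ (-1) = 1 := by rw [← map_mul]; simp
  have z1 : σ (-1) ≠ 1 := fun e => hz (e ▸ one_mem _)
  have zo : orderOf (σ (-1)) = 2 := orderOf_eq_prime (by rw [sq, zz]) z1
  rcases sl_normal h3 (N.comap σ) with hc | hc
  swap
  · rintro _ ⟨a, rfl⟩
    exact (hc ▸ mem_top a : a ∈ N.comap σ)
  exfalso
  have key : ∀ y ∈ N, Commute (σ (-1)) y → y * y = 1 → y = 1 ∨ y = σ (-1) := by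
    intro y hy yz yy
    refine hu y yy ?_
    have : ∀ b, ∃ b', σ b' = y * σ b * y⁻¹ := fun b =>
      conj_mem_of_norm (hn (mem_Cen.2 yz)) ⟨b, rfl⟩
    choose α hα using this
    intro b
    have e := sl_eq_of_sign h3 (α := α) (fun a b => hi (by
      rw [map_mul, hα, hα, hα, map_mul]; group)) (fun a => by
      have : α a * a⁻¹ ∈ N.comap σ := by
        rw [mem_comap, map_mul, map_inv, hα]
        have := N.mul_mem hy (hN.conj_mem _ (N.inv_mem hy) (σ a))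
        simpa only [mul_assoc] using this
      rcases (sl_mem_center hF).1 (hc this) with e | e
      · exact Or.inl (mul_inv_eq_one.1 e)
      · exact Or.inr (by rw [mul_inv_eq_iff_eq_mul.1 e]; simp)) b
    have := hα b
    rw [e, eq_mul_inv_iff_mul_eq] at this
    exact this.symm
  have ev : 2 ∣ Nat.card N := by
    by_contra n
    exact hb (GW.eq_bot_of_odd hO (Nat.odd_iff.2 (by omega)))
  obtain ⟨u, hu2⟩ := exists_prime_orderOf_dvd_card' (G := N) 2 ev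
  obtain ⟨v, hv, v2, vz⟩ := GW.exists_commute_involution zo (E := N)
    (le_normalizer_of_normal (mem_top _ : σ (-1) ∈ (⊤ : Subgroup Y))) u.2
    (by rw [Subgroup.orderOf_coe, hu2])
  have zN : σ (-1) ∈ N := by
    rcases key v hv vz (by rw [← sq, ← v2, pow_orderOf_eq_one]) with e | e
    · rw [e, orderOf_one] at v2; omega
    · exact e ▸ hv
  refine hz (IsIsolatedInvolution.mem_center ⟨zo, fun g hg => ?_⟩ hO)
  refine (key _ (hN.conj_mem _ zN g) hg ?_).resolve_left fun e => z1 ?_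
  · calc _ = g * (σ (-1) * σ (-1)) * g⁻¹ := by group
      _ = 1 := by rw [zz]; group
  · simpa using e

/-- (R4b) An abstract group of 2-rank two. -/
theorem exists_simple {Y : Type*} [Group Y] [Finite Y] {σ : SL(2, F) →* Y} (hF : Odd (Fintype.card F))
    (h3 : 3 < Fintype.card F) (hi : Function.Injective σ) (hO : oddCore Y = ⊥)
    (rk : Cfsg.PRankLE 2 2 Y) (hn : Cen (σ (-1)) ≤ 𝐍[σ.range])
    (hu : ∀ a, a * a = 1 → (∀ b, Commute a (σ b)) → a = 1 ∨ a = σ (-1))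
    (hz : σ (-1) ∉ center Y) :
    ∃ L : Subgroup Y, L.Normal ∧ IsSimpleGroup L ∧ σ.range ≤ L := by
  have _ := rk
  have z1 : σ (-1) ≠ 1 := fun e => hz (e ▸ one_mem _)
  set L := normalClosure (σ.range : Set Y) with hL
  have le : σ.range ≤ L := subset_normalClosure
  let σ' : SL(2, F) →* L := σ.codRestrict L fun a => le ⟨a, rfl⟩
  have hi' : Function.Injective σ' := fun a b e => hi (congrArg Subtype.val e)
  have hz' : σ' (-1) ∉ center L := by
    intro e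
    have hb : (center L).map L.subtype ≠ ⊥ := fun e' =>
      z1 (mem_bot.1 (e' ▸ (⟨_, e, rfl⟩ : σ (-1) ∈ (center L).map L.subtype)))
    have := rka_le hF h3 hi hO hn hu hz _ hb
    have c : ∀ a b : SL(2, F), b * a = a * b := fun a b => by
      obtain ⟨u, hu, e⟩ := this ⟨a, rfl⟩
      have : u = σ' a := Subtype.ext e
      exact hi' (by rw [map_mul, map_mul, ← this]; exact mem_center_iff.1 hu _)
    have p := sl_perfect h3
    have : commutator SL(2, F) = ⊥ := by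
      rw [_root_.commutator_def, commutator_eq_bot_iff_le_centralizer]
      exact fun a _ b _ => c a b
    rw [Group.IsPerfect.commutator_eq_top] at this
    have : (-1 : SL(2, F)) = 1 := mem_bot.1 (this ▸ mem_top _)
    exact z1 (by rw [this, map_one])
  have all := rka_le hF h3 hi' (GW.oddCore_eq_bot_of_normal hO L) (fun y hy => by
      have n : (y : Y) ∈ 𝐍[σ.range] :=
        hn (mem_Cen.2 (congrArg Subtype.val (mem_Cen.1 hy).eq))
      refine mem_normalizer_iff.2 fun u => ⟨?_, ?_⟩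
      · rintro ⟨a, rfl⟩
        obtain ⟨b, hb⟩ := conj_mem_of_norm n ⟨a, rfl⟩
        exact ⟨b, Subtype.ext hb⟩
      · rintro ⟨a, ha⟩
        obtain ⟨b, hb⟩ := conj_mem_of_norm' n ⟨a, rfl⟩
        refine ⟨b, Subtype.ext ?_⟩
        have ha' : σ a = y * u * (y : Y)⁻¹ := congrArg Subtype.val ha
        change σ b = u
        rw [hb, ha']
        group)
    (fun a aa ha => (hu a (congrArg Subtype.val aa)
      fun b => congrArg Subtype.val (ha b).eq).imp Subtype.ext Subtype.ext) hz'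
  haveI : Nontrivial L := ⟨σ' (-1), 1, fun e => z1 (congrArg Subtype.val e)⟩
  refine ⟨L, inferInstance, ⟨fun M hM => ?_⟩, le⟩
  refine or_iff_not_imp_left.2 fun hb => ?_
  have : L ≤ (M.map L.subtype).normalCore := by
    refine normalClosure_le_normal ?_
    rintro _ ⟨a, rfl⟩ g
    have hb' : M.comap (MulAut.conjNormal g : L ≃* L).toMonoidHom ≠ ⊥ := fun e => hb (by
      rw [eq_bot_iff]
      intro u hu
      have : (MulAut.conjNormal g : L ≃* L).symm u ∈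
          M.comap (MulAut.conjNormal g : L ≃* L).toMonoidHom := by simpa using hu
      rw [e, mem_bot] at this
      simpa using this)
    exact ⟨_, all _ hb' ⟨a, rfl⟩, rfl⟩
  rw [eq_top_iff]
  intro u _
  obtain ⟨v, hv, e⟩ := normalCore_le _ (this u.2)
  exact (Subtype.ext e : v = u) ▸ hv

end Cfsg.Agent.L4
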