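import Mathlib
import Cfsg.Agent.L4.RkA
import Cfsg.Agent.GW.QuatA
import Cfsg.Agent.GT.PPrimeCore
import Cfsg.Agent.Cl.PSL2Finite
import Cfsg.Agent.Inv.SL2Four

/-! The simple section of 2-rank two. -/

set_option autoImplicit false
set_option linter.unusedSectionVars false

namespace Cfsg.Agent.L4

open Cfsg.Agent.Loc.Mss Cfsg.Agent.GW Subgroup Cfsg.Agent.P4 Cfsg.Agent.G2T Cfsg.Agent.Cl.GL2
open scoped MatrixGroups

universe u

variable {G : Type u} [Group G] [Finite G] {F : Type} [Field F] [Fintype F]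
  {σ ρ : SL(2, F) →* G} {s r x : G}

namespace RkX

theorem two_part {X : Type*} [Group X] [Finite X] (g : X) :
    ∃ m k : ℕ, Odd m ∧ (g ^ m) ^ 2 ^ k = 1 := by
  obtain ⟨k, m, hm, e⟩ := Nat.exists_eq_two_pow_mul_odd (orderOf_pos g).ne'
  exact ⟨m, k, hm, by rw [← pow_mul, mul_comm, ← e, pow_orderOf_eq_one]⟩

theorem pow_odd {X : Type*} [Group X] {y : X} (yy : y * y = 1) {m : ℕ} (hm : Odd m) : y ^ m = y := by
  obtain ⟨j, rfl⟩ := hm
  rw [pow_succ, pow_mul, pow_two, yy, one_pow, one_mul]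

theorem two_mul {X : Type*} [Group X] {a b : X} (c : Commute a b) (ha : ∃ n : ℕ, a ^ 2 ^ n = 1)
    (hb : ∃ n : ℕ, b ^ 2 ^ n = 1) : ∃ n : ℕ, (a * b) ^ 2 ^ n = 1 := by
  obtain ⟨n, hn⟩ := ha
  obtain ⟨m, hm⟩ := hb
  refine ⟨n + m, ?_⟩
  rw [c.mul_pow, pow_add, pow_mul, hn, one_pow, one_mul, mul_comm, pow_mul, hm, one_pow]

theorem pow_four {X : Type*} [Group X] (b : X) : b ^ 2 ^ 2 = b * b * (b * b) := by
  rw [pow_two 2, pow_mul, pow_two, pow_two]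

theorem mul_sq {X : Type*} [Group X] {a b : X} (c : Commute a b) (aa : a * a = 1) (bb : b * b = 1) :
    a * b * (a * b) = 1 := by
  rw [← pow_two, c.mul_pow, pow_two, pow_two, aa, bb, one_mul]

theorem eq_one_of_odd {U : Subgroup G} (ho : Odd (Nat.card U)) {u : G} (hu : u ∈ U)
    (uu : u * u = 1) : u = 1 :=
  (pow_odd uu ho).symm.trans (orderOf_dvd_iff_pow_eq_one.1 (orderOf_dvd_natCard U hu))

theorem central_inv {X : Type*} [Group X] [Finite X] {P : Subgroup X} (hP : IsPGroup 2 P) {z : X}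
    (hz : z ∈ P) (z1 : z ≠ 1) : ∃ c : X, c ≠ 1 ∧ c * c = 1 ∧ ∀ p ∈ P, Commute c p := by
  have : Nontrivial P := ⟨⟨⟨z, hz⟩, 1, fun e => z1 (congrArg Subtype.val e)⟩⟩
  have := hP.center_nontrivial
  obtain ⟨n, hn0, hn⟩ := (hP.to_subgroup (center P)).nontrivial_iff_card.1 inferInstance
  obtain ⟨c, hc⟩ := exists_prime_orderOf_dvd_card' (G := center P) 2
    (by rw [hn]; exact dvd_pow_self 2 hn0.ne')
  refine ⟨c, fun e => ?_, ?_, fun p hp => ?_⟩
  · rw [show c = 1 from Subtype.ext (Subtype.ext e), orderOf_one] at hc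
    omega
  · have := pow_orderOf_eq_one c
    rw [hc, pow_two] at this
    exact congrArg (fun y : center P => ((y : P) : X)) this
  · exact (congrArg Subtype.val (mem_center_iff.1 c.2 ⟨p, hp⟩)).symm

theorem exists_q8 (hF : Odd (Fintype.card F)) : ∃ (a w : SL(2, F)) (Q : Subgroup SL(2, F)),
    IsPGroup 2 Q ∧ a ∈ Q ∧ w ∈ Q ∧ a * a = -1 ∧ Anti (tG w) (tG a) := by
  have aa := Inv.SLF.w0_mul_self (F := F)
  obtain ⟨w, ww, e⟩ := sl_exists_inv hF aa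
  generalize Inv.SLF.w0 F = a at aa e
  have key : ∀ b : SL(2, F), b * b = -1 → IsPGroup 2 (zpowers b) := fun b bb => pg_iff.2 (by
    rintro _ ⟨n, rfl⟩
    refine ⟨2, ?_⟩
    rw [← zpow_natCast, ← zpow_mul, mul_comm, zpow_mul, zpow_natCast,
      pow_four, bb]
    simp)
  refine ⟨a, w, zpowers w ⊔ zpowers a, pg_sup (key w ww) (key a aa) (zpowers_le.2
    (mem_norm_of_cj_le (cj_le_iff.2 ?_))), mem_sup_right (mem_zpowers a),
    mem_sup_left (mem_zpowers w), aa, congrArg Subtype.val e⟩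
  rintro _ ⟨n, rfl⟩
  have : w * a * w⁻¹ = a * a * a := by rw [e, aa]; simp
  rw [← conj_zpow, this]
  exact zpow_mem (mul_mem (mul_mem (mem_zpowers a) (mem_zpowers a)) (mem_zpowers a)) n

/-- An element centralizing `K₁` modulo a subgroup of odd order centralizing `K₁`. -/
theorem comm_of_odd (h : Cz σ s) {U : Subgroup G} (ho : Odd (Nat.card U))
    (hU : ∀ u ∈ U, ∀ b, Commute u (σ b)) {g : G}
    (hn : Commute g (σ (-1)) → g ∈ 𝐍[σ.range]) (hg : ∀ b, g * σ b * g⁻¹ * (σ b)⁻¹ ∈ U)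
    (b : SL(2, F)) : Commute g (σ b) := by
  have key : ∀ b, (g * σ b * g⁻¹ * (σ b)⁻¹) * (g * σ b * g⁻¹ * (σ b)⁻¹) = 1 → Commute g (σ b) :=
    fun b e => by
      have := eq_one_of_odd ho (hg b) e
      rw [mul_inv_eq_one, mul_inv_eq_iff_eq_mul] at this
      exact this
  have hz : Commute g (σ (-1)) := key _ (by
    have c := (hU _ (hg (-1)) (-1)).inv_right
    have zz := h.zz
    generalize σ (-1) = z at c zz
    have zi : z⁻¹ = z := inv_eq_of_mul_eq_one_right zz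
    calc (g * z * g⁻¹ * z⁻¹) * (g * z * g⁻¹ * z⁻¹)
        = g * z * g⁻¹ * (z⁻¹ * (g * z * g⁻¹ * z⁻¹)) := by group
      _ = g * z * g⁻¹ * ((g * z * g⁻¹ * z⁻¹) * z⁻¹) := by rw [c.eq]
      _ = g * (z * z) * g⁻¹ * (z * z)⁻¹ := by group
      _ = 1 := by rw [zz]; group)
  obtain ⟨c, hc⟩ := conj_mem_of_norm (hn hz) (MonoidHom.mem_range.2 ⟨b, rfl⟩)
  refine key b ?_
  have e : g * σ b * g⁻¹ * (σ b)⁻¹ = σ (c * b⁻¹) := by rw [map_mul, map_inv, hc]
  have hc' : c * b⁻¹ ∈ center SL(2, F) := mem_center_iff.2 fun d => h.inj (by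
    rw [map_mul, map_mul σ (c * b⁻¹), ← e]
    exact (hU _ (hg b) d).symm)
  rw [e, ← map_mul]
  rcases (sl_mem_center h.odd).1 hc' with e | e <;> simp [e]

/-- A section `Y` of `C(x)` which contains the images of both factors. -/
structure Sec (σ ρ : SL(2, F) →* G) (x : G) (H : Subgroup G) {Y : Type u} [Group Y]
    (π : H →* Y) : Prop where
  hσ : ∀ b, σ b ∈ H
  hρ : ∀ b, ρ b ∈ H
  hx : ∀ g ∈ H, Commute g x
  surj : Function.Surjective π
  k1 : ∀ g : H, π g = 1 → (∀ b, Commute (g : G) (σ b)) ∧ ∀ b, Commute (g : G) (ρ b)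
  k2 : ∀ g : H, (∃ n : ℕ, (g : G) ^ 2 ^ n = 1) → (∀ b, Commute (g : G) (σ b)) →
    (∀ b, Commute (g : G) (ρ b)) → π g = 1
  odd : oddCore Y = ⊥

theorem exists_sec (h : Cfg σ ρ s r x) : ∃ (H : Subgroup G) (Y : Type u) (_ : Group Y)
    (π : H →* Y), Sec σ ρ x H π := by
  let A : Set G := {a | (∃ n : ℕ, a ^ 2 ^ n = 1) ∧ Commute a x ∧ (∀ b, Commute a (σ b)) ∧
    ∀ b, Commute a (ρ b)}
  let H : Subgroup G := centralizer A ⊓ Cen x
  have hσ : ∀ b, σ b ∈ H := fun b => ⟨fun a ha => ha.2.2.1 b, mem_Cen.2 (h.xσ b)⟩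
  have hρ : ∀ b, ρ b ∈ H := fun b => ⟨fun a ha => ha.2.2.2 b, mem_Cen.2 (h.xρ b)⟩
  have hx : ∀ g ∈ H, Commute g x := fun g hg => (mem_Cen.1 hg.2).symm
  let U : Subgroup G := (oddCore H).map H.subtype
  have ho : Odd (Nat.card U) := by
    rw [card_map_of_injective H.subtype_injective]
    exact GT.odd_card_oddCore
  have hUH : U ≤ H := map_subtype_le _
  have hR : σ.range ⊔ ρ.range ≤ H := sup_le (by rintro _ ⟨b, rfl⟩; exact hσ b)
    (by rintro _ ⟨b, rfl⟩; exact hρ b)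
  have hN : H ≤ 𝐍[U] := fun g hg => mem_norm_of_cj_le (cj_le_iff.2 (by
    rintro _ ⟨u, hu, rfl⟩
    exact ⟨_, (inferInstance : (oddCore H).Normal).conj_mem u hu ⟨g, hg⟩, rfl⟩))
  have hC := h.odd_cen ho (hUH.trans inf_le_right) (hR.trans hN)
  refine ⟨H, _, inferInstance, (QuotientGroup.mk' (center (H ⧸ oddCore H))).comp
    (QuotientGroup.mk' (oddCore H)), hσ, hρ, hx, (QuotientGroup.mk'_surjective _).comp
    (QuotientGroup.mk'_surjective _), fun g hg => ?_, fun g h2 h1 h1' => ?_,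
    oddCore_quotient_center GT.pPrimeCore_quotient_pPrimeCore⟩
  · have hg' : (g : H ⧸ oddCore H) ∈ center (H ⧸ oddCore H) := (QuotientGroup.eq_one_iff _).1 hg
    have key : ∀ y ∈ H, (g : G) * y * (g : G)⁻¹ * y⁻¹ ∈ U := fun y hy =>
      ⟨g * ⟨y, hy⟩ * g⁻¹ * (⟨y, hy⟩ : H)⁻¹, (QuotientGroup.eq_one_iff _).1 (by
        simp only [QuotientGroup.mk_mul, QuotientGroup.mk_inv]
        rw [← mem_center_iff.1 hg']
        group), rfl⟩
    exact ⟨comm_of_odd h.c1 ho (fun u hu b => (hC hu _ (mem_sup_left ⟨b, rfl⟩)).symm)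
        (fun c => h.norm1 c (hx g g.2)) fun b => key _ (hσ b),
      comm_of_odd h.c2 ho (fun u hu b => (hC hu _ (mem_sup_right ⟨b, rfl⟩)).symm)
        (fun c => h.norm2 c (hx g g.2)) fun b => key _ (hρ b)⟩
  · refine (QuotientGroup.eq_one_iff _).2 (mem_center_iff.2 fun y => ?_)
    obtain ⟨y, rfl⟩ := QuotientGroup.mk_surjective y
    have : y * g = g * y := Subtype.ext (y.2.1 g ⟨h2, hx g g.2, h1, h1'⟩).symm
    change ((y * g : H) : H ⧸ oddCore H) = (g * y : H)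
    rw [this]

theorem zt (h : Cfg σ ρ s r x) : Commute (ρ (-1)) (σ (-1)) := h.c1.z_of_norm h.t1

theorem t_act (h : Cfg σ ρ s r x) : ¬ ∀ b, Commute (ρ (-1)) (σ b) := by
  obtain ⟨g, -, -, e⟩ := h.exists_conj
  exact h.act _ (isConj_iff.2 ⟨g, e⟩) (zt h) h.ne

theorem z_act (h : Cfg σ ρ s r x) : ¬ ∀ b, Commute (σ (-1)) (ρ b) := fun c => by
  obtain ⟨g, -, e', e⟩ := h.exists_conj
  have key : ∀ b, Commute (g⁻¹ * σ (-1) * g) (σ b) := fun b => by
    obtain ⟨b', hb⟩ : g * σ b * g⁻¹ ∈ ρ.range := e' ▸ conj_mem_cj (MonoidHom.mem_range.2 ⟨b, rfl⟩)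
    have := (c b').map (MulAut.conj g⁻¹)
    simpa [hb, mul_assoc] using this
  refine h.act _ (isConj_iff.2 ⟨g⁻¹, by simp⟩) (key _) (fun e'' => h.ne ?_) key
  rw [← e]
  conv_lhs => rw [← e'']
  group

namespace Sec

variable {H : Subgroup G} {Y : Type u} [Group Y] {π : H →* Y} (k : Sec σ ρ x H π)

/-- The first factor in `H`. -/
def σH : SL(2, F) →* H := σ.codRestrict H k.hσ

/-- The second factor in `H`. -/
def ρH : SL(2, F) →* H := ρ.codRestrict H k.hρ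

@[simp] theorem coe_σH (b : SL(2, F)) : (k.σH b : G) = σ b := rfl

@[simp] theorem coe_ρH (b : SL(2, F)) : (k.ρH b : G) = ρ b := rfl

/-- The first factor in `Y`. -/
def σY : SL(2, F) →* Y := π.comp k.σH

/-- The second factor in `Y`. -/
def ρY : SL(2, F) →* Y := π.comp k.ρH

theorem σY_apply (b : SL(2, F)) : k.σY b = π (k.σH b) := rfl

theorem ρY_apply (b : SL(2, F)) : k.ρY b = π (k.ρH b) := rfl

include k in
theorem lift {y : Y} (yy : y * y = 1) : ∃ g : H, (∃ n : ℕ, (g : G) ^ 2 ^ n = 1) ∧ π g = y := by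
  obtain ⟨g, rfl⟩ := k.surj y
  obtain ⟨m, n, hm, e⟩ := two_part (g : G)
  exact ⟨g ^ m, ⟨n, e⟩, by rw [map_pow, pow_odd yy hm]⟩

variable (h : Cfg σ ρ s r x)
include h

theorem inj1 : Function.Injective k.σY := (injective_iff_map_eq_one _).2 fun b hb => by
  obtain ⟨c1, c2⟩ := k.k1 _ hb
  have : b ∈ center SL(2, F) := mem_center_iff.2 fun d => h.c1.inj (by
    rw [map_mul, map_mul]; exact (c1 d).symm)
  exact ((sl_mem_center h.c1.odd).1 this).resolve_right fun e => z_act h (e ▸ c2)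

theorem inj2 : Function.Injective k.ρY := (injective_iff_map_eq_one _).2 fun b hb => by
  obtain ⟨c1, c2⟩ := k.k1 _ hb
  have : b ∈ center SL(2, F) := mem_center_iff.2 fun d => h.c2.inj (by
    rw [map_mul, map_mul]; exact (c2 d).symm)
  exact ((sl_mem_center h.c1.odd).1 this).resolve_right fun e => t_act h (e ▸ c1)

theorem cen_z {g : H} (c : Commute (π g) (k.σY (-1))) : Commute (g : G) (σ (-1)) := by
  have e : π (g * k.σH (-1) * g⁻¹ * (k.σH (-1))⁻¹) = 1 := by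
    rw [map_mul, map_mul, map_mul, map_inv, map_inv, ← σY_apply, c.eq]; group
  have key : ∀ b, Commute ((g : G) * σ (-1) * (g : G)⁻¹) (σ b) := fun b => by
    have := ((k.k1 _ e).1 b).mul_left (h.c1.σ_z b).symm
    simpa using this
  by_contra n
  exact h.act _ (isConj_iff.2 ⟨g, rfl⟩) (key _) (fun e => n (mul_inv_eq_iff_eq_mul.1 e)) key

theorem exists_conj : ∃ g : H, (g : G) * σ (-1) * (g : G)⁻¹ = ρ (-1) ∧
    ∀ b, ∃ a, π g * k.σY a * (π g)⁻¹ = k.ρY b := by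
  obtain ⟨g, hg, e', e⟩ := h.exists_conj
  have hH : g ∈ H := (sup_le (by rintro _ ⟨b, rfl⟩; exact k.hσ b)
    (by rintro _ ⟨b, rfl⟩; exact k.hρ b) : σ.range ⊔ ρ.range ≤ H) hg
  refine ⟨⟨g, hH⟩, e, fun b => ?_⟩
  obtain ⟨a, ha⟩ : g⁻¹ * ρ b * g ∈ σ.range := mem_cj.1 (e' ▸ MonoidHom.mem_range.2 ⟨b, rfl⟩)
  refine ⟨a, ?_⟩
  rw [σY_apply, ρY_apply, ← map_inv, ← map_mul, ← map_mul]
  congr 1
  refine Subtype.ext ?_
  simp [ha, mul_assoc]

theorem cen_t {g : H} (c : Commute (π g) (k.ρY (-1))) : Commute (g : G) (ρ (-1)) := by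
  obtain ⟨d, e, -⟩ := k.exists_conj h
  have e' : k.ρY (-1) = π d * k.σY (-1) * (π d)⁻¹ := by
    rw [σY_apply, ρY_apply, ← map_inv, ← map_mul, ← map_mul]
    exact congrArg π (Subtype.ext e.symm)
  have c1 : Commute (π (d⁻¹ * g * d)) (k.σY (-1)) := by
    have := c.map (MulAut.conj (π d)⁻¹)
    simpa [e', mul_assoc] using this
  have := (k.cen_z h c1).map (MulAut.conj (d : G))
  simpa [← e, mul_assoc] using this

theorem norm1 {g : H} (c : Commute (π g) (k.σY (-1))) : (g : G) ∈ 𝐍[σ.range] :=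
  h.norm1 (k.cen_z h c) (k.hx g g.2)

theorem conj1 {g : H} {a b : SL(2, F)} (e : (g : G) * σ a * (g : G)⁻¹ = σ b) :
    π g * k.σY a * (π g)⁻¹ = k.σY b := by
  rw [σY_apply, σY_apply, ← map_inv, ← map_mul, ← map_mul]
  exact congrArg π (Subtype.ext e)

theorem comm1 {g : H} (c : Commute (π g) (k.σY (-1))) {a : SL(2, F)} (e : Commute (π g) (k.σY a)) :
    Commute (g : G) (σ a) := by
  obtain ⟨b, hb⟩ := conj_mem_of_norm (k.norm1 h c) (MonoidHom.mem_range.2 ⟨a, rfl⟩)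
  have e1 := k.conj1 h hb.symm
  rw [e.eq, mul_inv_cancel_right] at e1
  rw [← k.inj1 h e1] at hb
  exact mul_inv_eq_iff_eq_mul.1 hb.symm

theorem n1 [Finite Y] : Cen (k.σY (-1)) ≤ 𝐍[k.σY.range] := fun y hy => by
  obtain ⟨g, rfl⟩ := k.surj y
  refine mem_norm_of_cj_le (cj_le_iff.2 ?_)
  rintro _ ⟨a, rfl⟩
  obtain ⟨b, hb⟩ := conj_mem_of_norm (k.norm1 h (mem_Cen.1 hy).symm)
    (MonoidHom.mem_range.2 ⟨a, rfl⟩)
  exact ⟨b, (k.conj1 h hb.symm).symm⟩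

theorem n2 [Finite Y] : Cen (k.ρY (-1)) ≤ 𝐍[k.ρY.range] := fun y hy => by
  obtain ⟨g, rfl⟩ := k.surj y
  refine mem_norm_of_cj_le (cj_le_iff.2 ?_)
  rintro _ ⟨a, rfl⟩
  obtain ⟨b, hb⟩ := conj_mem_of_norm (h.norm2 (k.cen_t h (mem_Cen.1 hy).symm) (k.hx g g.2))
    (MonoidHom.mem_range.2 ⟨a, rfl⟩)
  refine ⟨b, ?_⟩
  rw [ρY_apply, ρY_apply, ← map_inv, ← map_mul, ← map_mul]
  exact congrArg π (Subtype.ext hb)

theorem zz : k.σY (-1) * k.σY (-1) = 1 := by rw [← map_mul]; simp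

/-- A 2-element with square in the kernel which centralizes `K₁`. -/
theorem hu' {g : H} (h2 : ∃ n : ℕ, (g : G) ^ 2 ^ n = 1) (gg : π g * π g = 1)
    (c : ∀ b, Commute (g : G) (σ b)) : π g = 1 ∨ π g = k.σY (-1) := by
  refine (h.f1 g (k.hx g g.2) c h2 (k.k1 (g * g) (by rw [map_mul, gg])).2).imp (k.k2 g h2 c)
    fun c' => ?_
  have e := k.k2 (g * k.σH (-1)) (two_mul (c _) h2 ⟨1, by rw [pow_one, pow_two]; exact h.c1.zz⟩)
    (fun b => (c b).mul_left (h.c1.σ_z b).symm) c'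
  rw [map_mul, ← σY_apply] at e
  exact mul_right_cancel (e.trans (k.zz h).symm)

theorem hu (y : Y) (yy : y * y = 1) (c : ∀ b, Commute y (k.σY b)) : y = 1 ∨ y = k.σY (-1) := by
  obtain ⟨g, h2, rfl⟩ := k.lift yy
  exact k.hu' h h2 yy fun b => k.comm1 h (c _) (c b)

theorem hz : k.σY (-1) ∉ center Y := fun c =>
  z_act h fun b => (k.cen_z h (g := k.ρH b) (mem_center_iff.1 c _)).symm

theorem ind {g : H} (h2 : ∃ n : ℕ, (g : G) ^ 2 ^ n = 1) (c : Commute (π g) (k.σY (-1))) :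
    ∃ M, Ind σ (g : G) M :=
  let ⟨M, _, e, _⟩ := h.c1.ind2 (k.norm1 h c) h2
  ⟨M, e⟩

/-- The image of `z` is 2-central. -/
theorem syl [Finite Y] : ∃ S : Sylow 2 Y, (S : Subgroup Y) ≤ Cen (k.σY (-1)) := by
  obtain ⟨a, w, Q, hQ, ha, hw, aa, an⟩ := exists_q8 h.c1.odd
  obtain ⟨S, hS⟩ := (hQ.map k.σY).exists_le_sylow
  have hz : k.σY (-1) ∈ (S : Subgroup Y) := hS ⟨_, aa ▸ mul_mem ha ha, rfl⟩
  obtain ⟨c, c1, cc, hc⟩ := central_inv S.isPGroup' hz fun e => k.hz h (e ▸ one_mem _)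
  obtain ⟨g, h2, rfl⟩ := k.lift cc
  obtain ⟨M, hM⟩ := k.ind h h2 (hc _ hz)
  have key : ∀ b ∈ Q, M * tG b = tG b * M := fun b hb => cjM_eq_iff.1 (h.c1.inj (by
    rw [← hM, (k.comm1 h (hc _ hz) (hc _ (hS ⟨b, hb, rfl⟩))).eq, mul_inv_cancel_right]))
  have e := (k.hu' h h2 cc (hM.comm_of_scal
    (scal_of_comm h.c1.odd an (key w hw) (key a ha)))).resolve_left c1
  exact ⟨S, fun y hy => mem_Cen.2 (e ▸ hc y hy)⟩

theorem tr0 {g : H} (h2 : ∃ n : ℕ, (g : G) ^ 2 ^ n = 1) (gg : π g * π g = 1) (n1 : π g ≠ 1)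
    (n2 : π g ≠ k.σY (-1)) {M : GL (Fin 2) F} (e : Ind σ (g : G) M) : tr M = 0 :=
  trace_eq_zero_of_sq ((e.mul e).isScal h.c1.inj (k.k1 (g * g) (by rw [map_mul, gg])).1)
    fun hs => (k.hu' h h2 gg (e.comm_of_scal hs)).elim n1 n2

/-- The case of an inner action. -/
theorem four_sq {g g' : H} (h2 : ∃ n : ℕ, (g : G) ^ 2 ^ n = 1) (h2' : ∃ n : ℕ, (g' : G) ^ 2 ^ n = 1)
    (gg : π g * π g = 1) (gg' : π g' * π g' = 1) (c : Commute (π g) (π g'))
    (cz' : Commute (π g') (k.σY (-1))) (n1 : π g ≠ 1) (n2 : π g ≠ k.σY (-1)) (n1' : π g' ≠ 1)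
    (n2' : π g' ≠ k.σY (-1)) {M : GL (Fin 2) F} (e : Ind σ (g : G) M) (hM : IsSquare (dt M)) :
    π g * π g' = 1 ∨ π g * π g' = k.σY (-1) := by
  obtain ⟨M', e'⟩ := k.ind h h2' cz'
  obtain ⟨d, B, rfl⟩ := exists_scal_mul hM
  replace e := e.of_scal_mul (isScal_scalGL d)
  have t := k.tr0 h h2 gg n1 n2 e
  have t' := k.tr0 h h2' gg' n1' n2' e'
  have BB : B * B = -1 := Cl.L2.sl_mul_self_eq_neg_one t
  have ha : ∀ b, Commute ((σ B)⁻¹ * g) (σ b) := fun b =>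
    ((Ind.map σ B).inv.mul e).comm_of_scal (by rw [inv_mul_cancel]; exact isScal_one) b
  have cB : Commute (σ B)⁻¹ (g : G) := by
    have := (Commute.refl (σ B)).mul_left (ha B)
    rw [mul_inv_cancel_left] at this
    exact this.symm.inv_left
  have ca := h.f2 (k.cen_z h cz') (k.hx g' g'.2) h2' ha
    ((h.xσ B).symm.inv_left.mul_left (k.hx g g.2)) (two_mul cB ⟨2, by
      rw [inv_pow, pow_four, ← map_mul, BB, h.c1.zz, inv_one]⟩ h2)
  have c1 : Commute (π g') (k.σY B) := by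
    have c2 : Commute (π g') (π ((k.σH B)⁻¹ * g)) :=
      (show Commute g' ((k.σH B)⁻¹ * g) from Subtype.ext ca).map π
    have := (c2.mul_right c.symm.inv_right).inv_right
    simpa [σY_apply] using this
  have c2 : M' * tG B = tG B * M' := cjM_eq_iff.1 (h.c1.inj (by
    rw [← e', (k.comm1 h cz' c1).eq, mul_inv_cancel_right]))
  obtain ⟨d, rfl⟩ := eq_of_comm h.c1.odd t t' c2.symm
  have e'' := e.mul (e'.of_scal_mul (isScal_scalGL d))
  refine k.hu h _ (mul_sq c gg gg') fun b => ?_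
  rw [← map_mul]
  refine (show Commute (g * g') (k.σH b) from Subtype.ext (e''.comm_of_scal ?_ b)).map π
  exact isScal_sq_of_trace t

theorem four {y y' : Y} (yy : y * y = 1) (yy' : y' * y' = 1) (c : Commute y y')
    (cz : Commute y (k.σY (-1))) (cz' : Commute y' (k.σY (-1))) (n1 : y ≠ 1) (n2 : y ≠ k.σY (-1))
    (n1' : y' ≠ 1) (n2' : y' ≠ k.σY (-1)) : y * y' = 1 ∨ y * y' = k.σY (-1) := by
  obtain ⟨g, h2, rfl⟩ := k.lift yy
  obtain ⟨g', h2', rfl⟩ := k.lift yy'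
  obtain ⟨M, e⟩ := k.ind h h2 cz
  obtain ⟨M', e'⟩ := k.ind h h2' cz'
  by_cases s1 : IsSquare (dt M)
  · exact k.four_sq h h2 h2' yy yy' c cz' n1 n2 n1' n2' e s1
  by_cases s2 : IsSquare (dt M')
  · rw [c.eq]
    exact k.four_sq h h2' h2 yy' yy c.symm cz n1' n2' n1 n2 e' s2
  by_contra n
  rw [not_or] at n
  have yy'' := mul_sq c yy yy'
  obtain ⟨g'', h2'', e2⟩ := k.lift yy''
  have e'' : Ind σ (g'' : G) (M * M') := by
    have := (Ind.of_comm (M := 1) (k.k1 (g'' * (g * g')⁻¹) (by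
      rw [map_mul, map_inv, map_mul, e2, mul_inv_cancel])).1 isScal_one).mul (e.mul e')
    simpa [mul_assoc] using this
  have := k.four_sq h h2'' h2' (e2 ▸ yy'') yy' (e2 ▸ c.mul_left (Commute.refl _)) cz'
    (e2 ▸ n.1) (e2 ▸ n.2) n1' n2' e'' (by
      simpa [dt] using Cl.L2.isSquare_mul_of_not s1 s2)
  rw [e2, mul_assoc, yy', mul_one] at this
  exact this.elim n1 n2

include k in
theorem rk [Finite Y] : Cfsg.PRankLE 2 2 Y := fun V hV h2 => by
  classical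
  obtain ⟨S, hS⟩ := k.syl h
  obtain ⟨T, hT⟩ := (pg_iff.2 fun v hv => ⟨1, by rw [pow_one, h2 v hv]⟩ : IsPGroup 2 V).exists_le_sylow
  obtain ⟨d, rfl⟩ := MulAction.exists_smul_eq Y T S
  have hz : ∀ v ∈ V, Commute (d * v * d⁻¹) (k.σY (-1)) := fun v hv =>
    (mem_Cen.1 (hS (smul_mem_pointwise_smul _ (MulAut.conj d) _ (hT hv)))).symm
  have hs : ∀ v ∈ V, d * v * d⁻¹ * (d * v * d⁻¹) = 1 := fun v hv => by
    rw [conj_mul, ← pow_two, h2 v hv]; group
  obtain ⟨w, hw⟩ : ∃ w, ∀ v ∈ V, d * v * d⁻¹ ∈ ({1, k.σY (-1), w, w * k.σY (-1)} : Finset Y) := by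
    by_cases e : ∃ w ∈ V, d * w * d⁻¹ ≠ 1 ∧ d * w * d⁻¹ ≠ k.σY (-1)
    · obtain ⟨w, hw, n1, n2⟩ := e
      refine ⟨d * w * d⁻¹, fun v hv => ?_⟩
      by_cases m1 : d * v * d⁻¹ = 1
      · simp [m1]
      by_cases m2 : d * v * d⁻¹ = k.σY (-1)
      · simp [m2]
      have c : Commute w v := congrArg Subtype.val (hV.is_comm.comm ⟨w, hw⟩ ⟨v, hv⟩)
      rcases k.four h (hs w hw) (hs v hv) (c.map (MulAut.conj d)) (hz w hw) (hz v hv) n1 n2 m1 m2
        with e | e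
      · rw [mul_left_cancel (e.trans (hs w hw).symm)]; simp
      · have : d * v * d⁻¹ = d * w * d⁻¹ * k.σY (-1) := by
          rw [← e, ← mul_assoc (d * w * d⁻¹) (d * w * d⁻¹), hs w hw, one_mul]
        rw [this]; simp
    · push Not at e
      refine ⟨1, fun v hv => ?_⟩
      by_cases m1 : d * v * d⁻¹ = 1
      · simp [m1]
      · simp [e v hv m1]
  have := Nat.card_le_card_of_injective (fun v : V => (⟨_, hw v v.2⟩ :
    ({1, k.σY (-1), w, w * k.σY (-1)} : Finset Y))) fun v v' e =>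
      Subtype.ext (mul_left_cancel (mul_right_cancel (congrArg Subtype.val e)))
  rw [Nat.card_eq_fintype_card (α := ({1, k.σY (-1), w, w * k.σY (-1)} : Finset Y)),
    Fintype.card_coe] at this
  exact this.trans Finset.card_le_four

end Sec

end RkX

theorem Cfg.rk (h : Cfg σ ρ s r x) : ∃ (Y : Type u) (_ : Group Y) (_ : Finite Y) (_ : IsSimpleGroup Y)
    (φ : ↥(σ.range ⊔ ρ.range) →* Y), Pr (jl σ ρ) (jr σ ρ) φ := by
  obtain ⟨H, Y, _, π, k⟩ := RkX.exists_sec h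
  have : Finite Y := Finite.of_surjective π k.surj
  obtain ⟨L, hL, hs, h1⟩ := exists_simple h.c1.odd h.c1.big (k.inj1 h) k.odd (k.rk h) (k.n1 h)
    (k.hu h) (k.hz h)
  have h2 : k.ρY.range ≤ L := by
    rintro _ ⟨b, rfl⟩
    obtain ⟨g, -, e⟩ := k.exists_conj h
    obtain ⟨a, e⟩ := e b
    exact e ▸ hL.conj_mem _ (h1 ⟨a, rfl⟩) _
  have hR : σ.range ⊔ ρ.range ≤ H := sup_le (by rintro _ ⟨b, rfl⟩; exact k.hσ b)
    (by rintro _ ⟨b, rfl⟩; exact k.hρ b)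
  have hgen : (jl σ ρ).range ⊔ (jr σ ρ).range = ⊤ :=
    map_injective (σ.range ⊔ ρ.range).subtype_injective (by
      rw [Subgroup.map_sup, ← MonoidHom.range_comp, ← MonoidHom.range_comp, ← MonoidHom.range_eq_map,
        range_subtype]
      rfl)
  have hle : ∀ g : ↥(σ.range ⊔ ρ.range), π.comp (inclusion hR) g ∈ L := fun g =>
    (hgen.ge.trans (sup_le (by rintro _ ⟨b, rfl⟩; exact h1 ⟨b, rfl⟩)
      (by rintro _ ⟨b, rfl⟩; exact h2 ⟨b, rfl⟩)) : ⊤ ≤ L.comap (π.comp (inclusion hR))) (mem_top g)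
  have hn : ∀ (τ : SL(2, F) →* L) (τ' : SL(2, F) →* Y), (∀ a, (τ a : Y) = τ' a) →
      Cen (τ' (-1)) ≤ 𝐍[τ'.range] → Cen (τ (-1)) ≤ 𝐍[τ.range] := fun τ τ' e n y hy => by
    refine mem_norm_of_cj_le (cj_le_iff.2 ?_)
    rintro _ ⟨a, rfl⟩
    have c : Commute (τ' (-1)) (y : Y) := by rw [← e]; exact (mem_Cen.1 hy).map L.subtype
    obtain ⟨b, hb⟩ := conj_mem_of_norm (n (mem_Cen.2 c)) (MonoidHom.mem_range.2 ⟨a, rfl⟩)
    exact ⟨b, Subtype.ext (by simpa [e] using hb)⟩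
  refine ⟨L, inferInstance, inferInstance, hs, (π.comp (inclusion hR)).codRestrict L hle, h.c1.odd,
    h.c1.big, hgen, fun g hg => ?_, fun a b e => k.inj1 h (congrArg Subtype.val e),
    fun a b e => k.inj2 h (congrArg Subtype.val e), Subtype.ext (RkX.zt h).symm, fun e => ?_,
    hn (((π.comp (inclusion hR)).codRestrict L hle).comp (jl σ ρ)) k.σY (fun _ => rfl) (k.n1 h),
    hn (((π.comp (inclusion hR)).codRestrict L hle).comp (jr σ ρ)) k.ρY (fun _ => rfl) (k.n2 h),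
    fun V hV h2 => ?_⟩
  · obtain ⟨c1, c2⟩ := k.k1 (inclusion hR g) (congrArg Subtype.val hg)
    refine mem_center_iff.2 fun y => Subtype.ext ?_
    exact (mem_Cen.1 ((sup_le (by rintro _ ⟨b, rfl⟩; exact mem_Cen.2 (c1 b))
      (by rintro _ ⟨b, rfl⟩; exact mem_Cen.2 (c2 b)) : σ.range ⊔ ρ.range ≤ Cen (g : G)) y.2)).symm
  · have e' : k.σY (-1) = k.ρY (-1) := congrArg Subtype.val e
    refine RkX.t_act h fun b => ?_
    have := ((k.k1 (k.ρH (-1) * (k.σH (-1))⁻¹) (by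
      rw [map_mul, map_inv, ← k.σY_apply, ← k.ρY_apply, e', mul_inv_cancel])).1 b).mul_left
      (h.c1.σ_z b).symm
    simpa using this
  · rw [← card_map_of_injective L.subtype_injective]
    refine k.rk h _ inferInstance ?_
    rintro _ ⟨a, ha, rfl⟩
    rw [← map_pow, h2 a ha, map_one]

end Cfsg.Agent.L4
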