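import Mathlib
import Cfsg.Agent.L4.Basic

/-! The odd part of the torus. -/

set_option autoImplicit false
set_option linter.unusedSectionVars false

namespace Cfsg.Agent.L4

open Cfsg.Agent.Loc.Mss Cfsg.Agent.GW Subgroup Cfsg.Agent.P4 Cfsg.Agent.G2T Cfsg.Agent.Cl.GL2 Cfsg.Agent.Inv
open scoped MatrixGroups

variable {G : Type*} [Group G] [Finite G] {F : Type} [Field F] [Fintype F]
  {σ ρ μ : SL(2, F) →* G} {v w : G}

namespace TorA

theorem odd_mul {H : Type*} [Group H] {a b : H} (c : Commute a b) (ha : Odd (orderOf a)) (hb : Odd (orderOf b)) :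
    Odd (orderOf (a * b)) := (ha.mul hb).of_dvd_nat c.orderOf_mul_dvd_mul_orderOf

theorem odd_map {H K : Type*} [Group H] [Group K] (f : H →* K) {a : H} (ha : Odd (orderOf a)) :
    Odd (orderOf (f a)) := ha.of_dvd_nat (orderOf_map_dvd f a)

theorem sq_mul {H : Type*} [Group H] {a b : H} (c : Commute a b) : a * b * (a * b) = a * a * (b * b) :=
  c.symm.mul_mul_mul_comm a b

theorem comm_of_sq {H : Type*} [Group H] {y g : H} (ho : Odd (orderOf y)) (h : Commute (y * y) g) : Commute y g := by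
  obtain ⟨m, hm⟩ := exists_pow_eq_self_of_coprime (x := y) (n := 2) (Nat.coprime_two_left.2 ho)
  rw [← hm, sq]
  exact h.pow_left m

theorem eq_one_of_odd {H : Type*} [Group H] {c : H} (ho : Odd (orderOf c)) {n : ℕ} (h : c ^ 2 ^ n = 1) : c = 1 :=
  orderOf_eq_one_iff.1 (((Nat.coprime_two_right.2 ho).pow_right n).eq_one_of_dvd (orderOf_dvd_of_pow_eq_one h))

theorem ne_neg (h2 : (2 : F) ≠ 0) {a b : SL(2, F)} (ha : Odd (orderOf a)) (hb : Odd (orderOf b)) : a ≠ -b := fun e => by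
  have h1 : Odd (orderOf (a * b⁻¹)) := odd_mul (by rw [e]; exact (Commute.refl b).inv_right.neg_left) ha
    (by rwa [orderOf_inv])
  rw [e, neg_mul, mul_inv_cancel] at h1
  exact SLF.neg_one_ne_one h2 (eq_one_of_odd h1 (n := 1) (by simp))

theorem not_scal (h2 : (2 : F) ≠ 0) {M M' : GL (Fin 2) F} (h : Anti M M') : ¬ IsScal (M : Mat F) := fun e => by
  have h1 : (M : Mat F) * M' = M' * M := congrArg Units.val (e.gl_comm M')
  rw [Anti, h1, eq_neg_iff_add_eq_zero, ← two_smul F, smul_eq_zero] at h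
  exact (M' * M).ne_zero (h.resolve_left h2)

theorem anti_inv (hF : Odd (Fintype.card F)) {M M' : GL (Fin 2) F} (h : Anti M M') {k : SL(2, F)}
    (hk : tG k ∈ torus M) : cjM M' k = k⁻¹ := by
  obtain ⟨a, b, e⟩ := (comm_iff_of_not_isScal (not_scal (SLF.two_ne_zero_of_odd hF) h) (k : Mat F)).1
    (congrArg Units.val (mem_centralizer_singleton_iff.1 hk))
  have ht : (M : Mat F).trace = 0 := tr_of_anti hF h
  rw [cjM_eq_iff', Matrix.SpecialLinearGroup.coe_inv, adjugate_eq, e]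
  simp only [Matrix.trace_add, Matrix.trace_smul, ht, Matrix.trace_one, mul_add, sub_mul, add_mul, mul_smul_comm,
    smul_mul_assoc, show (M : Mat F) * M' = _ from h, mul_one, one_mul, Fintype.card_fin, smul_eq_mul]
  module

/-- The action of a four-group `⟨t, n⟩` on the two factors. -/
structure Vx (σ : SL(2, F) →* G) (s t n : G) : Prop where
  cz : Cz σ s
  tN : t ∈ 𝐍[σ.range]
  nN : n ∈ 𝐍[σ.range]
  tt : t * t = 1
  nn : n * n = 1
  ts : Commute t s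
  ns : Commute n s
  tn : Commute t n
  h1 : t ∉ Zt σ s
  h2 : n ∉ Zt σ s
  h3 : t * n ∉ Zt σ s

namespace Vx

variable {s t n : G} (h : Vx σ s t n)
include h

theorem symm : Vx (tw σ s) s t n :=
  ⟨h.cz.symm, h.cz.norm_tw.2 h.tN, h.cz.norm_tw.2 h.nN, h.tt, h.nn, h.ts, h.ns, h.tn, h.cz.Zt_symm ▸ h.h1,
    h.cz.Zt_symm ▸ h.h2, h.cz.Zt_symm ▸ h.h3⟩

theorem act {b : G} (bs : Commute b s) (hb : b ∉ Zt σ s) : ¬ ∀ a, Commute b (σ a) := fun e =>
  hb (h.cz.mem_Zt_of_swap h.cz.sz h.cz.s_not_mem bs e)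

theorem mat : ∃ M M', Ind σ t M ∧ Ind σ n M' ∧ Anti M M' := by
  obtain ⟨M, -, e, -⟩ := h.cz.ind_inv h.tN h.tt
  obtain ⟨M', -, e', -⟩ := h.cz.ind_inv h.nN h.nn
  have t1 := h.cz.tr_zero h.tt e (h.act h.ts h.h1)
  have t2 := h.cz.tr_zero h.nn e' (h.act h.ns h.h2)
  refine ⟨M, M', e, e', (comm_or_anti h.cz.odd t1 fun a => h.cz.inj ?_).resolve_left fun c => ?_⟩
  · rw [← cjM_mul, ← cjM_mul, ← e.mul e', ← e'.mul e, h.tn.eq]
  obtain ⟨u, rfl⟩ := eq_of_comm h.cz.odd t1 t2 c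
  refine h.act (h.ts.mul_left h.ns) h.h3 fun a => ?_
  have := (e.inv.mul (e'.of_scal_mul (isScal_scalGL u))).comm_of_scal (by rw [inv_mul_cancel]; exact isScal_one) a
  rwa [inv_eq_of_mul_eq_one_right h.tt] at this

theorem inv1 {k : SL(2, F)} (hk : Commute t (σ k)) : n * σ k * n⁻¹ = σ k⁻¹ := by
  obtain ⟨M, M', e, e', a⟩ := h.mat
  rw [e', anti_inv h.cz.odd a ((e.comm_iff h.cz.inj).1 hk)]

theorem comm1 {k k' : SL(2, F)} (hk : Commute t (σ k)) (hk' : Commute t (σ k')) : Commute k k' := by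
  obtain ⟨M, M', e, -, a⟩ := h.mat
  exact tG_inj (by
    simp only [map_mul]
    exact torus_comm (not_scal h.cz.two_ne a) ((e.comm_iff h.cz.inj).1 hk) ((e.comm_iff h.cz.inj).1 hk'))

theorem tw_comm {k : SL(2, F)} (hk : Commute t (σ k)) : Commute t (tw σ s k) :=
  (h.ts.mul_right hk).mul_right h.ts.inv_right

theorem inner {y : G} (ho : Odd (orderOf y)) (hz : Commute y (σ (-1))) (hi : n * y * n⁻¹ = y⁻¹) :
    ∃ k, Odd (orderOf k) ∧ ∀ a, y * σ a * y⁻¹ = σ (k * a * k⁻¹) := by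
  obtain ⟨α, o, e⟩ := h.cz.exists_aut_odd hz ho
  obtain ⟨-, M', -, e', -⟩ := h.mat
  obtain ⟨k, hk, e1⟩ := aut_inv h.cz.odd (M := M') α o fun a => h.cz.inj (by
    rw [← e, ← e', ← e, ← e']
    calc _ = y * (n * y * n⁻¹) * n * σ a * n⁻¹ * (n * y * n⁻¹)⁻¹ * y⁻¹ := by group
      _ = _ := by rw [hi]; group)
  exact ⟨k, hk, fun a => by rw [e, e1]⟩

/-- Elements of odd order of `C(z, t)` inverted by `n` lie in `K`. -/
theorem inH {y : G} (ho : Odd (orderOf y)) (hz : Commute y (σ (-1))) (ht : Commute t y) (hi : n * y * n⁻¹ = y⁻¹) :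
    ∃ a b, Odd (orderOf a) ∧ Odd (orderOf b) ∧ Commute t (σ a) ∧ Commute t (tw σ s b) ∧ y = σ a * tw σ s b := by
  obtain ⟨a, ha, e1⟩ := h.inner ho hz hi
  obtain ⟨b, hb, e2⟩ := h.symm.inner ho (h.cz.tw_z ▸ hz) hi
  obtain ⟨M, M', m1, m2, -⟩ := h.mat
  have m3 := h.cz.ind_tw h.ts m1
  have m4 := h.cz.ind_tw h.ns m2
  have k : ∀ {g x : G}, y * x * y⁻¹ = g * x * g⁻¹ → Commute (g⁻¹ * y) x := fun {g x} e => by
    calc _ = g⁻¹ * (y * x * y⁻¹) * y := by group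
      _ = _ := by rw [e]; group
  have hc : (σ a * tw σ s b)⁻¹ * y ∈ Zt σ s := mem_Zt.2 ⟨fun x => k (by rw [e1, h.cz.ind_K, cjM_tG]),
    fun x => k (by rw [e2, h.cz.ind_K', cjM_tG])⟩
  have ou := odd_mul (h.cz.comm a b) (odd_map σ ha) (odd_map _ hb)
  have cu : Commute ((σ a * tw σ s b)⁻¹ * y) (σ a * tw σ s b) := ((mem_Zt.1 hc).1 a).mul_right ((mem_Zt.1 hc).2 b)
  have ey : y = σ a * tw σ s b := by
    have c1 := (h.cz.two n h.nN ⟨1, by rw [pow_one, sq, h.nn]⟩ _ hc).eq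
    have e3 : n * (σ a * tw σ s b) * n⁻¹ = σ (cjM M' a) * tw σ s (cjM M' b) := by rw [← m2, ← m4, conj_mul]
    have oc : Odd (orderOf ((σ a * tw σ s b)⁻¹ * y)) := odd_mul (by
      have := ((Commute.refl (σ a * tw σ s b)).mul_right cu.symm).inv_left
      rwa [mul_inv_cancel_left] at this) (by rwa [orderOf_inv]) ho
    obtain ⟨c, rfl⟩ : ∃ c, y = σ a * tw σ s b * c := ⟨(σ a * tw σ s b)⁻¹ * y, by group⟩
    rw [inv_mul_cancel_left] at hc cu c1 oc
    have e4 : c * c = σ ((cjM M' a)⁻¹ * a⁻¹) * tw σ s ((cjM M' b)⁻¹ * b⁻¹) := by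
      rw [← h.cz.mul_mul, ← h.cz.mul_inv, ← h.cz.mul_inv, ← e3]
      calc _ = (n * (σ a * tw σ s b) * n⁻¹)⁻¹ * (n * (σ a * tw σ s b) * (n⁻¹ * c * n) * n⁻¹) * c := by group
        _ = (n * (σ a * tw σ s b) * n⁻¹)⁻¹ * (σ a * tw σ s b * c)⁻¹ * c := by
          rw [mul_assoc n⁻¹, ← c1, inv_mul_cancel_left, mul_assoc n (σ a * tw σ s b) c, hi]
        _ = _ := by rw [← cu.eq]; group
    have e5 := h.cz.K_mem_Zt (e4 ▸ mul_mem hc hc)
    have e6 : c ^ 2 ^ 2 = 1 := by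
      rw [show c ^ 2 ^ 2 = c * c * (c * c) by simp [pow_succ, mul_assoc], e4, h.cz.mul_mul]
      rcases e5 with ⟨e | e, e' | e'⟩ <;> simp [e, e']
    rw [eq_one_of_odd oc e6, mul_one]
  have e7 : σ (cjM M a) * tw σ s (cjM M b) = σ a * tw σ s b := by
    rw [← m1, ← m3, conj_mul, ← ey, ht.eq, mul_inv_cancel_right]
  obtain ⟨e8, e9⟩ := (h.cz.eq_iff.1 e7).resolve_right fun e =>
    ne_neg h.cz.two_ne (odd_map (cjE M).toMonoidHom ha) ha e.1
  exact ⟨a, b, ha, hb, mul_inv_eq_iff_eq_mul.1 (by rw [m1, e8]), mul_inv_eq_iff_eq_mul.1 (by rw [m3, e9]), ey⟩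

theorem commH {y y' : G} (ho : Odd (orderOf y)) (hz : Commute y (σ (-1))) (ht : Commute t y)
    (hi : n * y * n⁻¹ = y⁻¹) (ho' : Odd (orderOf y')) (hz' : Commute y' (σ (-1))) (ht' : Commute t y')
    (hi' : n * y' * n⁻¹ = y'⁻¹) : Commute y y' := by
  obtain ⟨a, b, -, -, h1, h2, rfl⟩ := h.inH ho hz ht hi
  obtain ⟨a', b', -, -, h3, h4, rfl⟩ := h.inH ho' hz' ht' hi'
  rw [Commute, SemiconjBy, h.cz.mul_mul, h.cz.mul_mul, (h.comm1 h1 h3).eq, (h.symm.comm1 h2 h4).eq]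

theorem inv2 {a b : SL(2, F)} (ha : Commute t (σ a)) (hb : Commute t (tw σ s b)) :
    n * (σ a * tw σ s b) * n⁻¹ = (σ a * tw σ s b)⁻¹ := by
  rw [← conj_mul, h.inv1 ha, h.symm.inv1 hb, h.cz.mul_inv]

/-- An element of odd order centralising `t`, `n` and the odd part of the torus centralises the factor. -/
theorem triv {y : G} (ho : Odd (orderOf y)) (hz : Commute y (σ (-1))) (ht : Commute y t) (hn : Commute y n)
    (hk : ∀ k, Odd (orderOf k) → Commute t (σ k) → Commute y (σ k)) (a : SL(2, F)) : Commute y (σ a) := by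
  obtain ⟨α, o, e⟩ := h.cz.exists_aut_odd hz ho
  have k : ∀ m : ℕ, ∀ c, Commute t (σ c) → Odd (orderOf (c ^ 2 ^ m)) → Commute y (σ c) := fun m => by
    induction m with
    | zero => exact fun c hc oc => hk c (by simpa using oc) hc
    | succ m ih =>
      intro c hc oc
      have h1 := ih (c * c) (map_mul σ c c ▸ hc.mul_right hc) (by rwa [← sq, ← pow_mul, ← pow_succ'])
      have h2 : α c * α c = c * c := h.cz.inj (by rw [← map_mul, ← e, h1.eq, mul_inv_cancel_right])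
      have h3 := h.comm1 (k := α c) (e c ▸ (ht.symm.mul_right hc).mul_right ht.symm.inv_right) hc
      rcases SLF.eq_of_mul_self_eq_one h.cz.two_ne (g := α c * c⁻¹) (by
        rw [mul_assoc, ← mul_assoc c⁻¹, ← h3.inv_right.eq, mul_assoc, ← mul_assoc, h2]; group) with e1 | e1
      · exact mul_inv_eq_iff_eq_mul.1 (by rw [e, mul_inv_eq_one.1 e1])
      · refine comm_of_sq ho (mul_inv_eq_iff_eq_mul.1 ?_)
        have e2 : y * σ c * y⁻¹ = σ (-1) * σ c := by rw [e, mul_inv_eq_iff_eq_mul.1 e1, map_mul]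
        calc _ = y * (y * σ c * y⁻¹) * y⁻¹ := by group
          _ = σ (-1) * (y * σ c * y⁻¹) := by
            conv_lhs => rw [e2, ← mul_assoc, hz.eq]
            group
          _ = _ := by rw [e2, ← mul_assoc, h.cz.zz, one_mul]
  obtain ⟨M, M', m1, m2, an⟩ := h.mat
  have : Fact (Nat.Prime 2) := ⟨Nat.prime_two⟩
  refine mul_inv_eq_iff_eq_mul.1 ((e a).trans (congrArg σ
    (aut_triv h.cz.odd h.cz.big α o an (fun c hc => h.cz.inj ?_) (fun a => h.cz.inj ?_) a)))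
  · obtain ⟨m, hm⟩ := exists_pow_coprime (p := 2) c
    rw [← e, (k m c ((m1.comm_iff h.cz.inj).2 (mem_centralizer_singleton_iff.2 hc))
      (Nat.coprime_two_right.1 hm)).eq, mul_inv_cancel_right]
  · rw [← e, ← m2, ← m2, ← e]
    calc _ = y * n * σ a * (y * n)⁻¹ := by group
      _ = _ := by rw [hn.eq]; group

end Vx

variable (h : Tri σ ρ μ v w)
include h

theorem wz : Commute w (σ (-1)) := h.c1.z_of_norm h.w1
theorem vt : Commute v (ρ (-1)) := h.c2.z_of_norm h.v2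
theorem tz : Commute (ρ (-1)) (σ (-1)) := h.c1.z_of_norm h.t1

theorem symm : Tri ρ σ μ w v where
  c1 := h.c2
  c2 := h.c1
  c3 := h.c3.rebase h.c2.ss (h.zt ▸ (wz h).mul_right h.c2.sz) fun e =>
    h.c3.s_not_mem ((mul_mem_cancel_right e).1 h.vw3)
  zt := h.zt.trans (tz h).eq.symm
  ne := h.ne.symm
  vw := h.vw.symm
  t1 := h.z2
  w1 := h.v2
  z2 := h.t1
  v2 := h.w1
  z3 := (mul_mem_cancel_left h.z3).1 (h.zt ▸ h.c3.σ_norm _)
  vw3 := h.vw.eq ▸ h.vw3

theorem vx1 : Vx σ v (ρ (-1)) w where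
  cz := h.c1
  tN := h.t1
  nN := h.w1
  tt := h.c2.zz
  nn := h.c2.ss
  ts := (vt h).symm
  ns := h.vw.symm
  tn := h.c2.sz.symm
  h1 := fun e => (h.c1.uniq _ e h.c2.zz).elim h.c2.z_ne h.ne
  h2 := fun e => h.c2.s_not_mem ((h.c1.uniq _ e h.c2.ss).elim (fun e => e ▸ one_mem _) fun e => e ▸ h.z2)
  h3 := fun e => h.c2.s_not_mem ((mul_mem_cancel_left (h.c2.σ_norm (-1))).1 ((h.c1.uniq _ e (by
    rw [sq_mul h.c2.sz.symm, h.c2.zz, h.c2.ss, one_mul])).elim (fun e => e ▸ one_mem _) fun e => e ▸ h.z2))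

theorem vx3 : Vx μ v (σ (-1)) (v * w) := by
  have q : v * w * (v * w) = 1 := by rw [sq_mul h.vw, h.c1.ss, h.c2.ss, one_mul]
  have c := h.c1.sz.mul_left (wz h)
  have n : v * w ∉ 𝐍[σ.range] := fun e => h.c1.s_not_mem ((mul_mem_cancel_right h.w1).1 e)
  have m : μ (-1) ∈ 𝐍[σ.range] := h.zt ▸ mul_mem (h.c1.σ_norm _) h.t1
  exact ⟨h.c3, h.z3, h.vw3, h.c1.zz, q, h.c1.sz.symm, (Commute.refl v).mul_left h.vw.symm, c.symm,
    fun e => (h.c3.uniq _ e h.c1.zz).elim h.c1.z_ne fun e => h.c2.z_ne (by rwa [h.zt, left_eq_mul] at e),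
    fun e => n ((h.c3.uniq _ e q).elim (fun e => e ▸ one_mem _) fun e => e ▸ m),
    fun e => n ((mul_mem_cancel_left (h.c1.σ_norm (-1))).1 ((h.c3.uniq _ e (by
      rw [sq_mul c.symm, h.c1.zz, q, one_mul])).elim (fun e => e ▸ one_mem _) fun e => e ▸ m))⟩

/-- The diagonal torus element at `z` centralises both factors at `t`. -/
theorem tb {k : SL(2, F)} (ho : Odd (orderOf k)) (hk : Commute (ρ (-1)) (σ k)) : σ k * tw σ v k ∈ Zt ρ w := by
  have x1 := vx1 h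
  have x2 := vx1 (symm h)
  have x3 := vx3 h
  have oy := odd_mul (h.c1.comm k k) (odd_map σ ho) (odd_map _ ho)
  have yz := h.c1.K_z k k
  have yt := hk.mul_right (x1.tw_comm hk)
  have yv : v * (σ k * tw σ v k) * v⁻¹ = σ k * tw σ v k := h.c1.conj_s k k
  have yw := x1.inv2 hk (x1.tw_comm hk)
  generalize σ k * tw σ v k = y at oy yz yt yv yw
  have c : ∀ a, Commute y (ρ a) := x2.triv oy yt.symm yz (mul_inv_eq_iff_eq_mul.1 yv).symm fun a oa ha => by
    have ha' := x2.tw_comm ha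
    have p1 : Commute y (ρ a * tw ρ w a) := x3.commH oy (h.zt ▸ yz.mul_right yt.symm) yz.symm (by
        calc _ = v * (w * y * w⁻¹) * v⁻¹ := by group
          _ = _ := by rw [yw, ← conj_inv, yv])
      (odd_mul (h.c2.comm a a) (odd_map ρ oa) (odd_map _ oa))
      (h.zt ▸ (ha.mul_right ha').symm.mul_right (h.c2.K_z a a)) (ha.mul_right ha') (by
        rw [← x2.inv2 ha ha']
        conv_rhs => rw [← h.c2.conj_s a a]
        group)
    have p2 : Commute y (ρ a * tw ρ w a⁻¹) := x1.commH oy yz yt yw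
      (odd_mul (h.c2.comm a _) (odd_map ρ oa) (odd_map _ (by rwa [orderOf_inv])))
      (ha.mul_right (map_inv (tw ρ w) a ▸ ha'.inv_right)).symm (h.c2.K_z _ _).symm (by
        rw [h.c2.conj_s, h.c2.mul_inv, inv_inv])
    have := p1.mul_right p2
    rw [h.c2.mul_mul, mul_inv_cancel, map_one, mul_one, map_mul] at this
    exact (comm_of_sq (odd_map ρ oa) this.symm).symm
  refine mem_Zt.2 ⟨c, fun a => ?_⟩
  have := (c a).inv_left.map (MulAut.conj w)
  rwa [MulAut.conj_apply, conj_inv.symm, yw, inv_inv] at this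

end TorA

open TorA

theorem Tri.torA (h : Tri σ ρ μ v w) {k : SL(2, F)} (k1 : k ≠ 1) (ho : Odd (orderOf k))
    (hk : Commute (ρ (-1)) (σ k)) : ∃ x,
    (∃ h, h ≠ 1 ∧ h ≠ -1 ∧ Commute (ρ (-1)) (tw σ v h) ∧ ∃ c ∈ Zt σ v, x = tw σ v h * c) ∧
    ∃ h, h ≠ 1 ∧ h ≠ -1 ∧ Commute (σ (-1)) (tw ρ w h) ∧ ∃ c ∈ Zt ρ w, x = tw ρ w h * c := by
  have x1 := vx1 h
  have x2 := vx1 (symm h)
  have o1 : Odd (orderOf (1 : SL(2, F))) := by simp
  have sq : ∀ {a : SL(2, F)}, Odd (orderOf a) → a ≠ 1 → a * a ≠ 1 ∧ a * a ≠ -1 := fun oa a1 =>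
    ⟨fun e => a1 (eq_one_of_odd oa (n := 1) (by simpa [pow_two] using e)),
      ne_neg h.c1.two_ne (odd_mul (Commute.refl _) oa oa) o1⟩
  have hk' := x1.tw_comm hk
  have hi : Commute (ρ (-1)) (σ k⁻¹) := map_inv σ k ▸ hk.inv_right
  have oi : Odd (orderOf k⁻¹) := by rwa [orderOf_inv]
  obtain ⟨a, b, oa, ob, ha, hb, e⟩ := x2.inH (odd_mul (h.c1.comm _ k) (odd_map σ oi) (odd_map _ ho))
    (hi.mul_right hk').symm (h.c1.K_z _ _).symm (by rw [h.c1.conj_s, h.c1.mul_inv, inv_inv])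
  have e1 := x1.inv2 hi hk'
  rw [e, h.c2.conj_s, h.c2.mul_inv, h.c2.eq_iff] at e1
  have oa' : Odd (orderOf a⁻¹) := by rwa [orderOf_inv]
  obtain rfl : b = a⁻¹ := (e1.resolve_right fun e => ne_neg h.c1.two_ne ob oa' e.1).1
  have a1 : a⁻¹ ≠ 1 := fun e2 => by
    rw [e2, inv_eq_one.1 e2, map_one, map_one, mul_one, h.c1.eq_one_iff] at e
    exact e.elim (fun e => k1 e.2) fun e => ne_neg h.c1.two_ne ho o1 e.2
  have d := tb h ho hk
  refine ⟨_, ⟨k * k, (sq ho k1).1, (sq ho k1).2, map_mul (tw σ v) k k ▸ hk'.mul_right hk', _,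
    inv_mem (tb (symm h) oa ha), rfl⟩, a⁻¹ * a⁻¹, (sq oa' a1).1, (sq oa' a1).2,
    map_mul (tw ρ w) _ _ ▸ hb.mul_right hb, _, d, ?_⟩
  have e2 : tw σ v (k * k) = σ k * tw σ v k * (σ k⁻¹ * tw σ v k) := by
    rw [h.c1.mul_mul, mul_inv_cancel, map_one, one_mul]
  rw [e2, e, mul_assoc, h.c2.mul_inv, h.c2.mul_mul, mul_inv_cancel, map_one, one_mul, ((mem_Zt.1 d).2 _).eq]

theorem Tri.f1A (h : Tri σ ρ μ v w) (hc : ∀ c ∈ Zt σ v, c * c ≠ σ (-1)) {a : G}
    (ha : ∀ b, Commute a (σ b)) (h2 : ∃ n : ℕ, a ^ 2 ^ n = 1) (hs : ∀ b, Commute (a * a) (ρ b)) :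
    a = 1 ∨ a = σ (-1) := by
  obtain ⟨b, c, hc', rfl⟩ := h.c1.eq_tw ha h2
  obtain ⟨n, hn⟩ := h2
  have cb := ((mem_Zt.1 hc').2 b).symm
  have k1 : ∀ m : ℕ, ∀ c ∈ Zt σ v, c ^ 2 ^ m = 1 → c = 1 ∨ c = σ (-1) := fun m => by
    induction m with
    | zero => exact fun c _ e => .inl (by simpa using e)
    | succ m ih =>
      exact fun c hc' e => h.c1.uniq c hc' ((ih _ (mul_mem hc' hc') (by
        rwa [← sq, ← pow_mul, ← pow_succ'])).resolve_right (hc c hc'))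
  rw [cb.mul_pow, ← map_pow] at hn
  have e1 := (h.c1.K_mem_Zt (a := 1) (b := b ^ 2 ^ n) (by
    rw [map_one, one_mul, eq_inv_of_mul_eq_one_left hn]; exact inv_mem (pow_mem hc' _))).2
  have e2 : b ^ 2 ^ (n + 1) = 1 := by rcases e1 with e | e <;> simp [pow_succ, pow_mul, e]
  have e3 : c * c = 1 := by
    rcases k1 (n + 1) c hc' (by
      have := congrArg (· ^ 2) hn
      beta_reduce at this
      rwa [(((mem_Zt.1 hc').2 _).symm.pow_right _).mul_pow, ← map_pow, ← pow_mul, ← pow_mul, ← pow_succ, e2, map_one, one_mul,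
        one_pow] at this) with e | e <;> simp [e, h.c1.zz]
  rw [sq_mul cb, e3, mul_one, ← map_mul] at hs
  have k2 : ∀ m : ℕ, ∀ d : SL(2, F), (∀ x, Commute (tw σ v d) (ρ x)) → d ^ 2 ^ m = 1 → d = 1 := fun m => by
    induction m with
    | zero => exact fun d _ e => by simpa using e
    | succ m ih =>
      intro d hd e
      refine (SLF.eq_of_mul_self_eq_one h.c1.two_ne (ih (d * d) (fun x => map_mul (tw σ v) d d ▸ (hd x).mul_left (hd x))
        (by rwa [← sq, ← pow_mul, ← pow_succ']))).resolve_right fun e => ?_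
      rw [e, h.c1.tw_z] at hd
      exact (vx1 (symm h)).act (wz h).symm (vx1 (symm h)).h1 hd
  have e4 := k2 n (b * b) hs (by rwa [← sq, ← pow_mul, ← pow_succ'])
  rcases SLF.eq_of_mul_self_eq_one h.c1.two_ne e4 with rfl | rfl <;> rcases h.c1.uniq c hc' e3 with rfl | rfl <;>
    simp [h.c1.tw_z, h.c1.zz]

/-- If the tori have no element of odd order and there is no field automorphism of odd order. -/
theorem Tri.zt_two (h : Tri σ ρ μ v w) (h5 : Fintype.card F = 5)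
    (_hi : ∃ a, a * a = -1 ∧ Commute (σ a) (ρ (-1))) (hi' : ∃ a, a * a = -1 ∧ Commute (ρ a) (σ (-1)))
    {c : G} (hc : c ∈ Zt σ v) (ho : Odd (orderOf c)) : c = 1 := by
  have x2 := vx1 (symm h)
  have ct := h.c1.two _ h.t1 ⟨1, by rw [pow_one, sq, h.c2.zz]⟩ c hc
  obtain ⟨a, b, oa, ob, ha, hb, rfl⟩ := x2.inH ho ct.symm ((mem_Zt.1 hc).1 _).symm
    (h.c1.inv v h.c1.ss h.c1.sz h.c1.s_not_mem c hc)
  obtain ⟨j, jj, hj⟩ := hi'
  have k : ∀ a : SL(2, F), Odd (orderOf a) → Commute a j → a = 1 := fun a oa e => by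
    obtain ⟨x, y, e1, e2⟩ := sl_xy h.c1.odd jj e
    have f5 : (5 : F) = 0 := by simpa [h5] using FiniteField.cast_card_eq_zero F
    have f4 : ∀ u : F, u ^ 5 = u := fun u => h5 ▸ FiniteField.pow_card u
    have e3 : x * y = 0 := by
      by_contra e3
      have hx : x ^ 4 = 1 := mul_left_cancel₀ (left_ne_zero_of_mul e3) (by linear_combination f4 x)
      have hy : y ^ 4 = 1 := mul_left_cancel₀ (right_ne_zero_of_mul e3) (by linear_combination f4 y)
      have e4 : 2 * x ^ 2 = 1 := by linear_combination hx - hy + (1 - x ^ 2 + y ^ 2) * e1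
      exact h.c1.two_ne (by linear_combination f5 - (2 * x ^ 2 + 1) * e4 + 4 * hx)
    refine eq_one_of_odd oa (n := 2) (Subtype.ext ?_)
    have e5 : (a : Mat F) * a = (x ^ 2 - y ^ 2) • (1 : Mat F) := by
      rw [e2]
      simp only [mul_add, add_mul, mul_smul_comm, smul_mul_assoc, mul_one, one_mul, sl_coe_sq jj]
      linear_combination (norm := module) (2 * e3) • (j : Mat F)
    rw [show a ^ 2 ^ 2 = a * a * (a * a) by simp [pow_succ, mul_assoc]]
    simp only [Matrix.SpecialLinearGroup.coe_mul, e5, smul_mul_smul_comm, mul_one, Matrix.SpecialLinearGroup.coe_one]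
    rw [show (x ^ 2 - y ^ 2) * (x ^ 2 - y ^ 2) = 1 by linear_combination (x ^ 2 + y ^ 2 + 1) * e1 - 4 * x * y * e3,
      one_smul]
  rw [k a oa (x2.comm1 ha hj.symm), k b ob (x2.symm.comm1 hb (x2.tw_comm hj.symm)), map_one, map_one, mul_one]

end Cfsg.Agent.L4
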