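import Mathlib
import Cfsg.Agent.L4.Basic

/-! The involution centralizing both factors. -/

set_option autoImplicit false
set_option linter.unusedSectionVars false

namespace Cfsg.Agent.L4

open Cfsg.Agent.Loc.Mss Cfsg.Agent.GW Subgroup Cfsg.Agent.P4 Cfsg.Agent.G2T Cfsg.Agent.Cl.GL2
open scoped MatrixGroups

variable {G : Type*} [Group G] [Finite G] {F : Type} [Field F] [Fintype F]
  {σ μ : SL(2, F) →* G} {g v w : G}

namespace TorB

/-- The properties of type B that do not mention the swap. -/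
structure Bt (σ : SL(2, F) →* G) : Prop where
  act : ∀ t', IsConj (σ (-1)) t' → Commute t' (σ (-1)) → t' ≠ σ (-1) → ¬ ∀ a, Commute t' (σ a)
  inn : ∀ v, v * v = 1 → ∀ M, Ind σ v M → IsSquare (dt M)
  sw : ∀ f, f * f = 1 → Commute f (σ (-1)) → f ∉ 𝐍[σ.range] → IsConj (σ (-1)) f

theorem comm_cj {a b : G} (h : Commute a (g * b * g⁻¹)) : Commute (g⁻¹ * a * g) b := by
  simpa [mul_assoc] using h.conj g⁻¹

theorem sq_cj {a : G} (h : a * a = 1) : g⁻¹ * a * g * (g⁻¹ * a * g) = 1 := by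
  calc _ = g⁻¹ * (a * a) * g := by group
    _ = 1 := by rw [h]; group

theorem Bt.conj (h : Bt σ) (g : G) : Bt (cjh g σ) := by
  have c : ∀ a : G, IsConj a (g⁻¹ * a * g) := fun a => isConj_iff.2 ⟨g⁻¹, by group⟩
  have c' : IsConj (σ (-1)) (cjh g σ (-1)) := isConj_iff.2 ⟨g, rfl⟩
  refine ⟨fun t h1 h2 h3 h4 => h.act _ ((c'.trans h1).trans (c t)) (comm_cj h2) (fun e => h3 ?_)
    fun a => comm_cj (h4 a), fun u h1 M h2 => h.inn _ (sq_cj (g := g) h1) M fun a => ?_,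
    fun f h1 h2 h3 => c'.symm.trans ((h.sw _ (sq_cj h1) (comm_cj h2) fun e => h3 ?_).trans (c f).symm)⟩
  · rw [cjh_apply, ← e]; group
  · calc _ = g⁻¹ * (u * cjh g σ a * u⁻¹) * g := by rw [cjh_apply]; group
      _ = _ := by rw [h2 a, cjh_apply]; group
  · refine mem_normalizer_fintype ?_
    rintro _ ⟨a, rfl⟩
    obtain ⟨b, e'⟩ := (mem_normalizer_iff.1 e _).1 (MonoidHom.mem_range.2 ⟨a, rfl⟩)
    exact ⟨b, by rw [cjh_apply, cjh_apply, e']; group⟩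

variable {s t u : G} {A : SL(2, F)}

theorem ne_pm (h : Cz σ s) (hA : A * A = -1) : ¬ (A = 1 ∨ A = -1) := fun e => h.z_ne (by
  rw [← hA]
  rcases e with rfl | rfl <;> simp)

theorem Bt.act' (b : Bt σ) (h : Cz σ s) (h1 : IsConj (σ (-1)) t) (h2 : Commute t (σ (-1))) (h3 : t ≠ σ (-1)) :
    ¬ ∀ a, Commute t (tw σ s a) := by
  rw [← h.tw_z] at h1 h2 h3
  exact (b.conj s).act t h1 h2 h3

theorem sq_of_conj (h : Cz σ s) (h1 : IsConj (σ (-1)) t) : t * t = 1 := by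
  obtain ⟨c, rfl⟩ := isConj_iff.1 h1
  rw [conj_mul, h.zz]; group

theorem Bt.dec (b : Bt σ) (h : Cz σ s) (h1 : IsConj (σ (-1)) t) (h2 : t ∈ 𝐍[σ.range]) (h3 : t ≠ σ (-1)) :
    ∃ A B, A * A = -1 ∧ B * B = -1 ∧ t = σ A * tw σ s B := by
  obtain ⟨M, -, e, -⟩ := h.ind_inv h2 (sq_of_conj h h1)
  exact h.inv_K (sq_of_conj h h1) e (b.inn _ (sq_of_conj h h1) _ e) (b.act _ h1 (h.z_of_norm h2) h3)
    (b.act' h h1 (h.z_of_norm h2) h3)

theorem tw_mem (h : Cz σ s) (e : tw σ s A ∈ Zt σ s) : A = 1 ∨ A = -1 :=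
  (h.K_mem_Zt (a := 1) (by rwa [map_one, one_mul])).2

/-- An element whose square centralizes the factor and which commutes with `σ A`. -/
theorem triv_or (h : Cz σ s) {M : GL (Fin 2) F} (e : Ind σ u M) (h2 : ∀ b, Commute (u * u) (σ b))
    (hA : A * A = -1) (c : Commute u (σ A)) (e' : Ind σ t (tG A)) :
    (∀ b, Commute u (σ b)) ∨ ∀ b, Commute (u * t) (σ b) := by
  by_cases hM : IsScal (M : Mat F)
  · exact .inl (e.comm_of_scal hM)
  have a2 : IsScal ((tG A * tG A : GL (Fin 2) F) : Mat F) := by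
    rw [← map_mul, hA]
    exact isScal_sl_iff.2 (.inr rfl)
  obtain ⟨c, rfl⟩ := eq_of_comm h.odd (M := tG A) (N := M)
    (trace_eq_zero_of_sq a2 fun e => ne_pm h hA (isScal_sl_iff.1 e))
    (trace_eq_zero_of_sq ((e.mul e).isScal h.inj h2) hM)
    (Units.ext ((e.conj_eq_iff h.inj).1 (mul_inv_eq_iff_eq_mul.2 c.eq)).symm)
  exact .inr (((e.of_scal_mul (isScal_scalGL c)).mul e').comm_of_scal a2)

end TorB

open TorB

theorem Tri.torB (h : Tri σ (cjh g σ) μ v w) (hr : Rg σ v (cjh g σ (-1)))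
    (inn : ∀ v, v * v = 1 → ∀ M, Ind σ v M → IsSquare (dt M))
    (sw : ∀ f, f * f = 1 → Commute f (σ (-1)) → f ∉ 𝐍[σ.range] → IsConj (σ (-1)) f)
    (hc : ∃ c ∈ Zt σ v, c * c = σ (-1))
    (gen : σ.range ⊔ (cjh g σ).range ⊔ (tw σ v).range = ⊤) : ∃ x, Cfg σ (cjh g σ) v w x := by
  have b1 : Bt σ := ⟨hr.act, inn, sw⟩
  have b2 := b1.conj g
  have fr : ∃ g', cjh g σ = cjh g' σ := ⟨g, rfl⟩
  generalize cjh g σ = ρ at *
  have c1 := h.c1
  have c2 := h.c2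
  obtain ⟨A, B, hA, hB, ht⟩ := b1.dec c1 hr.zt h.t1 h.ne
  obtain ⟨A', B', hA', hB', hz⟩ := b2.dec c2 hr.zt.symm h.z2 h.ne.symm
  have iz : Ind ρ (σ (-1)) (tG A') := hz ▸ c2.ind_K A' B'
  have tB : Commute (ρ (-1)) (tw σ v B) := ht ▸ (c1.comm A B).mul_left (Commute.refl _)
  have z2 : ∃ n : ℕ, σ (-1) ^ 2 ^ n = 1 := ⟨1, by rw [pow_one, pow_two, c1.zz]⟩
  -- an element commuting with `z` and `τ' B'` commutes with `ρ A'`
  have cA : ∀ a, Commute a (σ (-1)) → Commute a (tw ρ w B') → Commute a (ρ A') := fun a e1 e2 => by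
    rw [eq_mul_inv_of_mul_eq hz.symm]
    exact e1.mul_right e2.inv_right
  have key : ∀ c ∈ Zt σ v, (∀ a, Commute (tw σ v B * c) (σ a)) ∧ Commute (tw σ v B * c) (ρ (-1)) ∧
      tw σ v B * c ∉ Zt σ v := fun c hc =>
    ⟨fun a => (c1.comm a B).symm.mul_left ((mem_Zt.1 hc).1 a), tB.symm.mul_left
      (ht ▸ ((mem_Zt.1 hc).1 A).mul_right ((mem_Zt.1 hc).2 B)),
      fun e => ne_pm c1 hB (tw_mem c1 ((mul_mem_cancel_right hc).1 e))⟩
  obtain ⟨c, hc, xx, xρ⟩ : ∃ c ∈ Zt σ v, tw σ v B * c * (tw σ v B * c) = 1 ∧ ∀ a, Commute (tw σ v B * c) (ρ a) := by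
    obtain ⟨c, hc, cc⟩ := hc
    obtain ⟨u1, u2, u3⟩ := key c hc
    have uu : tw σ v B * c * (tw σ v B * c) = 1 := by
      rw [((mem_Zt.1 hc).2 B).mul_mul_mul_comm, ← map_mul, hB, cc, c1.tw_z, c1.zz]
    have nT : ¬ IsConj (σ (-1)) (tw σ v B * c) := fun e =>
      b1.act _ e (u1 _) (fun e' => u3 (e' ▸ c1.z_mem_Zt)) u1
    have uN : tw σ v B * c ∈ 𝐍[ρ.range] := by_contra fun e => nT (hr.zt.trans (b2.sw _ uu u2 e))
    obtain ⟨M, -, iu, -⟩ := c2.ind_inv uN uu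
    by_cases n1 : ∀ a, Commute (tw σ v B * c) (ρ a)
    · exact ⟨c, hc, uu, n1⟩
    by_cases n2 : ∀ a, Commute (tw σ v B * c) (tw ρ w a)
    · refine ⟨c * σ (-1), mul_mem hc c1.z_mem_Zt, ?_, ?_⟩ <;> rw [← mul_assoc (tw σ v B)]
      · rw [(u1 _).symm.mul_mul_mul_comm, uu, c1.zz, mul_one]
      · exact (triv_or c2 iu (fun b => uu ▸ Commute.one_left _) hA' (cA _ (u1 _) (n2 _)) iz).resolve_left n1
    obtain ⟨a, b, e⟩ := c2.conjK uu c1.zz iu iz ((b2.inn _ uu _ iu).mul (b2.inn _ c1.zz _ iz)) n1 n2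
      (b2.act _ hr.zt.symm (c2.z_of_norm h.z2) h.ne.symm) (b2.act' c2 hr.zt.symm (c2.z_of_norm h.z2) h.ne.symm)
    exact (nT (isConj_iff.2 ⟨_, e⟩).symm).elim
  obtain ⟨x1, -, x3⟩ := key c hc
  have cx : ∀ a ∈ 𝐍[σ.range], (∃ n : ℕ, a ^ 2 ^ n = 1) → Commute a (tw σ v B * c) → Commute a (tw σ v B) :=
    fun a h1 h2 h3 => by simpa using h3.mul_right (c1.two a h1 h2 c hc).inv_right
  generalize hx' : tw σ v B * c = x at *
  have xZ : x ∉ Zt ρ w := fun e => (c2.uniq x e xx).elim (fun e' => x3 (e' ▸ one_mem _)) fun e' =>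
    b1.act _ hr.zt (c1.z_of_norm h.t1) h.ne (e' ▸ x1)
  obtain ⟨k, d, hd, ex⟩ := c2.eq_tw xρ ⟨1, by rw [pow_one, pow_two, xx]⟩
  have cx' : ∀ a ∈ 𝐍[ρ.range], (∃ n : ℕ, a ^ 2 ^ n = 1) → Commute a x → Commute a (tw ρ w k) :=
    fun a h1 h2 h3 => by simpa [ex] using h3.mul_right (c2.two a h1 h2 d hd).inv_right
  have k1 : ¬ (k = 1 ∨ k = -1) := fun e => xZ (ex ▸ mul_mem (by
    rcases e with rfl | rfl
    exacts [(map_one (tw ρ w)).symm ▸ one_mem _, c2.tw_z.symm ▸ c2.z_mem_Zt]) hd)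
  have zk := cx' _ h.z2 z2 (x1 _).symm
  have kk : k * k = -1 := (tw_mem c2 (by
    rw [ex, ((mem_Zt.1 hd).2 k).mul_mul_mul_comm, ← map_mul] at xx
    exact eq_inv_of_mul_eq_one_left xx ▸ inv_mem (mul_mem hd hd))).resolve_left
    fun e => k1 (Inv.SLF.eq_of_mul_self_eq_one c2.two_ne e)
  have kB : B' * k = k * B' := c2.tw_inj (by
    rw [map_mul, map_mul, eq_inv_mul_of_mul_eq hz.symm]
    exact ((c2.comm A' k).inv_left.mul_left zk).eq)
  refine ⟨x, c1, c2, h.ne, h.t1, h.z2, h.v2, hr.st, c1.z_of_norm h.w1, fr, hr.act,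
    ⟨B, fun e => ne_pm c1 hB (.inl e), fun e => ne_pm c1 hB (.inr e), tB, c, hc, hx'.symm⟩,
    ⟨k, fun e => k1 (.inl e), fun e => k1 (.inr e), zk, d, hd, ex⟩, fun a a1 a2 a3 a4 => ?_, gen⟩
  have aσ : a ∈ 𝐍[σ.range] := centralizer_le_normalizer _ (by rintro _ ⟨b, rfl⟩; exact (a2 b).symm)
  have at' : Commute a (ρ (-1)) := ht ▸ (a2 A).mul_right (cx a aσ a3 a1)
  have aN : a ∈ 𝐍[ρ.range] := by_contra fun e => xZ (c2.mem_Zt_of_swap at' e a1.symm xρ)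
  obtain ⟨M, -, ia, -⟩ := c2.ind2 aN a3
  refine triv_or c2 ia a4 hA' (cA a (a2 _) ?_) iz
  have := cx' a aN a3 a1
  rcases sl_comm_eq c2.odd kk hB' kB.symm with e | e <;> rw [e]
  exacts [this, c2.tw_neg k ▸ at'.mul_right this]

end Cfsg.Agent.L4
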