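import Mathlib
import Cfsg.Agent.P4.Kit
import Cfsg.Agent.Cl.LinearBasic

/-! Projective representations as homomorphisms to `PSL`, and the order of `L₄(q)`. -/

set_option autoImplicit false
set_option linter.unusedSectionVars false

namespace Cfsg.Agent.L4.SylG

open Cfsg.Agent.Loc.Mss Subgroup Cfsg.Agent.P4 Matrix

variable {n F Γ : Type*} [Fintype n] [DecidableEq n] [Field F] [Group Γ]

theorem mk_eq {A B : SpecialLinearGroup n F} {r : F} (h : (A : Matrix n n F) = r • (B : Matrix n n F)) :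
    (QuotientGroup.mk A : ProjectiveSpecialLinearGroup n F) = QuotientGroup.mk B := by
  refine (QuotientGroup.eq.2 (Matrix.SpecialLinearGroup.mem_center_iff.2 ⟨r, ?_, ?_⟩)).symm
  · have := A.2
    rwa [h, det_smul, B.2, mul_one] at this
  · rw [Matrix.SpecialLinearGroup.coe_mul, h, Matrix.mul_smul, ← Matrix.SpecialLinearGroup.coe_mul,
      inv_mul_cancel, Matrix.SpecialLinearGroup.coe_one, scalar_apply, smul_one_eq_diagonal]

/-- A projective representation whose determinants are `n`-th powers. -/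
theorem exists_hom (M : Γ → Matrix n n F) (hd : ∀ g, ∃ μ : F, μ ^ Fintype.card n * det (M g) = 1)
    (hm : ∀ g h, ∃ c : F, M (g * h) = c • (M g * M h)) :
    ∃ ι : Γ →* ProjectiveSpecialLinearGroup n F, ∀ g, ι g = 1 → ∃ c, M g = diagonal fun _ => c := by
  cases isEmpty_or_nonempty n
  · exact ⟨1, fun g _ => ⟨1, Subsingleton.elim _ _⟩⟩
  choose μ hμ using hd
  have h0 : ∀ g, μ g ≠ 0 := fun g e => by
    have := hμ g
    rw [e, zero_pow Fintype.card_ne_zero, zero_mul] at this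
    exact zero_ne_one this
  let s : Γ → SpecialLinearGroup n F := fun g => ⟨μ g • M g, by rw [det_smul, hμ]⟩
  refine ⟨MonoidHom.mk' (fun g => QuotientGroup.mk (s g)) fun g h => ?_, fun g e => ?_⟩
  · obtain ⟨c, hc⟩ := hm g h
    refine mk_eq (B := s g * s h) (r := μ (g * h) * c * (μ g * μ h)⁻¹) ?_
    change μ (g * h) • M (g * h) = _ • ((μ g • M g) * (μ h • M h))
    rw [hc, smul_mul_smul_comm, smul_smul, smul_smul, inv_mul_cancel_right₀ (mul_ne_zero (h0 g) (h0 h))]
  · obtain ⟨r, -, hr⟩ := Matrix.SpecialLinearGroup.mem_center_iff.1 ((QuotientGroup.eq_one_iff _).1 e)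
    refine ⟨(μ g)⁻¹ * r, ?_⟩
    have : M g = (μ g)⁻¹ • (scalar n r) := by
      rw [hr]; exact (inv_smul_smul₀ (h0 g) _).symm
    rw [this, scalar_apply, ← diagonal_smul]
    rfl

theorem sy_of_card {G : Type*} [Group G] [Finite G] {ι : Γ →* G} (hi : Function.Injective ι)
    (hp : IsPGroup 2 Γ) {m : ℕ} (hm : Odd m) (h : Nat.card G = Nat.card Γ * m) : Sy ι ⊤ ⊤ := by
  refine ⟨hi, le_top, (hp.to_subgroup ⊤).map ι, ?_⟩
  have h1 := ((⊤ : Subgroup Γ).map ι).card_mul_index
  rw [card_map_of_injective hi, card_top, h] at h1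
  have h2 : Nat.card Γ ≠ 0 := fun e => Nat.card_pos.ne' (by rw [h, e, zero_mul] : Nat.card G = 0)
  rw [relIndex_top_right, Nat.eq_of_mul_eq_mul_left (Nat.pos_of_ne_zero h2) h1]
  exact hm.not_two_dvd_nat

theorem card_psl4 [Finite F] : (4).gcd (Nat.card F - 1) * Nat.card (ProjectiveSpecialLinearGroup (Fin 4) F) =
    Nat.card F ^ 6 * (Nat.card F ^ 2 - 1) * (Nat.card F ^ 3 - 1) * (Nat.card F ^ 4 - 1) := by
  rw [← Cl.card_sl_four, ← Cl.card_psl_mul, Fintype.card_fin]

end Cfsg.Agent.L4.SylG
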