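import Mathlib
import Cfsg.Agent.P4.Model
import Cfsg.Agent.P4.Kit

/-!
The 2-group `MB k` of order `2^(3k+7)`: the Sylow 2-subgroup of `L₄(q)`, `2^(k+2) ∥ q - 1`.
An element is a point `(a, b, c)` of the torus (`a = x₁ - x₂`, `b = x₃ - x₄`, `c = x₁ - x₄` for the
diagonal matrix with exponents `x₁, …, x₄`) and an element `(e, f, p)` of the dihedral group of order 8,
multiplied as in `P4.PS`: `p = (34)`, `f = (13)(24)`, `e = (14)(23)`.
-/

set_option autoImplicit false

namespace Cfsg.Agent.L4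

open Cfsg.Agent.Inv.Fz Cfsg.Agent.G2T Cfsg.Agent.P4 Cfsg.Agent.Loc.Mss Cfsg.Agent.GW

variable {k : ℕ}

theorem four_mm : mm k * 4 = 0 := by linear_combination 2 * two_mm + two_hf

theorem hf_add : hf k + hf k = 0 := by linear_combination two_hf

theorem mm_add : mm k + mm k = hf k := by linear_combination two_mm

theorem mm_two (x : R k) : mm k * (2 * x) = hf k * x := by linear_combination x * two_mm

theorem cj_cj' {G : Type*} [Group G] (a b x : G) : a * (b * x * b⁻¹) * a⁻¹ = a * b * x * (a * b)⁻¹ := by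
  group

/-- The action of the Weyl group, first coordinate. -/
def wa (e f p : Bool) (a b : R k) : R k := sg e (cond (xor e f) (sg p b) a)
/-- The action of the Weyl group, second coordinate. -/
def wb (e f p : Bool) (a b : R k) : R k := sg e (cond (xor e f) a (sg p b))
/-- The action of the Weyl group, third coordinate. -/
def wc (e f p : Bool) (a b c : R k) : R k :=
  sg (xor e f) (c - cond p b 0 - cond f (a + sg p b) 0)

theorem w_ev (e f p : Bool) {a b c : R k} (h : mm k * (2 * c + b - a) = 0) :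
    mm k * (2 * wc e f p a b c + wb e f p a b - wa e f p a b) = 0 := by
  have := four_mm (k := k)
  cases e <;> cases f <;> cases p <;> simp [wa, wb, wc] <;>
    first
    | exact h
    | linear_combination h - b * this
    | linear_combination h - c * this
    | linear_combination h + (a - c) * this
    | linear_combination h + (a - b - c) * this
    | linear_combination h + (b - c) * this
    | linear_combination h - (b + c) * this
    | linear_combination h + (a + b - c) * this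
    | linear_combination h

/-- The 2-group of type `L₄(q)`, `q ≡ 1 mod 4`. -/
@[ext] structure MB (k : ℕ) : Type where
  a : R k
  b : R k
  c : R k
  e : Bool
  f : Bool
  p : Bool
  ev : mm k * (2 * c + b - a) = 0
  deriving DecidableEq

namespace MB

instance : Mul (MB k) := ⟨fun g h => ⟨g.a + wa g.e g.f g.p h.a h.b, g.b + wb g.e g.f g.p h.a h.b,
  g.c + wc g.e g.f g.p h.a h.b h.c, xor g.e (cond g.p h.f h.e), xor g.f (cond g.p h.e h.f),
  xor g.p h.p, by linear_combination g.ev + w_ev g.e g.f g.p h.ev⟩⟩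

instance : One (MB k) := ⟨⟨0, 0, 0, false, false, false, by simp⟩⟩

instance : Inv (MB k) := ⟨fun g => ⟨-wa (cond g.p g.f g.e) (cond g.p g.e g.f) g.p g.a g.b,
  -wb (cond g.p g.f g.e) (cond g.p g.e g.f) g.p g.a g.b,
  -wc (cond g.p g.f g.e) (cond g.p g.e g.f) g.p g.a g.b g.c, cond g.p g.f g.e, cond g.p g.e g.f, g.p,
  by linear_combination -w_ev (cond g.p g.f g.e) (cond g.p g.e g.f) g.p g.ev⟩⟩

section
variable (g h : MB k)
@[simp] theorem mul_a : (g * h).a = g.a + wa g.e g.f g.p h.a h.b := rfl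
@[simp] theorem mul_b : (g * h).b = g.b + wb g.e g.f g.p h.a h.b := rfl
@[simp] theorem mul_c : (g * h).c = g.c + wc g.e g.f g.p h.a h.b h.c := rfl
@[simp] theorem mul_e : (g * h).e = xor g.e (cond g.p h.f h.e) := rfl
@[simp] theorem mul_f : (g * h).f = xor g.f (cond g.p h.e h.f) := rfl
@[simp] theorem mul_p : (g * h).p = xor g.p h.p := rfl
@[simp] theorem one_a : (1 : MB k).a = 0 := rfl
@[simp] theorem one_b : (1 : MB k).b = 0 := rfl
@[simp] theorem one_c : (1 : MB k).c = 0 := rfl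
@[simp] theorem one_e : (1 : MB k).e = false := rfl
@[simp] theorem one_f : (1 : MB k).f = false := rfl
@[simp] theorem one_p : (1 : MB k).p = false := rfl
@[simp] theorem inv_a : g⁻¹.a = -wa (cond g.p g.f g.e) (cond g.p g.e g.f) g.p g.a g.b := rfl
@[simp] theorem inv_b : g⁻¹.b = -wb (cond g.p g.f g.e) (cond g.p g.e g.f) g.p g.a g.b := rfl
@[simp] theorem inv_c : g⁻¹.c = -wc (cond g.p g.f g.e) (cond g.p g.e g.f) g.p g.a g.b g.c := rfl
@[simp] theorem inv_e : g⁻¹.e = cond g.p g.f g.e := rfl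
@[simp] theorem inv_f : g⁻¹.f = cond g.p g.e g.f := rfl
@[simp] theorem inv_p : g⁻¹.p = g.p := rfl
end

attribute [simp] wa wb wc

instance : Group (MB k) where
  mul_assoc := by
    rintro ⟨_, _, _, _ | _, _ | _, _ | _, _⟩ ⟨_, _, _, _ | _, _ | _, _ | _, _⟩ c <;>
      ext <;> simp <;> ring
  one_mul := by rintro ⟨_, _, _, _, _, _, _⟩; ext <;> simp
  mul_one := by rintro ⟨_, _, _, _ | _, _ | _, _ | _, _⟩ <;> ext <;> simp
  inv_mul_cancel := by rintro ⟨_, _, _, _ | _, _ | _, _ | _, _⟩ <;> ext <;> simp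

/-- Coordinates. -/
def equivSub :
    MB k ≃ {v : R k × R k × R k // mm k * (2 * v.2.2 + v.2.1 - v.1) = 0} × Bool × Bool × Bool where
  toFun g := (⟨(g.a, g.b, g.c), g.ev⟩, g.e, g.f, g.p)
  invFun v := ⟨v.1.1.1, v.1.1.2.1, v.1.1.2.2, v.2.1, v.2.2.1, v.2.2.2, v.1.2⟩
  left_inv _ := rfl
  right_inv _ := rfl

instance : Fintype (MB k) := Fintype.ofEquiv _ equivSub.symm

theorem card : Nat.card (MB k) = 2 ^ (3 * k + 7) := by
  let φ : R k →+ R k := AddMonoidHom.mulLeft (mm k)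
  have h0 : addOrderOf (mm k) = 4 := by
    have : Fact (Nat.Prime 2) := ⟨Nat.prime_two⟩
    exact addOrderOf_eq_prime_pow (p := 2) (n := 1)
      (by simpa [two_mm] using hf_ne (k := k)) (by simpa [mul_comm] using four_mm)
  have h1 : φ.range = AddSubgroup.zmultiples (mm k) := by
    ext x
    refine ⟨?_, ?_⟩
    · rintro ⟨y, rfl⟩
      exact ⟨y.val, by simp [φ, mul_comm]⟩
    · rintro ⟨n, rfl⟩
      exact ⟨n, by simp [φ, mul_comm]⟩
  have h2 := φ.ker.card_mul_index
  rw [AddSubgroup.index_ker, h1, Nat.card_zmultiples, h0, Nat.card_zmod] at h2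
  let e : {v : R k × R k × R k // mm k * (2 * v.2.2 + v.2.1 - v.1) = 0} ≃ φ.ker × R k × R k :=
    { toFun v := (⟨2 * v.1.2.2 + v.1.2.1 - v.1.1, v.2⟩, v.1.2.1, v.1.2.2)
      invFun w := ⟨(2 * w.2.2 + w.2.1 - w.1.1, w.2.1, w.2.2), by
        simpa using (show mm k * w.1.1 = 0 from w.1.2)⟩
      left_inv v := by ext <;> simp
      right_inv w := by ext <;> simp }
  rw [Nat.card_congr equivSub, Nat.card_prod, Nat.card_congr e]
  simp only [Nat.card_prod, Nat.card_zmod, Nat.card_eq_fintype_card (α := Bool), Fintype.card_bool]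
  have : 2 ^ (3 * k + 7) * 4 = 2 ^ (k + 1 + 1) * (2 ^ (k + 1 + 1) * 2 ^ (k + 1 + 1)) * 8 := by ring
  refine Nat.eq_of_mul_eq_mul_right (show 0 < 4 by norm_num) ?_
  rw [this]
  linear_combination (2 ^ (k + 1 + 1) * 2 ^ (k + 1 + 1) * 8) * h2

theorem isPGroup : IsPGroup 2 (MB k) := IsPGroup.of_card card

theorem ev_ab (g : MB k) : hf k * (g.b - g.a) = 0 := by
  linear_combination 2 * g.ev - g.c * four_mm - (g.b - g.a) * two_mm

/-- The central involution. -/
@[simps] def z (k : ℕ) : MB k := ⟨0, 0, hf k, false, false, false, by simp [two_hf]⟩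
/-- An involution of the torus conjugate to `t * z`. -/
@[simps] def t (k : ℕ) : MB k := ⟨hf k, hf k, 0, false, false, false, by simp⟩
/-- The cyclic centralizer `Zc` of `Q`, all of whose elements are `cc x`. -/
@[simps] def cc (x : R k) : MB k := ⟨0, 0, 2 * x, false, false, false, by
  linear_combination x * four_mm⟩
/-- A generator of `S0` modulo `Q`. -/
@[simps] def d (k : ℕ) : MB k := ⟨1, 1, 2, false, false, false, by linear_combination four_mm⟩
/-- The first class of swaps. -/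
@[simps] def s1 (k : ℕ) : MB k := ⟨hf k, hf k, hf k, false, true, false, by simp [two_hf]⟩
/-- The second class of swaps. -/
@[simps] def s2 (k : ℕ) : MB k := ⟨1, -1, 1, false, true, false, by ring⟩
/-- The involution `y1 x2`. -/
@[simps] def r (k : ℕ) : MB k := ⟨0, 0, 0, false, false, true, by simp⟩

/-- The embedding of the Sylow 2-subgroup of `PSp₄(q)`. -/
def em (k : ℕ) : PS k →* MB k := MonoidHom.mk' (fun g => ⟨g.x + g.y, g.x - g.y, g.x, g.e, g.f, g.p,
    by have : hf k * _ = 0 := g.ev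
       linear_combination this + (g.x - g.y) * two_mm - g.y * two_hf⟩) (by
  rintro ⟨_, _, _ | _, _ | _, _ | _, _⟩ ⟨_, _, _, _, _, _⟩ <;> ext <;> simp <;> ring)

section
variable (g : PS k)
@[simp] theorem em_a : (em k g).a = g.x + g.y := rfl
@[simp] theorem em_b : (em k g).b = g.x - g.y := rfl
@[simp] theorem em_c : (em k g).c = g.x := rfl
@[simp] theorem em_e : (em k g).e = g.e := rfl
@[simp] theorem em_f : (em k g).f = g.f := rfl
@[simp] theorem em_p : (em k g).p = g.p := rfl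
end

theorem em_inj : Function.Injective (em k) := fun a b h => by
  have h1 : a.x = b.x := congrArg MB.c h
  have h2 : a.x + a.y = b.x + b.y := congrArg MB.a h
  exact PS.ext h1 (by linear_combination h2 - h1) (congrArg MB.e h) (congrArg MB.f h) (congrArg MB.p h)

theorem em_z : em k (PS.z k) = z k := by ext <;> simp [hf_add]
theorem em_s : em k (PS.s k) = s1 k := by ext <;> simp
theorem em_a0 : em k (PS.a0 k) = t k * z k := by ext <;> simp
theorem em_b0 : em k (PS.b0 k) = t k := by ext <;> simp [neg_hf]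
theorem em_pi : em k (PS.pi 0) = r k := by ext <;> simp

theorem z_sq : z k * z k = 1 := by ext <;> simp [hf_add]
theorem z_ne : z k ≠ 1 := by simp [MB.ext_iff, hf_ne]
theorem t_sq : t k * t k = 1 := by ext <;> simp [hf_add]
theorem t_ne : t k ≠ 1 := by simp [MB.ext_iff, hf_ne]
theorem t_ne_z : t k ≠ z k := by simp [MB.ext_iff, hf_ne]
theorem tz_ne : t k * z k ≠ 1 := by simp [MB.ext_iff, hf_ne]
theorem tz_ne_z : t k * z k ≠ z k := by simp [MB.ext_iff, hf_ne]
theorem r_sq : r k * r k = 1 := by ext <;> simp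
theorem s1_sq : s1 k * s1 k = 1 := by ext <;> simp [hf_add, neg_hf]
theorem s2_sq : s2 k * s2 k = 1 := by ext <;> simp
theorem s1_t : s1 k * t k = t k * s1 k := by ext <;> simp [hf_add]
theorem s2_t : s2 k * t k = t k * s2 k := by ext <;> simp [hf_add, add_comm]
theorem conj_t : r k * t k * (r k)⁻¹ = t k * z k := by ext <;> simp [neg_hf]
theorem cc_mul (x y : R k) : cc x * cc y = cc (x + y) := by ext <;> simp; ring
theorem cc_zero : cc (0 : R k) = 1 := by ext <;> simp
theorem cc_mm : cc (mm k) = z k := by ext <;> simp [two_mm]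
theorem d_sq : d k * d k = em k (PS.d1 1) * em k (PS.d2 1) * cc 1 := by
  ext <;> simp only [mul_a, mul_b, mul_c, mul_e, mul_f, mul_p] <;> simp; ring
theorem conj_cc (x : R k) : s1 k * cc x * (s1 k)⁻¹ = (cc x)⁻¹ := by ext <;> simp
theorem s2_eq : s2 k * s1 k = em k (PS.d2 (-1) * PS.a0 k) * d k := by
  ext <;> simp <;> ring

theorem z_comm (g : MB k) : g * z k = z k * g := by
  rcases g with ⟨a, b, c, _ | _, _ | _, _ | _, _⟩ <;> ext <;> simp [add_comm, neg_hf]

theorem conj_z (g : MB k) : g * z k * g⁻¹ = z k := by rw [z_comm, mul_inv_cancel_right]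

theorem top_le_cen_z : (⊤ : Subgroup (MB k)) ≤ Cen (z k) := fun g _ => mem_Cen.2 (z_comm g).symm

/-- The centre is `⟨z⟩`. -/
theorem eq_of_central {g : MB k} (h : ∀ x, x * g = g * x) : g = 1 ∨ g = z k := by
  have h1 := h (em k (PS.d1 1 * PS.d2 1))
  have h2 := h (r k)
  have h3 := h (s1 k)
  have h4 := h (d k)
  have := two_ne_zero' (k := k)
  rcases g with ⟨a, b, c, _ | _, _ | _, _ | _, _⟩ <;> simp [MB.ext_iff] at h1 h2 h3 h4 ⊢
  · obtain rfl : b = 0 := h2.2
    obtain rfl : a = 0 := by linear_combination -h3.1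
    rcases (two_eq_zero (x := c)).1 (by linear_combination -h3.2.2) with rfl | rfl <;> simp
  · exact this (by linear_combination h4.1)

/-- A homomorphism that does not kill `z` is injective. -/
theorem injective_of_z {G : Type*} [Group G] (f : MB k →* G) (h : f (z k) ≠ 1) :
    Function.Injective f := by
  rw [← MonoidHom.ker_eq_bot_iff]
  by_contra hne
  have : Fact (Nat.Prime 2) := ⟨Nat.prime_two⟩
  have := (isPGroup (k := k)).isNilpotent
  obtain ⟨g, hg, hg1⟩ : ∃ g ∈ f.ker ⊓ Subgroup.center (MB k), g ≠ 1 := by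
    by_contra hc
    push Not at hc
    exact GT.PG.inf_center_ne_bot _ hne ((Subgroup.eq_bot_iff_forall _).2 hc)
  rcases eq_of_central (fun s => Subgroup.mem_center_iff.1 hg.2 s) with e | e
  exacts [hg1 e, h (e ▸ hg.1)]

/-! ### Subgroups -/

/-- The torus. -/
def T (k : ℕ) : Subgroup (MB k) where
  carrier := {g | g.e = false ∧ g.f = false ∧ g.p = false}
  one_mem' := ⟨rfl, rfl, rfl⟩
  mul_mem' := by rintro a b ⟨h1, h2, h3⟩ ⟨h4, h5, h6⟩; simp [*]
  inv_mem' := by rintro a ⟨h1, h2, h3⟩; simp [*]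

/-- The elements that do not swap the two factors. -/
def S0 (k : ℕ) : Subgroup (MB k) where
  carrier := {g | g.e = g.f}
  one_mem' := rfl
  mul_mem' := by intro a b h1 h2; simp only [Set.mem_ofPred_eq] at *; simp [*]
  inv_mem' := by intro a h1; simp only [Set.mem_ofPred_eq] at *; simp [*]

/-- The centralizer of `t`. -/
def U (k : ℕ) : Subgroup (MB k) where
  carrier := {g | g.p = false}
  one_mem' := rfl
  mul_mem' := by intro a b h1 h2; simp only [Set.mem_ofPred_eq] at *; simp [*]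
  inv_mem' := by intro a h1; exact h1

/-- The invariant of `S0` modulo `Q`. -/
def ψ (g : MB k) : R k := 2 * g.c - g.a - g.b

theorem ψ_mul (g h : MB k) : ψ (g * h) = ψ g + sg (xor g.e g.f) (ψ h) := by
  rcases g with ⟨a, b, c, _ | _, _ | _, _ | _, _⟩ <;> simp [ψ] <;> ring

theorem ψ_inv (g : MB k) : ψ g⁻¹ = -sg (xor g.e g.f) (ψ g) := by
  rcases g with ⟨a, b, c, _ | _, _ | _, _ | _, _⟩ <;> simp [ψ] <;> ring

/-- The image of `PS k`. -/
def V (k : ℕ) : Subgroup (MB k) where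
  carrier := {g | ψ g = 0}
  one_mem' := by simp [ψ]
  mul_mem' := by
    intro a b h1 h2
    simp only [Set.mem_ofPred_eq] at *
    rw [ψ_mul, h1, h2]; cases xor a.e a.f <;> simp
  inv_mem' := by
    intro a h1
    simp only [Set.mem_ofPred_eq] at *
    rw [ψ_inv, h1]; cases xor a.e a.f <;> simp

/-- The central product `Q1 ∘ Q2`. -/
def Q (k : ℕ) : Subgroup (MB k) := S0 k ⊓ V k

/-- The four-group `{1, z, t, t z}`. -/
def D0 (k : ℕ) : Subgroup (MB k) where
  carrier := {g | g = 1 ∨ g = z k ∨ g = t k ∨ g = t k * z k}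
  one_mem' := Or.inl rfl
  mul_mem' := by
    rintro _ _ (rfl | rfl | rfl | rfl) (rfl | rfl | rfl | rfl) <;> simp [MB.ext_iff, hf_add]
  inv_mem' := by rintro _ (rfl | rfl | rfl | rfl) <;> simp [MB.ext_iff, neg_hf]

section mem
variable {g : MB k}
@[simp] theorem mem_T : g ∈ T k ↔ g.e = false ∧ g.f = false ∧ g.p = false := Iff.rfl
@[simp] theorem mem_S0 : g ∈ S0 k ↔ g.e = g.f := Iff.rfl
@[simp] theorem mem_U : g ∈ U k ↔ g.p = false := Iff.rfl
@[simp] theorem mem_V : g ∈ V k ↔ 2 * g.c - g.a - g.b = 0 := Iff.rfl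
@[simp] theorem mem_Q : g ∈ Q k ↔ g.e = g.f ∧ 2 * g.c - g.a - g.b = 0 := Iff.rfl
theorem mem_D0 : g ∈ D0 k ↔ g = 1 ∨ g = z k ∨ g = t k ∨ g = t k * z k := Iff.rfl
end mem

theorem T_le_S0 : T k ≤ S0 k := fun _ h => h.1.trans h.2.1.symm
theorem T_le_U : T k ≤ U k := fun _ h => h.2.2
theorem Q_le_S0 : Q k ≤ S0 k := inf_le_left
theorem Q_le_V : Q k ≤ V k := inf_le_right
theorem D0_le_T : D0 k ≤ T k := by rintro _ (rfl | rfl | rfl | rfl) <;> simp
theorem D0_le_Q : D0 k ≤ Q k := by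
  rintro _ (rfl | rfl | rfl | rfl) <;> simp [two_hf, neg_hf]
theorem s1_not_mem : s1 k ∉ S0 k := by simp
theorem s2_not_mem : s2 k ∉ S0 k := by simp
theorem d_mem : d k ∈ T k := by simp
theorem cc_mem (x : R k) : cc x ∈ T k := by simp

theorem range_em : (em k).range = V k := by
  ext g
  refine ⟨by rintro ⟨a, rfl⟩; simp; ring, fun h => ⟨⟨g.c, g.a - g.c, g.e, g.f, g.p, ?_⟩, ?_⟩⟩
  · have h : 2 * g.c - g.a - g.b = 0 := h
    change hf k * _ = 0
    linear_combination -g.ev + mm k * h + g.b * two_mm - g.ev_ab + g.b * two_hf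
  · have h : 2 * g.c - g.a - g.b = 0 := h
    ext <;> simp
    linear_combination h

theorem em_mem_Q {g : PS k} : em k g ∈ Q k ↔ g ∈ PS.Q k := by
  simp only [mem_Q, em_e, em_f, em_a, em_b, em_c, PS.mem_Q, and_iff_left_iff_imp]
  intro; ring

theorem exists_em {g : MB k} (h : g ∈ V k) : ∃ c, em k c = g := by rwa [← range_em] at h

theorem exists_em_Q {g : MB k} (h : g ∈ Q k) : ∃ c ∈ PS.Q k, em k c = g := by
  obtain ⟨c, rfl⟩ := exists_em h.2
  exact ⟨c, em_mem_Q.1 h, rfl⟩

theorem map_Q : (PS.Q k).map (em k) = Q k := by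
  ext g
  exact ⟨by rintro ⟨c, hc, rfl⟩; exact em_mem_Q.2 hc, exists_em_Q⟩

theorem T_comm {a b : MB k} (ha : a ∈ T k) (hb : b ∈ T k) : a * b = b * a := by
  obtain ⟨h1, h2, h3⟩ := ha
  obtain ⟨h4, h5, h6⟩ := hb
  ext <;> simp [*, add_comm]

instance : (T k).Normal := ⟨by
  rintro n ⟨h1, h2, h3⟩ ⟨x, y, c, _ | _, _ | _, _ | _, _⟩ <;> simp [*]⟩

instance : (S0 k).Normal := ⟨by
  rintro n h ⟨x, y, c, _ | _, _ | _, _ | _, _⟩ <;> simp [mem_S0.1 h]⟩

instance : (Q k).Normal := ⟨fun n h g => ⟨(inferInstance : (S0 k).Normal).conj_mem n h.1 g, by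
  have h2 : ψ n = 0 := h.2
  change ψ _ = 0
  rw [ψ_mul, ψ_mul, ψ_inv, h2]
  have h1 : n.e = n.f := h.1
  rcases g with ⟨x, y, c, _ | _, _ | _, _ | _, _⟩ <;> simp [h1]⟩⟩

theorem mem_or_mul_s1 (g : MB k) : g ∈ S0 k ∨ g * s1 k ∈ S0 k := by
  rcases g with ⟨x, y, c, _ | _, _ | _, _ | _, _⟩ <;> simp

theorem comm_t {g : MB k} : t k * g = g * t k ↔ g ∈ U k := by
  have := hf_ne (k := k)
  rcases g with ⟨x, y, c, _ | _, _ | _, _ | _, _⟩ <;>
    simp [MB.ext_iff, add_comm, neg_hf, this, hf_add]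

theorem cc_comm {g : MB k} (h : g ∈ S0 k) (x : R k) : g * cc x = cc x * g := by
  rcases g with ⟨a, b, c, _ | _, _ | _, _ | _, _⟩ <;> simp at h <;> ext <;> simp [add_comm]

theorem T_pow {g : MB k} (h : g ∈ T k) (n : ℕ) :
    (g ^ n).a = n * g.a ∧ (g ^ n).b = n * g.b ∧ (g ^ n).c = n * g.c := by
  induction n with
  | zero => simp
  | succ n ih =>
    obtain ⟨h1, h2, h3⟩ := pow_mem h n
    rw [pow_succ]
    simp only [mul_a, mul_b, mul_c, h1, h2, h3, ih.1, ih.2.1, ih.2.2]
    simp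
    refine ⟨?_, ?_, ?_⟩ <;> ring

theorem ψ_d_pow (n : ℕ) : ψ (d k ^ n) = 2 * n := by
  obtain ⟨h1, h2, h3⟩ := T_pow (d_mem (k := k)) n
  rw [ψ, h1, h2, h3]; simp; ring

theorem ψ_ev (g : MB k) : Ev (ψ g) := by
  unfold Ev ψ
  linear_combination (g.c - g.b) * two_hf + g.ev_ab

/-- `S0 = Q ⟨d⟩`. -/
theorem exists_Q_d {g : MB k} (h : g ∈ S0 k) : ∃ q ∈ Q k, ∃ n : ℕ, g = q * d k ^ n := by
  obtain ⟨y, hy⟩ := ev_iff.1 (ψ_ev g)
  have hd := pow_mem (d_mem (k := k)) y.val
  refine ⟨g * (d k ^ y.val)⁻¹, ⟨(S0 k).mul_mem h ((S0 k).inv_mem (T_le_S0 hd)), ?_⟩, y.val, by simp⟩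
  change ψ _ = 0
  rw [ψ_mul, ψ_inv, ψ_d_pow, hd.1, hd.2.1, mem_S0.1 h, hy]
  simp

/-- The elements of `S0` with even first coordinate lie in `Q Zc`. -/
theorem exists_Q_cc {g : MB k} (h : g ∈ S0 k) (ha : Ev g.a) : ∃ q ∈ Q k, ∃ x, g = q * cc x := by
  obtain ⟨y, hy⟩ := ev_iff.1 (ψ_ev g)
  have h2 : Ev y := by
    have h1 : hf k * g.a = 0 := ha
    have h3 : 2 * g.c - g.a - g.b = 2 * y := hy
    unfold Ev
    linear_combination g.ev - mm k * h3 - g.ev_ab - h1 - (y + g.b) * two_mm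
  obtain ⟨x, rfl⟩ := ev_iff.1 h2
  refine ⟨g * (cc x)⁻¹, ⟨(S0 k).mul_mem h ((S0 k).inv_mem (T_le_S0 (cc_mem x))), ?_⟩, x, by simp⟩
  change ψ _ = 0
  rw [ψ_mul, mem_S0.1 h, hy]
  simp [ψ]

/-- The centralizer of `Q`. -/
theorem eq_cc {g : MB k} (h : ∀ q ∈ Q k, q * g = g * q) : ∃ x, g = cc x := by
  have h1 := h _ (em_mem_Q.2 (PS.Q1_le (PS.d1_mem 1)))
  have h2 := h _ (em_mem_Q.2 (PS.Q2_le (PS.d2_mem 1)))
  have h3 := h (r k) (by simp)
  have h4 := h _ (em_mem_Q.2 (PS.Q1_le (PS.x1_mem 0)))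
  have := two_ne_zero' (k := k)
  rcases g with ⟨a, b, c, _ | _, _ | _, _ | _, ev⟩ <;> simp [MB.ext_iff] at h1 h2 h3 h4 ⊢
  · obtain rfl : b = 0 := h3.2
    obtain rfl : a = 0 := by linear_combination -h4.2.2
    simpa using ev_iff.1 (show hf k * c = 0 by linear_combination ev - c * two_mm)
  exacts [this (by linear_combination h2.2), this (by linear_combination h2.2),
    this (by linear_combination h1.2)]

/-! ### Involutions -/

theorem ev_of_two {x : R k} (h : x + x = 0) : Ev x := by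
  rcases (two_eq_zero (x := x)).1 (by linear_combination h) with rfl | rfl
  exacts [by simp [Ev], ev_hf]

theorem inv_ev {g : MB k} (h : g ∈ S0 k) (h2 : g * g = 1) : Ev g.a := by
  have h0 := g.ev_ab
  rcases g with ⟨a, b, c, _ | _, _ | _, _ | _, ev⟩ <;> simp [MB.ext_iff] at h h2 h0 ⊢
  · exact ev_of_two h2.1
  · exact ev_of_two h2.1
  · unfold Ev; linear_combination ev - mm k * h2 - b * two_mm - h0
  · have : hf k * b = 0 := ev_of_two h2.1
    unfold Ev; linear_combination this - h0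

theorem ev_mul_a (g h : MB k) : hf k * (g * h).a = hf k * g.a + hf k * h.a := by
  have h0 := h.ev_ab
  have := two_hf (k := k)
  rcases g with ⟨a, b, c, _ | _, _ | _, _ | _, ev⟩ <;> simp <;>
    first
    | linear_combination
    | linear_combination h0
    | linear_combination -h0 - h.a * this
    | linear_combination - h.a * this

theorem swap_conj_f {g : MB k} (h : g.e = false ∧ g.f = true ∧ g.p = false) (h2 : g * g = 1) :
    (Ev g.a ∧ ∃ x, x * s1 k * x⁻¹ = g) ∨ (¬ Ev g.a ∧ ∃ x, x * s2 k * x⁻¹ = g) := by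
  obtain ⟨a, b, c, _, _, _, ev⟩ := g
  obtain ⟨rfl, rfl, rfl⟩ := h
  simp [MB.ext_iff] at h2
  obtain rfl : b = -a := by linear_combination h2.1
  have e : hf k * (c - a) = 0 := by linear_combination ev - (c - a) * two_mm
  let x : R k → R k → MB k := fun w y => ⟨2 * w + y, y, 2 * y + w, false, false, false, by
    linear_combination y * four_mm⟩
  by_cases ha : Ev a
  · obtain ⟨a', rfl⟩ := ev_iff.1 ha
    obtain ⟨c', hc⟩ := ev_iff.1 (show Ev c by unfold Ev at *; linear_combination e + ha)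
    subst hc
    refine Or.inl ⟨ha, x (a' - mm k) (c' - mm k), ?_⟩
    ext <;> simp [x] <;> [linear_combination -two_mm; linear_combination two_mm + two_hf;
      linear_combination -two_mm]
  · obtain ⟨a', rfl⟩ := not_ev_iff.1 ha
    obtain ⟨c', hc⟩ := not_ev_iff.1 (show ¬ Ev c from fun h => ha (by
      unfold Ev at *; linear_combination h - e))
    subst hc
    refine Or.inr ⟨ha, x a' c', ?_⟩
    ext <;> simp [x] <;> ring

/-- The swap involutions: the class is given by the parity of the first coordinate. -/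
theorem swap_conj {g : MB k} (h : g ∉ S0 k) (h2 : g * g = 1) :
    (Ev g.a ∧ ∃ x, x * s1 k * x⁻¹ = g) ∨ (¬ Ev g.a ∧ ∃ x, x * s2 k * x⁻¹ = g) := by
  by_cases hf' : g.f = true
  · refine swap_conj_f ?_ h2
    rcases g with ⟨a, b, c, _ | _, _ | _, _ | _, ev⟩ <;> simp [MB.ext_iff] at h h2 hf' ⊢
  · have := swap_conj_f (g := (r k)⁻¹ * g * r k) (by
      rcases g with ⟨a, b, c, _ | _, _ | _, _ | _, ev⟩ <;> simp [MB.ext_iff] at h h2 hf' ⊢)
      (by rw [show _ * _ = (r k)⁻¹ * (g * g) * r k by group, h2]; group)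
    have e : ((r k)⁻¹ * g * r k).a = g.a := by
      rcases g with ⟨a, b, c, _ | _, _ | _, _ | _, ev⟩ <;> simp
    rw [e] at this
    exact this.imp (And.imp_right fun ⟨x, hx⟩ => ⟨r k * x, by rw [← L4.cj_cj', hx]; group⟩)
      (And.imp_right fun ⟨x, hx⟩ => ⟨r k * x, by rw [← L4.cj_cj', hx]; group⟩)

/-! ### The case `k ≥ 1` -/

theorem mm_hf (hk : 1 ≤ k) : mm k * hf k = 0 := by
  have : hf k * mm k = 0 := ev_mm hk
  linear_combination this

/-- The element of order four of `Zc`. -/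
@[simps] def c4 (hk : 1 ≤ k) : MB k := ⟨0, 0, mm k, false, false, false, by
  linear_combination mm_hf hk + mm k * two_mm⟩

/-- The involution `y1 c4⁻¹`. -/
@[simps] def u (hk : 1 ≤ k) : MB k := ⟨hf k, 0, 0, false, false, false, by
  linear_combination -mm_hf hk⟩

theorem c4_sq (hk : 1 ≤ k) : c4 hk * c4 hk = z k := by ext <;> simp [mm_add]
theorem u_sq (hk : 1 ≤ k) : u hk * u hk = 1 := by ext <;> simp [hf_add]
theorem u_mul_c4 (hk : 1 ≤ k) : u hk * c4 hk = em k (PS.y1 k) := by ext <;> simp [mm_add]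
theorem u_not_mem (hk : 1 ≤ k) : u hk ∉ Q k := by simp [hf_ne]

theorem exists_c4 (hk : 1 ≤ k) : ∃ x, c4 hk = cc x := by
  obtain ⟨x, hx⟩ := ev_iff.1 (ev_mm hk)
  exact ⟨x, by ext <;> simp [hx]⟩

/-- The automorphism that fixes `T` and `s1` and interchanges `r` and `u r`. -/
def al (hk : 1 ≤ k) : MB k →* MB k := MonoidHom.mk' (fun g =>
  ⟨g.a + cond g.p (cond g.f 0 (hf k)) (cond g.e (hf k) 0),
    g.b + cond g.p (cond g.f (hf k) 0) (cond g.e (hf k) 0), g.c + cond g.p (cond g.f (hf k) 0) 0,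
    g.e, g.f, g.p, by
    have := mm_hf hk
    rcases g with ⟨a, b, c, _ | _, _ | _, _ | _, ev⟩ <;> simp <;>
      first
      | linear_combination ev
      | linear_combination ev - this
      | linear_combination ev + 3 * this⟩) (by
  rintro ⟨_, _, _, _ | _, _ | _, _ | _, _⟩ ⟨_, _, _, _ | _, _ | _, _ | _, _⟩ <;> ext <;> simp <;>
    first
    | linear_combination
    | linear_combination two_hf
    | linear_combination -two_hf)

theorem al_of_mem (hk : 1 ≤ k) {g : MB k} (h : g ∈ T k) : al hk g = g := by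
  obtain ⟨h1, h2, h3⟩ := h
  ext <;> simp [al, *]

theorem al_z (hk : 1 ≤ k) : al hk (z k) = z k := al_of_mem hk (by simp)
theorem al_r (hk : 1 ≤ k) : al hk (r k) = u hk * r k := by ext <;> simp [al]
theorem al_s1 (hk : 1 ≤ k) : al hk (s1 k) = s1 k := by ext <;> simp [al]
theorem al_s2 (hk : 1 ≤ k) : al hk (s2 k) = s2 k := by ext <;> simp [al]

theorem al_al (hk : 1 ≤ k) (g : MB k) : al hk (al hk g) = g := by
  rcases g with ⟨a, b, c, _ | _, _ | _, _ | _, ev⟩ <;> ext <;> simp [al, add_assoc, hf_add]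

end MB

end Cfsg.Agent.L4
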