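import Mathlib
import Cfsg.Agent.L4.Defs
import Cfsg.Agent.L4.MB

/-!
The notions of the local analysis for Sylow 2-subgroups of type `L₄(q)`, `q ≡ 1 mod 4`.
See `stubs/Cfsg/Agent/L4/PLAN.md`, part LOC-B.
-/

set_option autoImplicit false
set_option linter.unusedSectionVars false

namespace Cfsg.Agent.L4

open Cfsg.Agent.Loc.Mss Cfsg.Agent.GW Subgroup Cfsg.Agent.P4 Cfsg.Agent.G2T Cfsg.Agent.Cl.GL2 MB
open scoped MatrixGroups

variable {k : ℕ} {G X : Type*} [Group G] [Group X] {F : Type} [Field F] [Fintype F]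

/-- The element of order four of the torus in the first factor. -/
abbrev MB.y1 (k : ℕ) : MB k := em k (PS.y1 k)

/-- The element of order four of the torus in the second factor. -/
abbrev MB.y2 (k : ℕ) : MB k := em k (PS.y2 k)

/-- The fusion in `G` in the generic case. -/
structure Fb (ι : MB k →* G) : Prop where
  sy : Sy ι ⊤ ⊤
  n1 : ∀ y ∈ S0 k, ¬ Fu ι (Cen (ι (z k))) (s1 k) y
  n2 : ∀ y ∈ S0 k, ¬ Fu ι (Cen (ι (z k))) (s2 k) y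
  hk : (1 ≤ k ∧ Fu ι (Cen (ι (z k))) (y1 k * r k) (y1 k)) ∨
    (k = 0 ∧ ¬ Group.IsSolvable (Cen (ι (z k))) ∧
      ∀ a b : G, a * a = 1 → a ≠ 1 → b * b = 1 → b ≠ 1 → IsConj a b)

/-- The fusion in `X = C(z) / O(C(z))` in the generic case. -/
structure Xb (κ : MB k →* X) : Prop where
  sy : Sy κ ⊤ ⊤
  hz : ⊤ ≤ Cen (κ (z k))
  odd : oddCore X = ⊥
  n1 : ∀ y ∈ S0 k, ¬ Fu κ ⊤ (s1 k) y
  n2 : ∀ y ∈ S0 k, ¬ Fu κ ⊤ (s2 k) y
  hk : (1 ≤ k ∧ Fu κ ⊤ (y1 k * r k) (y1 k)) ∨ (k = 0 ∧ ¬ Group.IsSolvable X)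

/-- The first factor of `X` has been identified. -/
structure La (κ : MB k →* X) (σ : SL(2, F) →* X) : Prop where
  xb : Xb κ
  odd : Odd (Fintype.card F)
  big : 3 < Fintype.card F
  inj : Function.Injective σ
  hz : κ (z k) = σ (-1)
  comm : ∀ a b, Commute (σ a) (tw σ (κ (s1 k)) b)
  res : pResidualOf 2 (⊤ : Subgroup X) ≤ 𝐍[σ.range]
  mem : ∀ c, κ c ∈ 𝐍[σ.range] ↔ c ∈ S0 k
  sy1 : Sy (κ.comp (em k)) (PS.Q1 k) σ.range
  cen : ∀ g ∈ pResidualOf 2 (⊤ : Subgroup X), g ∈ Zt σ (κ (s1 k)) → g = 1 ∨ g = σ (-1)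
  p1 : ∀ c ∈ Q k, c * c = 1 → c ≠ 1 → c ≠ z k → Fu κ ⊤ c (t k)

end Cfsg.Agent.L4
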