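import Mathlib
import Cfsg.Agent.L4.BDefs
import Cfsg.Agent.P4.Fus

/-! Fusion in the torus, `k ≥ 1`. -/

set_option autoImplicit false
set_option linter.unusedSectionVars false

namespace Cfsg.Agent.L4

open Cfsg.Agent.Loc.Mss Cfsg.Agent.GW Subgroup Cfsg.Agent.P4 Cfsg.Agent.G2T Cfsg.Agent.Cl.GL2 MB
open Cfsg.Agent.Inv.Fz
open scoped MatrixGroups

variable {k : ℕ} {G : Type*} [Group G] [Finite G] {ι : MB k →* G} {H : Subgroup G}
  {A B : Subgroup (MB k)} {g : G} {φ : MB k → MB k} {x y : MB k} {n : ℕ}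

namespace FusT

theorem pow_succ_eq (g : MB k) (n : ℕ) : g ^ 2 ^ (n + 1) = (g * g) ^ 2 ^ n := by
  rw [pow_succ', pow_mul, sq]

theorem T_pow_mm {g : MB k} (h : g ∈ T k) : g ^ 2 ^ k ∈ T k ∧ (g ^ 2 ^ k).a = mm k * g.a ∧
    (g ^ 2 ^ k).b = mm k * g.b ∧ (g ^ 2 ^ k).c = mm k * g.c :=
  ⟨pow_mem h _, PS.cast_mm (k := k) ▸ T_pow h _⟩

theorem T_pow_hf {g : MB k} (h : g ∈ T k) : g ^ 2 ^ (k + 1) ∈ T k ∧ (g ^ 2 ^ (k + 1)).a = hf k * g.a ∧
    (g ^ 2 ^ (k + 1)).b = hf k * g.b ∧ (g ^ 2 ^ (k + 1)).c = hf k * g.c :=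
  ⟨pow_mem h _, PS.cast_hf (k := k) ▸ T_pow h _⟩

theorem pow_eq_one_of_four (hk : 1 ≤ k) {g : MB k} (h : g * g * (g * g) = 1) : g ^ 2 ^ (k + 1) = 1 := by
  obtain ⟨j, rfl⟩ := Nat.exists_eq_add_of_le' hk
  rw [pow_succ_eq, pow_succ_eq, h, one_pow]

theorem pow_eq_one_of_not (hk : 1 ≤ k) {g : MB k} (h : g * g ∉ T k) : g ^ 2 ^ (k + 1) = 1 := by
  refine pow_eq_one_of_four hk ?_
  rcases g with ⟨a, b, c, _ | _, _ | _, _ | _, _⟩ <;> simp at h <;> ext <;> simp <;> ring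

theorem T_ext {g h : MB k} (hg : g ∈ T k) (hh : h ∈ T k) : g = h ↔ g.a = h.a ∧ g.b = h.b ∧ g.c = h.c := by
  simp [MB.ext_iff, hg.1, hg.2.1, hg.2.2, hh.1, hh.2.1, hh.2.2]

theorem mem_D0_of {g : MB k} (hg : g ∈ T k) (h1 : g.a = g.b) (h2 : g.a = 0 ∨ g.a = hf k)
    (h3 : g.c = 0 ∨ g.c = hf k) : g ∈ D0 k := by
  rw [mem_D0, T_ext hg (one_mem _), T_ext hg (by simp), T_ext hg (by simp), T_ext hg (by simp), ← h1]
  simp only [one_a, one_b, one_c, z_a, z_b, z_c, t_a, t_b, t_c, mul_a, mul_b, mul_c]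
  simp
  tauto

theorem T_pow_D0 {g : MB k} (h : g ∈ T k) : g ^ 2 ^ (k + 1) ∈ D0 k := by
  obtain ⟨h1, h2, h3, h4⟩ := T_pow_hf h
  refine mem_D0_of h1 (by rw [h2, h3]; linear_combination -g.ev_ab) ?_ ?_
  · rw [h2]; exact hh_mul_cases _
  · rw [h4]; exact hh_mul_cases _

theorem pow_cases (hk : 1 ≤ k) (g : MB k) : g ∈ T k ∨ g ^ 2 ^ (k + 1) = 1 ∨ g ^ 2 ^ (k + 1) = z k ∨
    g ^ 2 ^ (k + 1) * g ^ 2 ^ (k + 1) = z k ∨
    (g.e = true ∧ g.f = false ∧ g.p = false ∧ g ^ 2 ^ (k + 1) = t k) ∨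
    (g.e = false ∧ g.f = true ∧ g.p = false ∧ g ^ 2 ^ (k + 1) = t k * z k) := by
  by_cases hT : g * g ∈ T k
  swap
  · exact Or.inr (Or.inl (pow_eq_one_of_not hk hT))
  rw [pow_succ_eq]
  obtain ⟨h1, h2, h3, h4⟩ := T_pow_mm hT
  generalize (g * g) ^ 2 ^ k = w at *
  rw [T_ext h1 (one_mem _), T_ext h1 (show z k ∈ T k by simp), T_ext h1 (show t k ∈ T k by simp),
    T_ext h1 (show t k * z k ∈ T k by simp), T_ext (mul_mem h1 h1) (show z k ∈ T k by simp)]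
  simp only [mul_a, mul_b, mul_c, h1.1, h1.2.1, h1.2.2, h2, h3, h4]
  obtain ⟨y, hy⟩ := ev_iff.1 (show Ev (g.b - g.a) from g.ev_ab)
  have m : ∀ a b : R k, a = 2 * b → mm k * a = hf k * b := fun a b e => by
    rw [e]; linear_combination b * two_mm
  have h0 := two_mm (k := k)
  have h0' := two_hf (k := k)
  rcases g with ⟨a, b, c, _ | _, _ | _, _ | _, ev⟩ <;> simp at hT hy ⊢
  · rcases hh_mul_cases a with e | e
    · obtain ⟨a', rfl⟩ := ev_iff.1 e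
      rw [m _ (2 * a') (by ring), show mm k * (c + (c - b)) = hf k * a' by
        linear_combination ev - 2 * mm k * hy - (2 * y + a') * h0 - (y + a') * h0',
        show hf k * (2 * a') = 0 by linear_combination a' * h0']
      rcases hh_mul_cases a' with e | e <;> simp [e]
    · refine Or.inr (Or.inr ⟨by linear_combination 2 * a * h0 + a * h0', ?_⟩)
      linear_combination 2 * ev - e * (-1) - 4 * mm k * hy - (4 * y + a) * h0 - (2 * y + a) * h0'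
  · rw [m (a + b) (a + y) (by linear_combination hy), m (b + a) (a + y) (by linear_combination hy)]
    rcases hh_mul_cases (a + y) with e | e <;> simp [e]
  · rw [m (a + -b) (-y) (by linear_combination -hy), m (b + -a) y (by linear_combination hy), mul_neg]
    rcases hh_mul_cases y with e | e <;> simp [e, neg_hf]
  · rw [m _ (c - a - y) (by linear_combination -hy)]
    rcases hh_mul_cases (c - a - y) with e | e <;> simp [e]
  · rcases hh_mul_cases b with e | e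
    · obtain ⟨b', rfl⟩ := ev_iff.1 e
      rw [m _ (2 * b') (by ring), show mm k * (c + (c - 2 * b' - (a + -(2 * b')))) = hf k * b' by
        linear_combination ev - b' * h0 - b' * h0',
        show hf k * (2 * b') = 0 by linear_combination b' * h0']
      rcases hh_mul_cases b' with e | e <;> simp [e]
    · refine Or.inr (Or.inr ⟨by linear_combination 2 * b * h0 + b * h0', ?_⟩)
      linear_combination 2 * ev - e - b * h0 - h0'

theorem z_sq_ne {w : MB k} (h : w * w = 1) : w * w ≠ z k := fun e => z_ne (e.symm.trans h)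

theorem t_facts : t k ≠ 1 ∧ t k ≠ z k ∧ t k * t k ≠ z k ∧ t k ≠ t k * z k :=
  ⟨t_ne, t_ne_z, z_sq_ne t_sq, fun e => z_ne (left_eq_mul.1 e)⟩

theorem tz_sq : t k * z k * (t k * z k) = 1 := by ext <;> simp [hf_add]

theorem cases_t (hk : 1 ≤ k) {g : MB k} (h : g ^ 2 ^ (k + 1) = t k) :
    (g ∈ T k ∧ hf k * g.a = hf k ∧ hf k * g.b = hf k ∧ hf k * g.c = 0) ∨
      (g.e = true ∧ g.f = false ∧ g.p = false ∧ mm k * (g.a - g.b) = hf k) := by
  rcases pow_cases hk g with e | e | e | e | e | e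
  · obtain ⟨-, h1, h2, h3⟩ := T_pow_hf e
    rw [h] at h1 h2 h3
    exact Or.inl ⟨e, h1.symm, h2.symm, h3.symm⟩
  · exact absurd (h.symm.trans e) t_ne
  · exact absurd (h.symm.trans e) t_ne_z
  · exact absurd (h ▸ e) (z_sq_ne t_sq)
  · obtain ⟨e1, e2, e3, -⟩ := e
    have h1 := (T_pow_mm (g := g * g) (by simp [e1, e2, e3])).2.1
    rw [← pow_succ_eq, h] at h1
    exact Or.inr ⟨e1, e2, e3, by simpa [e1, e2, e3, sub_eq_add_neg] using h1.symm⟩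
  · exact absurd (h.symm.trans e.2.2.2) t_facts.2.2.2

theorem cases_tz (hk : 1 ≤ k) {g : MB k} (h : g ^ 2 ^ (k + 1) = t k * z k) :
    (g ∈ T k ∧ hf k * g.a = hf k ∧ hf k * g.b = hf k ∧ hf k * g.c = hf k) ∨
      (g.e = false ∧ g.f = true ∧ g.p = false) := by
  rcases pow_cases hk g with e | e | e | e | e | e
  · obtain ⟨-, h1, h2, h3⟩ := T_pow_hf e
    rw [h] at h1 h2 h3
    exact Or.inl ⟨e, by simpa using h1.symm, by simpa using h2.symm, by simpa using h3.symm⟩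
  · exact absurd (h.symm.trans e) tz_ne
  · exact absurd (h.symm.trans e) tz_ne_z
  · exact absurd (h ▸ e) (z_sq_ne tz_sq)
  · exact absurd (e.2.2.2.symm.trans h) t_facts.2.2.2
  · exact Or.inr ⟨e.1, e.2.1, e.2.2.1⟩

theorem odd_two {a : R k} (h : hf k * a = hf k) (h2 : 2 * a = 0) : False :=
  hf_ne (k := k) (by linear_combination -h + mm k * h2 - a * two_mm)

/-- Two commuting elements with powers `t` and `t z` lie in the torus, and so does their centraliser. -/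
theorem mem_T_of_comm (hk : 1 ≤ k) {x₁ x₂ y : MB k} (h1 : x₁ ^ 2 ^ (k + 1) = t k)
    (h2 : x₂ ^ 2 ^ (k + 1) = t k * z k) (c : x₁ * x₂ = x₂ * x₁) (c1 : x₁ * y = y * x₁)
    (c2 : x₂ * y = y * x₂) : y ∈ T k := by
  rcases cases_t hk h1 with ⟨⟨e1, e2, e3⟩, a1, a2, a3⟩ | ⟨e1, e2, e3, a1⟩ <;>
    rcases cases_tz hk h2 with ⟨⟨f1, f2, f3⟩, b1, b2, b3⟩ | ⟨f1, f2, f3⟩
  · rcases y with ⟨a, b, c, _ | _, _ | _, _ | _, ev⟩ <;>
      simp [MB.ext_iff, e1, e2, e3, f1, f2, f3] at c1 c2 ⊢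
    · exact odd_two a2 (by linear_combination c1.2.1)
    · exact hf_ne (k := k) (by
        linear_combination a3 - a1 - mm k * c1.2.2 + mm k * c1.1 + (x₁.c - x₁.a) * two_mm)
    · exact odd_two a1 (by linear_combination c1.1 - c1.2.1)
    · exact odd_two b3 (by linear_combination c2.2.2)
    · exact odd_two a1 (by linear_combination c1.1 + c1.2.1)
    · exact odd_two a1 (by linear_combination c1.1)
    · exact odd_two a1 (by linear_combination c1.1)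
  · exfalso
    simp [MB.ext_iff, e1, e2, e3, f1, f2, f3] at c
    exact hf_ne (k := k) (by
      linear_combination a3 - a1 - mm k * c.2.2 + mm k * c.1 + (x₁.c - x₁.a) * two_mm)
  · exfalso
    simp [MB.ext_iff, e1, e2, e3, f1, f2, f3] at c
    exact odd_two b3 (by linear_combination -c.2.2)
  · exfalso
    have c' : x₂ * (x₁ * x₁) = x₁ * x₁ * x₂ := (show Commute x₂ x₁ from c.symm).mul_right c.symm
    simp [MB.ext_iff, e1, e2, e3, f1, f2, f3] at c'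
    exact hf_ne (a1.symm.trans (PS.mm_mul_eq_zero hk (by linear_combination -c'.1)))

/-- A generator of the cyclic subgroup of the first factor. -/
abbrev c1 (k : ℕ) : MB k := em k (PS.d1 1)

theorem c1_mem : c1 k ∈ T k := by simp

theorem c1_hf : c1 k ^ 2 ^ (k + 1) = z k := by rw [← map_pow, PS.d1_pow_hf, em_z]

theorem c1_mm : c1 k ^ 2 ^ k = y1 k := by rw [← map_pow, PS.d1_pow_mm]

theorem d_hf : d k ^ 2 ^ (k + 1) = t k := by
  obtain ⟨h1, h2, h3, h4⟩ := T_pow_hf (d_mem (k := k))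
  rw [T_ext h1 (by simp), h2, h3, h4]
  simp [mul_comm, two_hf]

theorem dc_hf : (d k * c1 k) ^ 2 ^ (k + 1) = t k * z k := by
  rw [Commute.mul_pow (T_comm d_mem c1_mem), d_hf, c1_hf]

theorem exists_pow {y : MB k} (hy : y ∈ D0 k) : ∃ w ∈ T k, w ^ 2 ^ (k + 1) = y := by
  rcases hy with rfl | rfl | rfl | rfl
  exacts [⟨1, one_mem _, one_pow _⟩, ⟨_, c1_mem, c1_hf⟩, ⟨_, d_mem, d_hf⟩,
    ⟨_, mul_mem d_mem c1_mem, dc_hf⟩]

theorem D0_sq {y : MB k} (hy : y ∈ D0 k) : y * y = 1 := by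
  rcases hy with rfl | rfl | rfl | rfl
  exacts [one_mul 1, z_sq, t_sq, tz_sq]

theorem surj_of_inj {P : Type*} [Group P] [Finite P] {C : Subgroup P} {φ : P → P} (h1 : ∀ c ∈ C, φ c ∈ C)
    (h2 : ∀ a ∈ C, ∀ b ∈ C, φ a = φ b → a = b) {y : P} (hy : y ∈ C) : ∃ w ∈ C, φ w = y := by
  obtain ⟨w, hw⟩ := Finite.surjective_of_injective (f := fun c : C => (⟨φ c, h1 c c.2⟩ : C))
    (fun a b e => Subtype.ext (h2 _ a.2 _ b.2 (congrArg Subtype.val e))) ⟨y, hy⟩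
  exact ⟨w, w.2, congrArg Subtype.val hw⟩

theorem mp_comp {g' : G} {B' : Subgroup (MB k)} {ψ : MB k → MB k} (m : Mp ι A H g B φ) (m' : Mp ι A H g' B' ψ)
    (h : ∀ c ∈ B, φ c ∈ B') : Mp ι A H (g' * g) B fun c => ψ (φ c) :=
  ⟨m.inj, mul_mem m'.hg m.hg, fun c hc => by rw [← m'.eq _ (h c hc), ← m.eq c hc]; group,
    fun c hc => m'.mem _ (h c hc)⟩

theorem mp_conj (m : Mp ι ⊤ ⊤ g B φ) (s : MB k) : Mp ι ⊤ ⊤ (ι s * g) B fun c => s * φ c * s⁻¹ :=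
  ⟨m.inj, trivial, fun c hc => by rw [map_mul, map_mul, map_inv, ← m.eq c hc]; group, fun _ _ => trivial⟩

theorem T_le_cen (hA : T k ≤ A) (hx : x ∈ T k) : T k ≤ A ⊓ Cen x := fun _ hc =>
  mem_cenA.2 ⟨hA hc, T_comm hx hc⟩

end FusT

open FusT

theorem MB.pow_mem_D0 (hk : 1 ≤ k) (h : x ^ 2 ^ (k + 1) * x ^ 2 ^ (k + 1) = 1) :
    x ^ 2 ^ (k + 1) ∈ D0 k := by
  rcases pow_cases hk x with e | e | e | e | e | e
  exacts [T_pow_D0 e, Or.inl e, Or.inr (Or.inl e), absurd e (z_sq_ne h), Or.inr (Or.inr (Or.inl e.2.2.2)),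
    Or.inr (Or.inr (Or.inr e.2.2.2))]

/-- The torus is weakly closed. -/
theorem map_T (hk : 1 ≤ k) (m : Mp ι A H g B φ) (hT : T k ≤ B) (hx : x ∈ T k) : φ x ∈ T k := by
  have h1 : ∀ c ∈ D0 k, φ c ∈ D0 k := by
    intro c hc
    have h2 := m.sq_one (hT (D0_le_T hc)) (D0_sq hc)
    obtain ⟨w, hw, rfl⟩ := exists_pow hc
    rw [m.pow (hT hw)] at h2 ⊢
    exact pow_mem_D0 hk h2
  have h2 : ∀ y ∈ D0 k, ∃ w ∈ T k, φ w ^ 2 ^ (k + 1) = y := by
    intro y hy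
    obtain ⟨c, hc, rfl⟩ := surj_of_inj h1 (fun a ha b hb => m.inj' (hT (D0_le_T ha)) (hT (D0_le_T hb))) hy
    obtain ⟨w, hw, rfl⟩ := exists_pow hc
    exact ⟨w, hw, (m.pow (hT hw) _).symm⟩
  obtain ⟨w₁, hw₁, e₁⟩ := h2 (t k) (Or.inr (Or.inr (Or.inl rfl)))
  obtain ⟨w₂, hw₂, e₂⟩ := h2 (t k * z k) (Or.inr (Or.inr (Or.inr rfl)))
  have c : ∀ a ∈ T k, ∀ b ∈ T k, φ a * φ b = φ b * φ a := fun a ha b hb =>
    (m.comm (hT ha) (hT hb)).2 (T_comm ha hb)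
  exact mem_T_of_comm hk e₁ e₂ (c _ hw₁ _ hw₂) (c _ hw₁ _ hx) (c _ hw₂ _ hx)

theorem pow_T (hk : 1 ≤ k) (h : Sy ι A H) (hA : T k ≤ A) (hx : x ∈ T k) (f : Fu ι H x (y ^ n))
    (hy : y ∈ T k) : ∃ w ∈ T k, x = w ^ n := by
  obtain ⟨g₁, g₂, φ₁, φ₂, m₁, m₂, e⟩ := h.two (hA hx) (hA (pow_mem hy n)) f
  have h1 := T_le_cen hA hx
  have h2 := T_le_cen hA (pow_mem hy n)
  obtain ⟨w, hw, ew⟩ := surj_of_inj (fun c hc => map_T hk m₁ h1 hc) (fun a ha b hb => m₁.inj' (h1 ha) (h1 hb))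
    (map_T hk m₂ h2 hy)
  exact ⟨w, hw, m₁.inj' (h1 hx) (h1 (pow_mem hw n)) (by rw [e, m₂.pow (h2 hy), m₁.pow (h1 hw), ew])⟩

theorem mem_D0_of_fu (hk : 1 ≤ k) (h : Sy ι A H) (hA : T k ≤ A) (hx : x ∈ T k) (f : Fu ι H x y)
    (hy : y ∈ D0 k) : x ∈ D0 k := by
  obtain ⟨w, hw, rfl⟩ := exists_pow hy
  obtain ⟨w', hw', rfl⟩ := pow_T hk h hA hx f hw
  exact T_pow_D0 hw'

theorem not_fu_u (hk : 1 ≤ k) (h : Sy ι ⊤ ⊤) (hy : y ∈ D0 k) : ¬ Fu ι ⊤ (u hk) y := fun f =>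
  u_not_mem hk (D0_le_Q (mem_D0_of_fu hk h le_top (by simp) f hy))

namespace FusT

/-- The sign `e + f + p`. -/
def chi (g : MB k) : ℤˣ := cond (xor (xor g.e g.f) g.p) (-1) 1

theorem chi_mul (a b : MB k) : chi (a * b) = chi a * chi b := by
  rcases a with ⟨_, _, _, _ | _, _ | _, _ | _, _⟩ <;> rcases b with ⟨_, _, _, _ | _, _ | _, _ | _, _⟩ <;>
    simp [chi]

theorem chi_cases {r : MB k} (h : chi r = 1) (h2 : r * r = 1) :
    r ∈ T k ∨ (r.e = true ∧ r.f = true ∧ r.p = false) := by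
  rcases r with ⟨_, _, _, _ | _, _ | _, _ | _, _⟩ <;> simp [chi, MB.ext_iff] at h h2 ⊢

theorem w0_comm (hk : 1 ≤ k) {r c : MB k} (h1 : r.e = true) (h2 : r.f = true) (h3 : r.p = false)
    (r2 : r * r = 1) (h : r * c = c * r) : c ^ 2 ^ (k + 1) = 1 := by
  by_cases hT : c * c ∈ T k
  swap
  · exact pow_eq_one_of_not hk hT
  have h' : r * (c * c) = c * c * r := (show Commute r c from h).mul_right h
  rw [pow_succ_eq]
  obtain ⟨a1, a2, a3, a4⟩ := T_pow_mm hT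
  rw [T_ext a1 (one_mem _), a2, a3, a4]
  have m := fun x => PS.mm_mul_eq_zero hk (x := x)
  have ev' := r.ev
  rcases c with ⟨a, b, c, _ | _, _ | _, _ | _, ev⟩ <;>
    simp [MB.ext_iff, h1, h2, h3] at hT h h' r2 ⊢
  · exact ⟨by linear_combination -mm k * h.1, by linear_combination -mm k * h.2.1, by
      linear_combination ev - m b (by linear_combination -h.2.1) + m a (by linear_combination -h.1)⟩
  · exact ⟨by linear_combination -mm k * h.1, by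
      linear_combination -ev - m a (by linear_combination -h.1) + c * four_mm⟩
  · have := m (a + b) (by linear_combination -h'.1)
    exact ⟨this, by linear_combination this, this⟩
  · have := m (a - b) (by linear_combination -h'.1)
    exact ⟨by linear_combination this, by linear_combination -this⟩
  · linear_combination ev + mm k * h.2.1 - ev' + mm k * r2
  · exact ⟨by linear_combination -mm k * h.2.1, by
      linear_combination ev - m b (by linear_combination -h.2.1)⟩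

/-- The elements of the torus conjugate to `y1`. -/
def Y (w : MB k) : Prop :=
  w ∈ T k ∧ ((w.a = hf k ∧ w.b = 0) ∨ (w.a = 0 ∧ w.b = hf k)) ∧ 2 * w.c = hf k

theorem Y.conj {w : MB k} (h : Y w) : ∃ s, s * w * s⁻¹ = y1 k := by
  obtain ⟨a, b, c, _, _, _, ev⟩ := w
  obtain ⟨⟨rfl, rfl, rfl⟩, h1, h2⟩ := h
  simp only [two_eq_hf] at h1 h2
  rcases h1 with ⟨rfl, rfl⟩ | ⟨rfl, rfl⟩ <;> rcases h2 with rfl | rfl
  · exact ⟨1, by ext <;> simp [mm_add]⟩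
  · exact ⟨⟨0, 0, 0, true, true, false, by simp⟩, by ext <;> simp [mm_add, neg_hf]; linear_combination -two_mm - two_hf⟩
  · exact ⟨⟨0, 0, 0, false, true, false, by simp⟩, by ext <;> simp [mm_add]; linear_combination -two_mm⟩
  · exact ⟨⟨0, 0, 0, true, false, false, by simp⟩, by ext <;> simp [mm_add, neg_hf]⟩

theorem Y.mul {w v : MB k} (h : Y w) (hv : v = t k ∨ v = t k * z k) : Y (w * v) := by
  obtain ⟨a, b, c, _, _, _, ev⟩ := w
  obtain ⟨⟨rfl, rfl, rfl⟩, h1, h2⟩ := h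
  simp only at h1 h2
  rcases hv with rfl | rfl <;> rcases h1 with ⟨rfl, rfl⟩ | ⟨rfl, rfl⟩ <;>
    simp [Y, hf_add, hf_ne, h2, mul_add, two_hf]

theorem Y_of_pow {w : MB k} (hw : w ∈ T k) (h : w ^ 2 ^ k * w ^ 2 ^ k = z k) : Y (w ^ 2 ^ k) := by
  obtain ⟨h1, h2, h3, h4⟩ := T_pow_mm hw
  rw [T_ext (mul_mem h1 h1) (by simp)] at h
  simp only [mul_a, mul_b, mul_c, h1.1, h1.2.1, h1.2.2, h2, h3, h4] at h
  simp at h
  refine ⟨h1, ?_, by rw [h4]; linear_combination h.2.2⟩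
  rw [h2, h3]
  have e : mm k * w.b = mm k * w.a + hf k := by linear_combination w.ev - h.2.2 - two_hf
  rcases (two_eq_zero (x := mm k * w.a)).1 (by linear_combination h.1) with e1 | e1 <;> rw [e, e1]
  · exact Or.inr ⟨rfl, zero_add _⟩
  · exact Or.inl ⟨rfl, hf_add⟩

theorem T_inv (hk : 1 ≤ k) {w : MB k} (hw : w ∈ T k) (h2 : w * w = 1) (h : w ∉ D0 k) :
    (∃ s, s * w * s⁻¹ = u hk) ∧ (w = u hk ∨ w = u hk * z k ∨ w * u hk = t k ∨ w * u hk = t k * z k) := by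
  obtain ⟨a, b, c, _, _, _, ev⟩ := w
  obtain ⟨rfl, rfl, rfl⟩ := hw
  simp only [MB.ext_iff, mul_a, mul_b, mul_c] at h2
  simp [← two_mul, two_eq_zero] at h2
  obtain ⟨rfl | rfl, rfl | rfl, rfl | rfl⟩ := h2 <;> simp [mem_D0, MB.ext_iff, hf_ne] at h
  · exact ⟨⟨⟨0, 0, 0, true, false, false, by simp⟩, by ext <;> simp [neg_hf]⟩, by simp [MB.ext_iff]⟩
  · exact ⟨⟨⟨0, 0, 0, false, true, false, by simp⟩, by ext <;> simp⟩, by simp [MB.ext_iff]⟩
  · exact ⟨⟨1, by ext <;> simp⟩, by simp [MB.ext_iff]⟩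
  · exact ⟨⟨⟨0, 0, 0, true, true, false, by simp⟩, by ext <;> simp [neg_hf]⟩, by simp [MB.ext_iff]⟩

theorem cen_u (hk : 1 ≤ k) {w : MB k} (h : u hk * w = w * u hk) : w.e = false ∧ w.f = false := by
  have := hf_ne (k := k)
  rcases w with ⟨a, b, c, _ | _, _ | _, _ | _, ev⟩ <;>
    simp [MB.ext_iff, neg_hf, this, add_comm] at h ⊢

theorem Y.inv {w v : MB k} (h : Y w) (h1 : v.e = false) (h2 : v.f = false) (e : v * w = w⁻¹ * v) :
    w.b = hf k := by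
  obtain ⟨⟨e1, e2, e3⟩, ⟨a1, a2⟩ | a1, a3⟩ := h
  · exfalso
    rcases v with ⟨a, b, c, _, _, _ | _, ev⟩ <;> simp at h1 h2 <;> subst h1 h2 <;>
      simp [MB.ext_iff, e1, e2, e3, a1, a2] at e <;>
      exact hf_ne (k := k) (by linear_combination e.2 - a3)
  · exact a1.2

theorem mem_T_of_b {w v : MB k} (hw : w ∈ T k) (hb : w.b = hf k) (h1 : v.e = false) (h2 : v.f = false)
    (e : v * w = w * v) : v ∈ T k := by
  obtain ⟨e1, e2, e3⟩ := hw
  rcases v with ⟨a, b, c, _, _, _ | _, ev⟩ <;> simp at h1 h2 <;> subst h1 h2 <;>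
    simp [MB.ext_iff, e1, e2, e3, hb] at e ⊢
  exact hf_ne (k := k) (by linear_combination -e.2.2)

theorem cen_z_top (s : MB k) : ι s ∈ Cen (ι (z k)) :=
  mem_Cen.2 ((show Commute (z k) s from (z_comm s).symm).map ι)

theorem c1_cen : c1 k ∈ ⊤ ⊓ Cen (r k) := mem_cenT.2 (by ext <;> simp)

theorem z_cen : z k ∈ ⊤ ⊓ Cen (r k) := mem_cenT.2 (z_comm _)

theorem r_cen : r k ∈ ⊤ ⊓ Cen (r k) := self_cenA trivial

theorem y1_cen : y1 k ∈ ⊤ ⊓ Cen (r k) := c1_mm (k := k) ▸ pow_mem c1_cen _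

theorem step1 (hk : 1 ≤ k) (h : Sy ι ⊤ ⊤) (hG : ∀ g, g ∈ pResidualOf 2 (⊤ : Subgroup G)) :
    ∃ g φ, Mp ι ⊤ ⊤ g (⊤ ⊓ Cen (r k)) φ ∧ φ (r k) ∈ T k ∧ φ (z k) = z k := by
  obtain ⟨g, φ, m, hφ⟩ := h.thompson Sy.units_pg Sy.units_uniq chi (fun a _ b _ => chi_mul a b)
    (y := r k) trivial r_sq (hG _)
  have e1 := m.pow c1_cen (2 ^ (k + 1))
  rw [c1_hf] at e1
  have n1 := m.ne_one z_cen z_ne
  have r2 := m.sq_one r_cen r_sq
  have hT : φ (r k) ∈ T k := (chi_cases hφ r2).resolve_right fun e =>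
    n1 (e1.trans (w0_comm hk e.1 e.2.1 e.2.2 r2 ((m.comm r_cen c1_cen).2 (mem_cenT.1 c1_cen))))
  have key : ∀ g φ, Mp ι ⊤ ⊤ g (⊤ ⊓ Cen (r k)) φ → φ (r k) ∈ T k → φ (z k) = t k →
      ∃ g φ, Mp ι ⊤ ⊤ g (⊤ ⊓ Cen (r k)) φ ∧ φ (r k) ∈ T k ∧ φ (z k) = z k := by
    intro g φ m hT e
    obtain ⟨g', ψ, m', e'⟩ := h.ext (x := t k) trivial top_le_cen_z (e ▸ m.fu z_cen).symm
    exact ⟨_, _, mp_comp m m' fun c hc => mem_cenT.2 (e ▸ (m.comm z_cen hc).2 (z_comm c).symm),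
      map_T hk m' (T_le_cen le_top (by simp)) hT, by simp only [e, e']⟩
  have hD : φ (z k) ∈ D0 k := by
    have := m.sq_one z_cen z_sq
    rw [e1] at this ⊢
    exact pow_mem_D0 hk this
  rcases hD with e | e | e | e
  · exact absurd e n1
  · exact ⟨g, φ, m, hT, e⟩
  · exact key g φ m hT e
  · refine key _ _ (mp_conj m (r k)⁻¹) ((inferInstance : (T k).Normal).conj_mem _ hT _) ?_
    simp only [e, ← conj_t]
    group

theorem map_y1 (hk : 1 ≤ k) (h : Sy ι ⊤ ⊤) (m : Mp ι ⊤ ⊤ g (⊤ ⊓ Cen (r k)) φ) (hz : φ (z k) = z k) :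
    Y (φ (y1 k)) := by
  have e1 := m.pow c1_cen (2 ^ (k + 1))
  rw [c1_hf, hz] at e1
  have hT : φ (c1 k) * φ (c1 k) ∈ T k := by
    by_contra hT
    exact z_ne (e1.trans (pow_eq_one_of_not hk hT))
  have hy : φ (y1 k) ∈ T k := by
    rw [← c1_mm, m.pow c1_cen]
    obtain ⟨j, rfl⟩ := Nat.exists_eq_add_of_le' hk
    rw [pow_succ_eq]
    exact pow_mem hT _
  obtain ⟨w, hw, e⟩ := pow_T hk h le_top hy (y := c1 k) (n := 2 ^ k) (by rw [c1_mm]; exact (m.fu y1_cen).symm) c1_mem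
  have e2 := m.sq y1_cen (b := z k) (by rw [← map_mul, PS.y1_sq, em_z])
  rw [e] at e2 ⊢
  exact Y_of_pow hw (e2.trans hz)

theorem fu_of_Y (m : Mp ι ⊤ ⊤ g (⊤ ⊓ Cen (r k)) φ) (hz : φ (z k) = z k) (hx : x ∈ ⊤ ⊓ Cen (r k))
    (hY : Y (φ x)) : Fu ι (Cen (ι (z k))) x (y1 k) := by
  obtain ⟨s, hs⟩ := hY.conj
  exact ((m.mono_right (m.mem_cen z_cen hz)).fu hx).trans (Fu.of_conj s (cen_z_top s) hs)

theorem step2 (hk : 1 ≤ k) (h : Sy ι ⊤ ⊤) (m : Mp ι ⊤ ⊤ g (⊤ ⊓ Cen (r k)) φ) (hz : φ (z k) = z k)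
    (hr : φ (r k) = u hk) : Fu ι (Cen (ι (z k))) (y1 k * (u hk * r k)) (y1 k) := by
  have hY := map_y1 hk h m hz
  have hc : ∀ c ∈ ⊤ ⊓ Cen (r k), (φ c).e = false ∧ (φ c).f = false := fun c hc =>
    cen_u hk (hr ▸ (m.comm r_cen hc).2 (mem_cenT.1 hc))
  let n : MB k := ⟨0, 0, 0, true, true, true, by simp⟩
  have hn : n ∈ ⊤ ⊓ Cen (r k) := mem_cenT.2 (by ext <;> simp [n])
  have hu : u hk ∈ ⊤ ⊓ Cen (r k) := mem_cenT.2 (by ext <;> simp)
  have hb : (φ (y1 k)).b = hf k := hY.inv (hc n hn).1 (hc n hn).2 (by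
    rw [← m.inv y1_cen, ← m.mul hn y1_cen, ← m.mul (inv_mem y1_cen) hn]
    congr 1
    ext <;> simp [n])
  have hT : φ (u hk) ∈ T k := mem_T_of_b hY.1 hb (hc _ hu).1 (hc _ hu).2
    ((m.comm hu y1_cen).2 (T_comm (by simp) (by simp)))
  have hD : φ (u hk) ∉ D0 k := fun e => not_fu_u hk h e (m.fu hu)
  refine fu_of_Y m hz (mul_mem y1_cen (mul_mem hu r_cen)) ?_
  rw [m.mul y1_cen (mul_mem hu r_cen), m.mul hu r_cen, hr]
  refine hY.mul ?_
  rcases (T_inv hk hT (m.sq_one hu (u_sq hk)) hD).2 with e | e | e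
  · exact absurd (m.inj' hu r_cen (e.trans hr.symm)) (by simp [MB.ext_iff])
  · refine absurd (m.inj' hu (mul_mem r_cen z_cen) ?_) (by simp [MB.ext_iff])
    rw [m.mul r_cen z_cen, hr, hz, e]
  · exact e

end FusT

theorem fu_or_al (hk : 1 ≤ k) (h : Sy ι ⊤ ⊤) (hG : ∀ g, g ∈ pResidualOf 2 (⊤ : Subgroup G)) :
    Fu ι (Cen (ι (z k))) (y1 k * r k) (y1 k) ∨
      Fu (ι.comp (al hk)) (Cen (ι (z k))) (y1 k * r k) (y1 k) := by
  obtain ⟨g, φ, m, hT, hz⟩ := step1 hk h hG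
  by_cases hD : φ (r k) ∈ D0 k
  · refine Or.inl (fu_of_Y m hz (mul_mem y1_cen r_cen) ?_)
    rw [m.mul y1_cen r_cen]
    refine (map_y1 hk h m hz).mul ?_
    rcases hD with e | e | e
    · exact absurd e (m.ne_one r_cen (by simp [MB.ext_iff]))
    · exact absurd (m.inj' r_cen z_cen (e.trans hz.symm)) (by simp [MB.ext_iff])
    · exact e
  · obtain ⟨s, hs⟩ := (T_inv hk hT (m.sq_one r_cen r_sq) hD).1
    obtain ⟨g', hg', e⟩ := step2 hk h (mp_conj m s) (by simp only [hz, conj_z]) hs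
    refine Or.inr ⟨g', hg', ?_⟩
    rw [MonoidHom.comp_apply, MonoidHom.comp_apply, map_mul (al hk), al_r, al_of_mem hk (by simp), e]

end Cfsg.Agent.L4
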