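import Mathlib
import Cfsg.Agent.L4.FusT

/-! Fusion of the swaps. -/

set_option autoImplicit false
set_option linter.unusedSectionVars false
set_option linter.unusedSimpArgs false
set_option linter.unnecessarySeqFocus false

namespace Cfsg.Agent.L4

open Cfsg.Agent.Loc.Mss Cfsg.Agent.GW Subgroup Cfsg.Agent.P4 Cfsg.Agent.G2T Cfsg.Agent.Cl.GL2 MB
open scoped MatrixGroups

variable {k : ℕ} {G : Type*} [Group G] [Finite G] {ι : MB k →* G} {H : Subgroup G}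
  {A : Subgroup (MB k)} {g : G} {φ : MB k → MB k} {s x y : MB k} {E : Subgroup (MB k)}

namespace FusS

open FusT

theorem card_half {P : Type*} [Group P] [Finite P] {F : Subgroup P} (M : Subgroup P)
    (h : ∀ x ∈ F, ∀ y ∈ F, x ∉ M → y ∉ M → x * y ∈ M) : Nat.card F ≤ 2 * Nat.card (F ⊓ M : Subgroup P) := by
  by_cases hM : F ≤ M
  · rw [inf_eq_left.2 hM]; omega
  obtain ⟨v, hv, hv'⟩ := SetLike.not_le_iff_exists.1 hM
  have e : (F : Set P) ⊆ ((F ⊓ M : Subgroup P) : Set P) ∪ (fun y => v⁻¹ * y) '' ((F ⊓ M : Subgroup P) : Set P) :=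
    fun y hy => (em (y ∈ M)).imp (fun k => ⟨hy, k⟩) fun k => ⟨v * y, ⟨mul_mem hv hy, h v hv y hy hv' k⟩, by simp⟩
  change Nat.card (F : Set P) ≤ 2 * Nat.card ((F ⊓ M : Subgroup P) : Set P)
  rw [Nat.card_coe_set_eq, Nat.card_coe_set_eq, two_mul]
  exact (Set.ncard_le_ncard e).trans ((Set.ncard_union_le _ _).trans
    (Nat.add_le_add_left (Set.ncard_image_le (Set.toFinite _)) _))

theorem two_ext {a b : R k} (ha : a + a = 0) (hb : b + b = 0) (h : a = 0 ↔ b = 0) : a = b := by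
  have := hf_ne (k := k)
  rcases (two_eq_zero (x := a)).1 (by linear_combination ha) with rfl | rfl <;>
    rcases (two_eq_zero (x := b)).1 (by linear_combination hb) with rfl | rfl <;> simp_all

theorem T_sq {x : MB k} (hx : x ∈ T k) (xx : x * x = 1) :
    x.a + x.a = 0 ∧ x.b + x.b = 0 ∧ x.c + x.c = 0 := by
  simpa [MB.ext_iff, hx.1, hx.2.1, hx.2.2] using xx

open Classical in
theorem card_le {F : Subgroup (MB k)} (hT : F ≤ T k) (h2 : ∀ x ∈ F, x * x = 1) {β : Type} [Fintype β]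
    (f : Prop → Prop → Prop → β) (h : ∀ x ∈ F, ∀ y ∈ F, f (x.a = 0) (x.b = 0) (x.c = 0) = f (y.a = 0) (y.b = 0) (y.c = 0) →
      (x.a = 0 ↔ y.a = 0) ∧ (x.b = 0 ↔ y.b = 0) ∧ (x.c = 0 ↔ y.c = 0)) : Nat.card F ≤ Fintype.card β := by
  rw [← Nat.card_eq_fintype_card]
  refine Nat.card_le_card_of_injective (fun x : F => f (x.1.a = 0) (x.1.b = 0) (x.1.c = 0)) fun x y e => ?_
  obtain ⟨e1, e2, e3⟩ := h _ x.2 _ y.2 e
  obtain ⟨a1, a2, a3⟩ := T_sq (hT x.2) (h2 _ x.2)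
  obtain ⟨b1, b2, b3⟩ := T_sq (hT y.2) (h2 _ y.2)
  exact Subtype.ext ((T_ext (hT x.2) (hT y.2)).2 ⟨two_ext a1 b1 e1, two_ext a2 b2 e2, two_ext a3 b3 e3⟩)

theorem card8 {F : Subgroup (MB k)} (hT : F ≤ T k) (h2 : ∀ x ∈ F, x * x = 1) : Nat.card F ≤ 8 := by
  simpa using card_le hT h2 (fun a b c => (a, b, c)) (by simp)

theorem card4 {F : Subgroup (MB k)} (hT : F ≤ T k) (h2 : ∀ x ∈ F, x * x = 1)
    (h : (∀ x ∈ F, x.a = 0) ∨ (∀ x ∈ F, x.b = 0) ∨ ∀ x ∈ F, x.a = x.b) : Nat.card F ≤ 4 := by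
  rcases h with h | h | h
  · simpa using card_le hT h2 (fun a b c => (b, c)) fun x hx y hy => by simp [h x hx, h y hy]
  · simpa using card_le hT h2 (fun a b c => (a, c)) fun x hx y hy => by simp [h x hx, h y hy]
  · simpa using card_le hT h2 (fun a b c => (a, c)) fun x hx y hy => by simp [h x hx, h y hy]

theorem card2 {F : Subgroup (MB k)} (hT : F ≤ T k) (h2 : ∀ x ∈ F, x * x = 1)
    (h : ∀ x ∈ F, x.a = 0 ∧ x.b = 0) : Nat.card F ≤ 2 := by
  simpa using card_le hT h2 (fun a b c => c) fun x hx y hy => by simp [h x hx, h y hy]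

theorem card_D0 : Nat.card (D0 k) = 4 := by
  refine le_antisymm (card4 D0_le_T (fun _ => D0_sq) (.inr (.inr ?_))) ?_
  · rintro _ (rfl | rfl | rfl | rfl) <;> simp
  · have := hf_ne (k := k)
    refine le_trans (by simp) (Nat.card_le_card_of_injective (fun i : Bool × Bool => (⟨cond i.1 (t k) 1 * cond i.2 (z k) 1,
      mul_mem (by cases i.1 <;> simp [mem_D0]) (by cases i.2 <;> simp [mem_D0])⟩ : D0 k)) ?_)
    rintro ⟨_ | _, _ | _⟩ ⟨_ | _, _ | _⟩ <;> simp [MB.ext_iff, this, this.symm]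

theorem fix_p {x w : MB k} (hx : x ∈ T k) (hw : w.p = true) (ww : w * w = 1) (c : x * w = w * x) :
    (w.e = true ∧ x.a = 0) ∨ (w.e = false ∧ x.b = 0) := by
  obtain ⟨h1, h2, h3⟩ := hx
  rcases w with ⟨a, b, c', _ | _, _ | _, _ | _, ev⟩ <;> simp [MB.ext_iff, h1, h2, h3] at hw ww c ⊢
  · linear_combination c.2.2
  · linear_combination c.2.2

theorem fix_w {x w : MB k} (hx : x ∈ T k) (xx : x * x = 1) (hw : w.p = false) (hw' : w ∉ T k)
    (c : x * w = w * x) : x.a = x.b := by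
  obtain ⟨a1, a2, a3⟩ := T_sq hx xx
  obtain ⟨h1, h2, h3⟩ := hx
  rcases w with ⟨a, b, c', _ | _, _ | _, _ | _, ev⟩ <;> simp [MB.ext_iff, h1, h2, h3] at hw hw' c ⊢
  · linear_combination c.1
  · linear_combination c.1 - a2
  · linear_combination c.2.2 - a2

theorem half_U (F : Subgroup (MB k)) : Nat.card F ≤ 2 * Nat.card (F ⊓ U k : Subgroup _) :=
  card_half _ fun x _ y _ hx hy => by simp_all

theorem half_S0 (F : Subgroup (MB k)) : Nat.card F ≤ 2 * Nat.card (F ⊓ S0 k : Subgroup _) :=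
  card_half _ fun x _ y _ hx hy => by
    rcases x with ⟨_, _, _, _ | _, _ | _, _ | _, _⟩ <;> rcases y with ⟨_, _, _, _ | _, _ | _, _ | _, _⟩ <;> simp_all

theorem half_T {F : Subgroup (MB k)} (h1 : F ≤ U k) (h2 : F ≤ S0 k) :
    Nat.card F ≤ 2 * Nat.card (F ⊓ T k : Subgroup _) :=
  card_half _ fun x hx' y hy' hx hy => by
    have := h1 hx'
    have := h1 hy'
    have := h2 hx'
    have := h2 hy'
    rcases x with ⟨_, _, _, _ | _, _ | _, _ | _, _⟩ <;> rcases y with ⟨_, _, _, _ | _, _ | _, _ | _, _⟩ <;> simp_all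

theorem e16_sq (hE : E16 E) (hx : x ∈ E) : x * x = 1 := by rw [← pow_two, hE.1.2 x hx]

theorem le_U (hE : E16 E) : E ≤ U k := by
  intro w hw
  by_contra hp
  have hp : w.p = true := by simpa using hp
  have ww := e16_sq hE hw
  have hS : E ≤ S0 k := fun x hx => by
    have c := hE.1.comm hx hw
    rcases x with ⟨_, _, _, _ | _, _ | _, _ | _, _⟩ <;> rcases w with ⟨_, _, _, _ | _, _ | _, _ | _, _⟩ <;>
      simp [MB.ext_iff] at c hp ww ⊢
  have h1 := half_U E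
  have h2 := half_T (F := E ⊓ U k) inf_le_right (inf_le_left.trans hS)
  have h3 : ∀ x ∈ E ⊓ U k ⊓ T k, (w.e = true ∧ x.a = 0) ∨ (w.e = false ∧ x.b = 0) := fun x hx =>
    fix_p hx.2 hp ww (hE.1.comm hx.1.1 hw)
  have h4 : ∀ x ∈ E ⊓ U k ⊓ T k, x * x = 1 := fun x hx => e16_sq hE hx.1.1
  rw [hE.2] at h1
  by_cases hT : E ⊓ U k ≤ T k
  · have := card4 inf_le_right h4 (by
      cases e : w.e
      · exact .inr (.inl fun x hx => by simpa [e] using h3 x hx)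
      · exact .inl fun x hx => by simpa [e] using h3 x hx)
    rw [inf_eq_left.2 hT] at this
    omega
  · obtain ⟨v, hv, hv'⟩ := SetLike.not_le_iff_exists.1 hT
    have := card2 inf_le_right h4 fun x hx => by
      have e := fix_w hx.2 (h4 x hx) hv.2 hv' (hE.1.comm hx.1.1 hv.1)
      rcases h3 x hx with e' | e'
      exacts [⟨e'.2, e ▸ e'.2⟩, ⟨e ▸ e'.2, e'.2⟩]
    omega

theorem mem_Q_of_U (hx : x ∈ S0 k) (hU : x ∈ U k) (hT : x ∉ T k) (xx : x * x = 1) : x ∈ Q k := by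
  rcases x with ⟨a, b, c, _ | _, _ | _, _ | _, _⟩ <;> simp [MB.ext_iff] at hx hU hT xx ⊢
  linear_combination xx

end FusS

open FusS FusT

theorem MB.e16_le (hE : E16 E) : D0 k ≤ E ∧ E ≤ U k ∧ E ⊓ S0 k ≤ Q k ∧ E ⊓ T k ≤ D0 k := by
  have hU := le_U hE
  have h4 : ∀ x ∈ E ⊓ T k, x * x = 1 := fun x hx => e16_sq hE hx.1
  obtain ⟨v, hv, hv'⟩ := SetLike.not_le_iff_exists.1 (show ¬ E ≤ T k from fun h => by
    have := card8 h fun x hx => e16_sq hE hx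
    rw [hE.2] at this
    omega)
  have hD : E ⊓ T k ≤ D0 k := fun x hx => by
    obtain ⟨a1, -, a3⟩ := T_sq hx.2 (h4 x hx)
    exact mem_D0_of hx.2 (fix_w hx.2 (h4 x hx) (hU hv) hv' (hE.1.comm hx.1 hv))
      (two_eq_zero.1 (by linear_combination a1)) (two_eq_zero.1 (by linear_combination a3))
  have h1 := half_S0 E
  have h2 := half_T (F := E ⊓ S0 k) (inf_le_left.trans hU) inf_le_right
  have h3 : Nat.card (E ⊓ S0 k ⊓ T k : Subgroup _) ≤ Nat.card (E ⊓ T k : Subgroup _) :=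
    card_le_of_le (inf_le_inf_right _ inf_le_left)
  rw [hE.2] at h1
  refine ⟨(GT.PG.eq_of_le_of_card_le hD (by rw [card_D0]; omega)).ge.trans inf_le_left, hU, fun x hx => ?_, hD⟩
  by_cases hT : x ∈ T k
  · exact D0_le_Q (hD ⟨hx.1, hT⟩)
  · exact mem_Q_of_U hx.2 (hU hx.1) hT (e16_sq hE hx.1)

namespace FusS

theorem D0_cent (hx : x ∈ U k) : x ∈ 𝐂[D0 k] := mem_cent.2 (by
  rintro _ (rfl | rfl | rfl | rfl)
  · simp
  · exact (z_comm x).symm
  · exact comm_t.2 hx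
  · rw [mul_assoc, ← z_comm, ← mul_assoc, comm_t.2 hx, mul_assoc])

theorem e16_mk {w : MB k} (hs : s ∉ S0 k) (ss : s * s = 1) (hw : w ∈ S0 k) (hw' : w ∉ T k) (hU : w ∈ U k)
    (ww : w * w = 1) (c : s * w = w * s) : ∃ E, E16 E ∧ s ∈ E ∧ w ∈ E := by
  have sU : s ∈ U k := by
    rcases s with ⟨_, _, _, _ | _, _ | _, _ | _, _⟩ <;> simp [MB.ext_iff] at hs ss ⊢
  have e0 : IsElementaryAbelian 2 (D0 k) :=
    ⟨⟨⟨fun a b => Subtype.ext (T_comm (D0_le_T a.2) (D0_le_T b.2))⟩⟩, fun a ha => by rw [pow_two, D0_sq ha]⟩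
  have c1 := D0_cent hU
  have c2 : s ∈ 𝐂[D0 k ⊔ zpowers w] := by
    rw [cent_sup, GT.centralizer_zpowers]
    exact ⟨D0_cent sU, mem_centralizer_singleton_iff.2 c⟩
  refine ⟨D0 k ⊔ zpowers w ⊔ zpowers s, ⟨(e0.sup_zpowers (by rw [pow_two, ww]) c1).sup_zpowers (by rw [pow_two, ss]) c2,
    ?_⟩, mem_sup_right (mem_zpowers _), mem_sup_left (mem_sup_right (mem_zpowers _))⟩
  rw [GT.PG.card_sup_zpowers Nat.prime_two (cent_le_norm _ c2)
      (fun h => hs (sup_le (D0_le_T.trans T_le_S0) (zpowers_le.2 hw) h)) (by rw [pow_two, ss]; exact one_mem _),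
    GT.PG.card_sup_zpowers Nat.prime_two (cent_le_norm _ c1) (fun h => hw' (D0_le_T h))
      (by rw [pow_two, ww]; exact one_mem _), card_D0]

/-- The element `(2, 2, 2)` of the torus. -/
@[simps] def j (k : ℕ) : MB k := ⟨2, 2, 2, false, false, false, by linear_combination four_mm⟩

theorem j_pow : j k ^ 2 ^ k = t k * z k := by
  obtain ⟨h1, h2, h3, h4⟩ := T_pow_mm (show j k ∈ T k by simp)
  rw [T_ext h1 (by simp), h2, h3, h4]
  simp [mul_comm, two_mm]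

/-- The data at the standard swaps. -/
theorem std (h : s = s1 k ∨ s = s2 k) : s * j k = j k * s ∧ ∃ w ∈ S0 k, w ∉ T k ∧ w ∈ U k ∧ w * w = 1 ∧
    w * j k * (w * j k) = 1 ∧ s * w = w * s := by
  rcases h with rfl | rfl
  · refine ⟨by ext <;> simp [add_comm], ⟨0, 0, 0, true, true, false, by simp⟩, by simp, by simp, by simp,
      by ext <;> simp, by ext <;> simp <;> ring, by ext <;> simp [neg_hf]⟩
  · refine ⟨by ext <;> simp <;> ring, ⟨2, 0, 1, true, true, false, by simp⟩, by simp, by simp, by simp,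
      by ext <;> simp <;> ring, by ext <;> simp <;> ring, by ext <;> simp <;> ring⟩

theorem swap_std (hs : s ∉ S0 k) (ss : s * s = 1) : ∃ s', (s' = s1 k ∨ s' = s2 k) ∧ ∃ x, x * s' * x⁻¹ = s :=
  (swap_conj hs ss).elim (fun h => ⟨_, .inl rfl, h.2⟩) fun h => ⟨_, .inr rfl, h.2⟩

theorem std_swap (h : s = s1 k ∨ s = s2 k) : s ∉ S0 k ∧ s * s = 1 := by
  rcases h with rfl | rfl
  exacts [⟨s1_not_mem, s1_sq⟩, ⟨s2_not_mem, s2_sq⟩]

theorem hk_of (h : mm k * hf k = 0) : 1 ≤ k := by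
  rcases k with _ | k
  · exact absurd (by simpa [mm_zero] using h) (hf_ne (k := 0))
  · omega

theorem invol_p (h1 : x.e = false) (h2 : x.f = false) (h3 : x.p = true) (xx : x * x = 1) :
    x ∈ Q k ∨ ∃ (hk : 1 ≤ k) (w : MB k), w * (u hk * r k) * w⁻¹ = x := by
  obtain ⟨a, b, c, _, _, _, ev⟩ := x
  simp only at h1 h2 h3
  subst h1 h2 h3
  simp [MB.ext_iff] at xx
  obtain rfl : b = 2 * c := by linear_combination -xx.2
  rcases (two_eq_zero (x := a)).1 (by linear_combination xx.1) with rfl | rfl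
  · exact .inl (by simp)
  · refine .inr ⟨hk_of (by linear_combination -ev + c * four_mm), ⟨c, c, 0, false, false, false, by simp⟩, ?_⟩
    ext <;> simp <;> ring

theorem mp_e16 {B : Subgroup (MB k)} (m : Mp ι A H g B φ) (hE : E16 E) (hB : E ≤ B) :
    ∃ E', E16 E' ∧ ∀ x ∈ E, φ x ∈ E' := by
  let f : E →* MB k := MonoidHom.mk' (fun x => φ x) fun a b => m.mul (hB a.2) (hB b.2)
  have hf : Function.Injective f := fun a b e => Subtype.ext (m.inj' (hB a.2) (hB b.2) e)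
  refine ⟨f.range, ⟨⟨⟨⟨?_⟩⟩, ?_⟩, ?_⟩, fun x hx => ⟨⟨x, hx⟩, rfl⟩⟩
  · rintro ⟨_, a, rfl⟩ ⟨_, b, rfl⟩
    exact Subtype.ext ((m.comm (hB a.2) (hB b.2)).2 (hE.1.comm a.2 b.2))
  · rintro _ ⟨a, rfl⟩
    rw [pow_two]
    exact m.sq_one (hB a.2) (e16_sq hE a.2)
  · rw [← hE.2]
    exact (Nat.card_congr (MonoidHom.ofInjective hf).toEquiv).symm

theorem le_cen (hE : E16 E) (hs : s ∈ E) : E ≤ ⊤ ⊓ Cen s := fun _ hx => mem_cenT.2 (hE.1.comm hs hx)

theorem sq_ne_z (hs : s ∉ S0 k) : s * s ≠ z k := by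
  have := hf_ne (k := k)
  intro e
  rcases s with ⟨a, b, c, _ | _, _ | _, _ | _, _⟩ <;> simp [MB.ext_iff] at hs e
  · exact this (by linear_combination e.1 - e.2.2)
  · exact this e.2.2.symm

theorem sq_ne_z' (hs : s ∉ S0 k) (ss : s * s = 1) (c : s * x = x * s) : x * x ≠ z k := by
  by_cases hx : x ∈ S0 k
  · intro e
    refine sq_ne_z (s := s * x) (fun h => hs (((S0 k).mul_mem_cancel_right hx).1 h)) ?_
    rw [mul_assoc, ← mul_assoc x, ← c, mul_assoc, e, ← mul_assoc, ss, one_mul]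
  · exact sq_ne_z hx

theorem sq_a {w : MB k} (hw : w ∈ S0 k) (hw' : w ∉ T k) (hU : w ∈ U k) (ww : w * w = 1) (hx : x ∈ U k)
    (c : w * x = x * w) : x * x ∈ T k ∧ (x * x).a = 0 := by
  rcases w with ⟨a', b', c', _ | _, _ | _, _ | _, _⟩ <;> simp at hw hw' hU
  rcases x with ⟨a, b, c, _ | _, _ | _, _ | _, _⟩ <;> simp [MB.ext_iff] at hx c ww ⊢
  · linear_combination -c.1
  · linear_combination -c.2.2 + ww
  · linear_combination -c.1 + c.2.2 - ww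

end FusS

theorem MB.exists_e16 (hs : s ∉ S0 k) (ss : s * s = 1) : ∃ E, E16 E ∧ s ∈ E := by
  obtain ⟨s', h, x, rfl⟩ := swap_std hs ss
  obtain ⟨-, w, h1, h2, h3, h4, -, h5⟩ := std h
  obtain ⟨E, hE, h6, -⟩ := e16_mk (std_swap h).1 (std_swap h).2 h1 h2 h3 h4 h5
  exact ⟨cj(x, E), ⟨hE.1.map _, by rw [card_cj, hE.2]⟩, conj_mem_cj h6⟩

/-- The involutions of `S0`. -/
theorem MB.inv_cases (hx : x ∈ S0 k) (xx : x * x = 1) :
    x ∈ Q k ∨ ∃ (hk : 1 ≤ k) (w : MB k), w * u hk * w⁻¹ = x ∨ w * (u hk * r k) * w⁻¹ = x := by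
  by_cases hT : x ∈ T k
  · obtain ⟨a1, a2, a3⟩ := T_sq hT xx
    by_cases e : x.a = x.b
    · exact .inl ⟨hx, show 2 * x.c - x.a - x.b = 0 by linear_combination a3 - a1 + e⟩
    have hk : 1 ≤ k := hk_of (by
      have e1 : x.b - x.a = hf k := ((two_eq_zero (x := x.b - x.a)).1 (by linear_combination a2 - a1)).resolve_left
        fun h => e (by linear_combination -h)
      linear_combination x.ev - mm k * e1 - mm k * a3)
    obtain ⟨w, hw⟩ := (T_inv hk hT xx fun h => e (by rcases h with rfl | rfl | rfl | rfl <;> simp)).1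
    exact .inr ⟨hk, w⁻¹, .inl (by rw [← hw]; group)⟩
  by_cases hU : x ∈ U k
  · exact .inl (mem_Q_of_U hx hU hT xx)
  have hp : x.p = true := by simpa using hU
  cases he : x.e
  · exact (invol_p he (hx.symm.trans he) hp xx).imp_right fun ⟨hk, w, e⟩ => ⟨hk, w, .inr e⟩
  · have hf' : x.f = true := hx.symm.trans he
    rcases invol_p (x := (s1 k)⁻¹ * x * (s1 k)⁻¹⁻¹) (by simp [he, hf', hp]) (by simp [he, hf', hp]) (by simp [hp])
      (by rw [conj_mul, xx]; simp) with e | ⟨hk, w, e⟩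
    · exact .inl (by simpa [mul_assoc] using (inferInstance : (Q k).Normal).conj_mem _ e (s1 k))
    · exact .inr ⟨hk, s1 k * w, .inr (by rw [← cj_cj', e]; group)⟩

theorem MB.conj_of_comm (hx : x ∉ S0 k) (hy : y ∉ S0 k) (xx : x * x = 1) (yy : y * y = 1)
    (c : x * y = y * x) : ∃ w, w * x * w⁻¹ = y := by
  have h1 : x * y ∈ S0 k := by
    rcases x with ⟨_, _, _, _ | _, _ | _, _ | _, _⟩ <;> rcases y with ⟨_, _, _, _ | _, _ | _, _ | _, _⟩ <;>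
      simp at hx hy ⊢
  have h2 : hf k * (x * y).a = 0 := inv_ev h1 (by
    rw [mul_assoc, ← mul_assoc y, ← c, mul_assoc, yy, mul_one, xx])
  rw [ev_mul_a] at h2
  have h3 : Ev x.a ↔ Ev y.a := ⟨fun e => by unfold Ev at *; linear_combination h2 - e,
    fun e => by unfold Ev at *; linear_combination h2 - e⟩
  rcases swap_conj hx xx with ⟨e, a, rfl⟩ | ⟨e, a, rfl⟩ <;> rcases swap_conj hy yy with ⟨e', b, rfl⟩ | ⟨e', b, rfl⟩
  · exact ⟨b * a⁻¹, by group⟩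
  · exact absurd (h3.1 e) e'
  · exact absurd (h3.2 e') e
  · exact ⟨b * a⁻¹, by group⟩

theorem mem_Q_of_swap (hs : s ∉ S0 k) (ss : s * s = 1) (m : Mp ι A H g (⊤ ⊓ Cen s) φ)
    (h : φ s ∈ S0 k) : φ s ∈ Q k := by
  obtain ⟨E, hE, hs'⟩ := exists_e16 hs ss
  obtain ⟨E', hE', h'⟩ := mp_e16 m hE (le_cen hE hs')
  exact (e16_le hE').2.2.1 ⟨h' s hs', h⟩

theorem not_fu_swap (hk : 1 ≤ k) (h : Sy ι ⊤ H) (hz : H ≤ Cen (ι (z k))) (hs : s ∉ S0 k)
    (ss : s * s = 1) (hy : y ∈ S0 k) : ¬ Fu ι H s y := by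
  intro f
  obtain ⟨s', h0, x, rfl⟩ := swap_std hs ss
  replace f := (Fu.of_conj x (h.mem trivial) rfl).trans f
  clear hs ss
  obtain ⟨hs, ss⟩ := std_swap h0
  obtain ⟨cj', w, w1, w2, w3, w4, w5, w6⟩ := std h0
  obtain ⟨g₁, g₂, φ₁, φ₂, m₁, m₂, e⟩ := h.two trivial trivial f
  have z1 : z k ∈ ⊤ ⊓ Cen s' := mem_cenT.2 (z_comm _)
  have z2 : z k ∈ ⊤ ⊓ Cen y := mem_cenT.2 (z_comm _)
  have s0 : s' ∈ ⊤ ⊓ Cen s' := self_cenA trivial
  have ez1 : φ₁ (z k) = z k := (m₁.fu z1).eq_of_cen h.inj hz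
  have ez2 : φ₂ (z k) = z k := (m₂.fu z2).eq_of_cen h.inj hz
  have sq := m₁.sq_one s0 ss
  have hS : φ₁ s' ∈ S0 k := by
    by_contra hn
    obtain ⟨a, ea⟩ := exists_c4 hk
    have c4c : c4 hk ∈ ⊤ ⊓ Cen y := mem_cenT.2 (ea ▸ cc_comm hy a)
    refine sq_ne_z' hn sq (x := φ₂ (c4 hk)) ?_ ((m₂.sq c4c (c4_sq hk)).trans ez2)
    rw [e]
    exact (m₂.comm (self_cenA trivial) c4c).2 (mem_cenT.1 c4c)
  have hj : j k ∈ ⊤ ⊓ Cen s' := mem_cenT.2 cj'
  have jT : j k ∈ T k := by simp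
  obtain ⟨E₁, hE₁, a1, a2⟩ := e16_mk hs ss w1 w2 w3 w4 w6
  obtain ⟨E₂, hE₂, b1, b2⟩ := e16_mk hs ss (mul_mem w1 (T_le_S0 jT)) (fun h => w2 (((T k).mul_mem_cancel_right jT).1 h))
    (mul_mem w3 (T_le_U jT)) w5 (by rw [← mul_assoc, w6, mul_assoc, cj', mul_assoc])
  obtain ⟨F₁, hF₁, f1⟩ := mp_e16 m₁ hE₁ (le_cen hE₁ a1)
  obtain ⟨F₂, hF₂, f2⟩ := mp_e16 m₁ hE₂ (le_cen hE₂ b1)
  have hw := le_cen hE₁ a1 a2
  have hD : D0 k ≤ ⊤ ⊓ Cen s' := (e16_le hE₁).1.trans (le_cen hE₁ a1)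
  have hJ : φ₁ (j k) ∈ U k := by
    have := (e16_le hF₂).2.1 (f2 _ b2)
    rwa [m₁.mul hw hj, (U k).mul_mem_cancel_left ((e16_le hF₁).2.1 (f1 _ a2))] at this
  obtain ⟨n, hn⟩ : ∃ n, φ₁ (t k * z k) = (φ₁ (j k) * φ₁ (j k)) ^ n := by
    rw [← j_pow, m₁.pow hj]
    obtain ⟨i, rfl⟩ := Nat.exists_eq_add_of_le' hk
    exact ⟨_, pow_succ_eq _ _⟩
  have hJT : φ₁ (j k) * φ₁ (j k) ∈ T k := by
    generalize φ₁ (j k) = J at hJ
    rcases J with ⟨_, _, _, _ | _, _ | _, _ | _, _⟩ <;> simp at hJ ⊢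
  have tz : t k * z k ∈ D0 k := .inr (.inr (.inr rfl))
  have hv : φ₁ (t k * z k) ∈ D0 k := (e16_le hF₁).2.2.2 ⟨f1 _ ((e16_le hE₁).1 tz), hn ▸ pow_mem hJT n⟩
  by_cases hT : φ₁ s' ∈ T k
  · obtain ⟨d, hd, ed⟩ := surj_of_inj (C := D0 k) (φ := φ₁) (by
      rintro _ (rfl | rfl | rfl | rfl)
      · rw [m₁.one]; exact one_mem _
      · rw [ez1]; exact .inr (.inl rfl)
      · rw [show t k = t k * z k * z k by rw [mul_assoc, z_sq, mul_one], m₁.mul (hD tz) z1, ez1]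
        exact mul_mem hv (.inr (.inl rfl))
      · exact hv) (fun a ha b hb => m₁.inj' (hD ha) (hD hb)) ((e16_le hF₁).2.2.2 ⟨f1 _ a1, hT⟩)
    exact hs (m₁.inj' (hD hd) s0 ed ▸ T_le_S0 (D0_le_T hd))
  · have h1 := (sq_a hS hT ((e16_le hF₁).2.1 (f1 _ a1)) sq hJ ((m₁.comm s0 hj).2 cj')).2
    have h2 : (φ₁ (t k * z k)).a = 0 := by rw [hn, (T_pow hJT n).1, h1, mul_zero]
    rcases hv with e' | e' | e' | e'
    · exact m₁.ne_one (hD tz) tz_ne e'
    · exact tz_ne_z (m₁.inj' (hD tz) z1 (e'.trans ez1.symm))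
    · exact hf_ne (k := k) (by simpa [e'] using h2)
    · exact hf_ne (k := k) (by simpa [e'] using h2)

theorem exists_fb (hk : 1 ≤ k) (h : Sy ι ⊤ ⊤) (hG : ∀ g, g ∈ pResidualOf 2 (⊤ : Subgroup G)) :
    ∃ ι' : MB k →* G, Fb ι' := by
  have key : ∀ ι' : MB k →* G, Sy ι' ⊤ ⊤ → Fu ι' (Cen (ι' (z k))) (y1 k * r k) (y1 k) → Fb ι' := fun ι' h' f => by
    have h1 : Sy ι' ⊤ (Cen (ι' (z k))) := ⟨h'.inj, h'.syl.mono (by
      rintro _ ⟨a, -, rfl⟩
      exact cen_z_top a) le_top⟩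
    exact ⟨h', fun y hy => not_fu_swap hk h1 le_rfl s1_not_mem s1_sq hy,
      fun y hy => not_fu_swap hk h1 le_rfl s2_not_mem s2_sq hy, .inl ⟨hk, f⟩⟩
  rcases fu_or_al hk h hG with f | f
  · exact ⟨ι, key ι h f⟩
  · have hb : Function.Bijective (al hk) := Function.Involutive.bijective (al_al hk)
    refine ⟨_, key (ι.comp (al hk)) ⟨h.inj.comp hb.1, ?_⟩ (by rwa [MonoidHom.comp_apply, al_z])⟩
    rw [← map_map, map_top_of_surjective _ hb.2]
    exact h.syl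

end Cfsg.Agent.L4
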