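import Mathlib
import Cfsg.Agent.L4.BDefs
import Cfsg.Agent.L4.Basic
import Cfsg.Agent.P4.LocA

/-! From `La` to `Cz`. -/

set_option autoImplicit false
set_option linter.unusedSectionVars false
set_option linter.unusedVariables false

namespace Cfsg.Agent.L4

open Cfsg.Agent.Loc.Mss Cfsg.Agent.GW Subgroup Cfsg.Agent.P4 Cfsg.Agent.G2T Cfsg.Agent.Cl.GL2 MB
open scoped MatrixGroups

variable {k : ℕ} {X : Type*} [Group X] [Finite X] {κ : MB k →* X} {F : Type} [Field F] [Fintype F]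
  {σ : SL(2, F) →* X}

theorem aut_fix (hF : Odd (Fintype.card F)) (α : SL(2, F) ≃* SL(2, F)) {j : ℕ} (hα : α ^ 2 ^ j = 1)
    {h b : SL(2, F)} {n : ℕ} (h2 : h ^ 2 ^ (n + 1) = -1) (hb : b * b = -1) (hi : b * h * b⁻¹ = h⁻¹)
    (h1 : α h = h) (h1' : α b = b) (hs : ∀ c : SL(2, F), c * c ≠ h ∧ c * c ≠ -h) : α = 1 := by
  induction j generalizing α with
  | zero => simpa using hα
  | succ j ih =>
  have e2 : α * α = 1 := ih (α * α) (by rw [← sq, ← pow_mul, ← pow_succ', hα])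
    (by rw [MulAut.mul_apply, h1, h1]) (by rw [MulAut.mul_apply, h1', h1'])
  have e2' : ∀ a, α (α a) = a := fun a => by rw [← MulAut.mul_apply, e2]; rfl
  obtain ⟨g, τ, hg⟩ := SL.rep α
  by_cases hτ : ∀ x, τ x = x
  · obtain rfl : τ = 1 := RingEquiv.ext hτ
    simp only [G2I.smap_one] at hg
    have aa : h ^ 2 ^ n * h ^ 2 ^ n = -1 := by rw [← pow_add, ← two_mul, ← pow_succ', h2]
    have an : Anti (tG (h ^ 2 ^ n)) (tG b) := SL.anti_iff.2 (by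
      have e : b * h ^ 2 ^ n * b⁻¹ = -h ^ 2 ^ n := by
        rw [← conj_pow, hi, inv_pow]
        exact inv_eq_of_mul_eq_one_right (by rw [mul_neg, aa, neg_neg])
      rw [mul_inv_eq_iff_eq_mul.1 e, neg_mul, neg_neg])
    have sc := scal_of_comm hF an (N := g) (cjM_eq_iff.1 (by rw [← hg, map_pow, h1]))
      (cjM_eq_iff.1 (by rw [← hg, h1']))
    exact MulEquiv.ext fun a => by rw [hg, cjM_scal sc]; rfl
  exfalso
  have U : Cl.UInvol (τ : F →+* F) := ⟨fun x => by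
    obtain ⟨s, rfl⟩ := SL.ex_tr x
    change τ (τ _) = _
    rw [← SL.tr_rep hg, ← SL.tr_rep hg, e2'], not_forall.1 hτ⟩
  by_cases h0 : tr (tG h) + 2 = 0
  · have e : tr (tG (-h)) + 2 = 2 * 2 := by
      rw [show tr (tG (-h)) = -tr (tG h) from Matrix.trace_neg _]; linear_combination -h0
    obtain ⟨c, hc⟩ := SL.sqrt_of (h := -h) ⟨2, e⟩ (e ▸ mul_ne_zero (SL.two hF) (SL.two hF))
    exact (hs c).2 hc
  obtain ⟨w, hw⟩ := U.exists_norm_eq (a := tr (tG h) + 2) (by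
    change τ _ = _
    rw [map_add, ← SL.tr_rep hg, h1, map_ofNat])
  obtain ⟨c, hc⟩ := SL.sqrt_of (h := h) (by
    rw [← hw, mul_comm]
    exact G2I.isSquare_map_mul τ fun e => h0 (by rw [← hw, e, zero_mul])) h0
  exact (hs c).1 hc

namespace ToCz

variable {φ : SL(2, F) →* X} {g c x : X}

theorem ex_aut (hi : Function.Injective φ) (hg : g ∈ 𝐍[φ.range]) :
    ∃ α : SL(2, F) ≃* SL(2, F), (∀ a, g * φ a * g⁻¹ = φ (α a)) ∧
      ∀ n : ℕ, g ^ n = 1 → α ^ n = 1 := by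
  choose α hα using fun a => conj_mem_of_norm hg (show φ a ∈ φ.range from ⟨a, rfl⟩)
  have hj : Function.Injective α := fun a b e =>
    hi ((MulAut.conj g).injective ((hα a).symm.trans (e ▸ hα b)))
  obtain ⟨β, hβ⟩ : ∃ β : SL(2, F) ≃* SL(2, F), ∀ a, g * φ a * g⁻¹ = φ (β a) :=
    ⟨MulEquiv.ofBijective (MonoidHom.mk' α fun a b => hi (by
      rw [map_mul, hα, hα, hα, map_mul, conj_mul])) (Finite.injective_iff_bijective.1 hj),
      fun a => (hα a).symm⟩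
  have e : ∀ (n : ℕ) a, g ^ n * φ a * (g ^ n)⁻¹ = φ ((β ^ n) a) := fun n => by
    induction n with
    | zero => simp
    | succ n ih => intro a; rw [pow_succ β, MulAut.mul_apply, ← ih, ← hβ, pow_succ]; group
  exact ⟨β, hβ, fun n hn => MulEquiv.ext fun a => hi (by rw [← e, hn]; simp)⟩

theorem conj_comm (hg : g ∈ 𝐍[φ.range]) (hc : ∀ a, Commute c (φ a)) (a : SL(2, F)) :
    Commute (g * c * g⁻¹) (φ a) := by
  obtain ⟨b, hb⟩ := conj_mem_of_norm' hg (show φ a ∈ φ.range from ⟨a, rfl⟩)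
  have e : φ a = g * φ b * g⁻¹ := by rw [hb]; group
  rw [e]
  exact (hc b).map (MulAut.conj g)

theorem ind_conj (hi : Function.Injective φ) (hg : g ∈ 𝐍[φ.range]) {M : GL (Fin 2) F}
    (e : Ind φ (g * x * g⁻¹) M) : ∃ M', Ind φ x M' ∧ (IsSquare (dt M') ↔ IsSquare (dt M)) := by
  obtain ⟨α, hα, -⟩ := ex_aut hi hg
  obtain ⟨M', e1, e2⟩ := aut_ind α M
  refine ⟨M', fun a => (MulAut.conj g).injective ?_, e2⟩
  change g * _ * g⁻¹ = g * _ * g⁻¹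
  rw [hα, e1, ← e, ← hα]; group

theorem Q1_pow {c : PS k} (hc : c ∈ PS.Q1 k) : c ^ 2 ^ (k + 2) = 1 := by
  obtain ⟨a, rfl | rfl⟩ := hc
  · rw [pow_succ, pow_mul, PS.d1_pow, PS.cast_hf, sq, PS.d1_mul]
    ext <;> simp <;> linear_combination a * two_hf
  · rw [show 2 ^ (k + 2) = 2 * (2 * 2 ^ k) by ring, pow_mul, sq, PS.x1_sq, pow_mul, sq, PS.z_sq, one_pow]

theorem conj_d : s1 k * d k * (s1 k)⁻¹ = d k * cc (-1) := by
  ext <;> simp
  ring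

theorem ur_eq (hk : 1 ≤ k) : u hk * r k = em k (PS.x2 (mm k + hf k)) * (c4 hk)⁻¹ := by
  ext <;> simp <;> first | linear_combination -two_mm - 2 * two_hf | linear_combination -two_hf

theorem conj_u (hk : 1 ≤ k) :
    s1 k * r k * (em k (PS.y2 k) * (c4 hk)⁻¹) * (s1 k * r k)⁻¹ = u hk := by
  ext <;> simp
  linear_combination -two_mm - two_hf

end ToCz

open ToCz

namespace La

variable (h : La κ σ)
include h

theorem two_ne : (2 : F) ≠ 0 := SL.two h.odd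

theorem zc (g : X) : Commute g (σ (-1)) := h.hz ▸ (mem_Cen.1 (h.xb.hz (mem_top g))).symm

omit h in
theorem ss : κ (s1 k) * κ (s1 k) = 1 := by rw [← map_mul, s1_sq, map_one]

omit h in
theorem s_inv : (κ (s1 k))⁻¹ = κ (s1 k) := inv_eq_of_mul_eq_one_right ss

theorem tw_inj : Function.Injective (tw σ (κ (s1 k))) := (MulAut.conj (κ (s1 k))).injective.comp h.inj

omit h in
theorem res_conj (g : X) {r : X} (hr : r ∈ pResidualOf 2 (⊤ : Subgroup X)) :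
    g * r * g⁻¹ ∈ pResidualOf 2 (⊤ : Subgroup X) := conj_mem_of_norm (le_norm_res ⊤ (mem_top g)) hr

theorem dec (g : X) : ∃ c, ∃ r ∈ pResidualOf 2 (⊤ : Subgroup X), g = κ c * r := by
  obtain ⟨_, ⟨c, -, rfl⟩, r, hr, rfl⟩ := (mem_sup_norm' (le_top.trans (le_norm_res (p := 2) ⊤))).1
    ((h.xb.sy.syl.res_sup.ge.trans (sup_comm _ _).le) (mem_top g))
  exact ⟨c, r, hr, rfl⟩

theorem dec0 {g : X} (hg : g ∈ 𝐍[σ.range]) :
    ∃ c ∈ S0 k, ∃ r ∈ pResidualOf 2 (⊤ : Subgroup X), g = κ c * r := by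
  obtain ⟨c, r, hr, rfl⟩ := h.dec g
  exact ⟨c, (h.mem c).1 (by simpa using mul_mem hg (inv_mem (h.res hr))), r, hr, rfl⟩

theorem nrm (g : X) : g ∈ 𝐍[σ.range] ∨ g * κ (s1 k) ∈ 𝐍[σ.range] := by
  obtain ⟨c, r, hr, rfl⟩ := h.dec g
  refine (mem_or_mul_s1 c).imp (fun e => mul_mem ((h.mem c).2 e) (h.res hr)) fun e => ?_
  have := mul_mem ((h.mem _).2 e) (h.res (res_conj (κ (s1 k))⁻¹ hr))
  rwa [map_mul, show κ c * κ (s1 k) * ((κ (s1 k))⁻¹ * r * (κ (s1 k))⁻¹⁻¹) = κ c * r * κ (s1 k) by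
    group] at this

theorem conj_s {g : X} (hg : g ∈ 𝐍[σ.range]) : κ (s1 k) * g * (κ (s1 k))⁻¹ ∈ 𝐍[σ.range] := by
  obtain ⟨c, hc, r, hr, rfl⟩ := h.dec0 hg
  rw [← conj_mul, ← map_inv, ← map_mul, ← map_mul, map_inv]
  exact mul_mem ((h.mem _).2 ((inferInstance : (S0 k).Normal).conj_mem c hc _)) (h.res (res_conj _ hr))

theorem conj_norm (x : X) {g : X} (hg : g ∈ 𝐍[σ.range]) : x * g * x⁻¹ ∈ 𝐍[σ.range] := by
  rcases h.nrm x with e | e
  · exact mul_mem (mul_mem e hg) (inv_mem e)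
  · have := mul_mem (mul_mem e (h.conj_s hg)) (inv_mem e)
    rwa [show x * κ (s1 k) * (κ (s1 k) * g * (κ (s1 k))⁻¹) * (x * κ (s1 k))⁻¹ =
      x * (κ (s1 k) * κ (s1 k)) * g * (κ (s1 k) * κ (s1 k))⁻¹ * x⁻¹ by group, ss, mul_one, inv_one,
      mul_one] at this

theorem norm_tw {g : X} (hg : g ∈ 𝐍[σ.range]) : g ∈ 𝐍[(tw σ (κ (s1 k))).range] := by
  rw [tw, MonoidHom.range_comp, ← cj_norm, mem_cj]
  simpa using h.conj_norm (κ (s1 k))⁻¹ hg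

theorem sy0 : Sy κ (S0 k) 𝐍[σ.range] :=
  h.xb.sy.sub le_top le_top (fun x _ => mem_norm_of_cj_le (cj_le_iff.2 fun _ hg => h.conj_norm x hg))
    fun a _ => h.mem a

theorem ex1 {a : PS k} (ha : a ∈ PS.Q1 k) : ∃ a', σ a' = κ (em k a) := h.sy1.mem ha

theorem ex2 {b : PS k} (hb : b ∈ PS.Q2 k) : ∃ b', tw σ (κ (s1 k)) b' = κ (em k b) := by
  obtain ⟨a, ha⟩ := h.ex1 (PS.conj_s_Q2.2 hb)
  refine ⟨a, ?_⟩
  rw [tw_apply, ha]
  simp only [map_mul, map_inv, em_s, s_inv]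
  calc _ = κ (s1 k) * κ (s1 k) * κ (em k b) * (κ (s1 k) * κ (s1 k)) := by group
    _ = _ := by rw [ss]; simp

theorem exK {q : MB k} (hq : q ∈ Q k) : ∃ a b, κ q = σ a * tw σ (κ (s1 k)) b := by
  obtain ⟨c, hc, rfl⟩ := exists_em_Q hq
  obtain ⟨a, ha, b, hb, rfl⟩ := PS.exists_mul hc
  obtain ⟨a', e⟩ := h.ex1 ha
  obtain ⟨b', e'⟩ := h.ex2 hb
  exact ⟨a', b', by rw [e, e', map_mul, map_mul]⟩

theorem tw_z : tw σ (κ (s1 k)) (-1) = σ (-1) := by rw [tw_apply, (h.zc _).eq, mul_inv_cancel_right]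

theorem pow_one' {a : SL(2, F)} {n : ℕ} (ha : a ^ 2 ^ n = 1) : a ^ 2 ^ (k + 2) = 1 := by
  obtain ⟨g, -, c, hc, e⟩ := h.sy1.conj_mem (x := σ a) ⟨a, rfl⟩ (n := n) (by rw [← map_pow, ha, map_one])
  refine h.inj ((MulAut.conj g).injective ?_)
  change g * _ * g⁻¹ = g * _ * g⁻¹
  rw [map_pow, ← conj_pow, e, ← map_pow, Q1_pow hc]; simp

theorem ex_hb : ∃ a b : SL(2, F), σ a = κ (em k (PS.d1 1)) ∧ σ b = κ (em k (PS.x1 0)) ∧
    a ^ 2 ^ (k + 1) = -1 ∧ b * b = -1 ∧ b * a * b⁻¹ = a⁻¹ ∧ ∀ c, c * c ≠ a ∧ c * c ≠ -a := by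
  obtain ⟨a, ha⟩ := h.ex1 (PS.d1_mem 1)
  obtain ⟨b, hb⟩ := h.ex1 (PS.x1_mem 0)
  have h2 : a ^ 2 ^ (k + 1) = -1 := h.inj (by
    rw [map_pow, ha, ← map_pow, ← map_pow, PS.d1_pow, PS.cast_hf, mul_one, PS.d1_hf, em_z, h.hz])
  have key : ∀ c : SL(2, F), (c * c) ^ 2 ^ (k + 1) ≠ -1 := fun c e => by
    rw [← sq, ← pow_mul, ← pow_succ'] at e
    have := h.pow_one' (a := c) (n := k + 1 + 1 + 1) (by rw [pow_succ, pow_mul, e]; simp)
    exact Inv.SLF.neg_one_ne_one h.two_ne (e.symm.trans this)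
  refine ⟨a, b, ha, hb, h2, h.inj ?_, h.inj ?_, fun c => ⟨fun e => key c (e ▸ h2), fun e => key c ?_⟩⟩
  · rw [map_mul, hb, ← map_mul, ← map_mul, PS.x1_sq, em_z, h.hz]
  · simp only [map_mul, map_inv, ha, hb]
    simp only [← map_mul, ← map_inv]
    congr 2
    ext <;> simp
  · rw [e, Even.neg_pow (by rw [pow_succ]; exact even_two.mul_left _), h2]

theorem cen1 {c : MB k} (hc : c ∈ S0 k) (e : ∀ q ∈ Q k, q * c = c * q) (a : SL(2, F)) :
    Commute (κ c) (σ a) := by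
  obtain ⟨α, hα, hp⟩ := ex_aut h.inj ((h.mem c).2 hc)
  obtain ⟨x, b, hx, hb, h2, bb, hi, hs⟩ := h.ex_hb
  obtain ⟨j, hj⟩ := isPGroup c
  have f : ∀ {y : SL(2, F)} {q}, q ∈ PS.Q1 k → σ y = κ (em k q) → α y = y := fun hq hy => h.inj (by
    rw [← hα, hy, ← map_mul, ← e _ (em_mem_Q.2 (PS.Q1_le hq)), map_mul, mul_inv_cancel_right])
  have := aut_fix h.odd α (hp _ (by rw [← map_pow, hj, map_one])) h2 bb hi (f (PS.d1_mem 1) hx)
    (f (PS.x1_mem 0) hb) hs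
  exact mul_inv_eq_iff_eq_mul.1 (by rw [hα, this]; rfl)

theorem cc_mem_Zt (w : R k) : κ (cc w) ∈ Zt σ (κ (s1 k)) := by
  have e := h.cen1 (T_le_S0 (cc_mem w)) fun q hq => cc_comm (Q_le_S0 hq) w
  refine L4.mem_Zt.2 ⟨e, fun a => ?_⟩
  have := ((e a).inv_left).map (MulAut.conj (κ (s1 k)))
  simp only [MulAut.conj_apply] at this
  rwa [← conj_inv, ← map_inv κ (s1 k), ← map_mul, ← map_mul, conj_cc, map_inv κ (cc w), inv_inv,
    map_inv] at this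

theorem conj_Zt (g : X) {c : X} (hc : c ∈ Zt σ (κ (s1 k))) : g * c * g⁻¹ ∈ Zt σ (κ (s1 k)) := by
  have n : ∀ g ∈ 𝐍[σ.range], ∀ c ∈ Zt σ (κ (s1 k)), g * c * g⁻¹ ∈ Zt σ (κ (s1 k)) := fun g hg c hc =>
    L4.mem_Zt.2 ⟨conj_comm hg (L4.mem_Zt.1 hc).1, conj_comm (h.norm_tw hg) (L4.mem_Zt.1 hc).2⟩
  rcases h.nrm g with e | e
  · exact n g e c hc
  · have : (κ (s1 k))⁻¹ * c * κ (s1 k) ∈ Zt σ (κ (s1 k)) := L4.mem_Zt.2 ⟨fun a => by
      have := ((L4.mem_Zt.1 hc).2 a).map (MulAut.conj (κ (s1 k))⁻¹)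
      simpa [tw_apply, mul_assoc] using this, fun a => by
      have := ((L4.mem_Zt.1 hc).1 a).map (MulAut.conj (κ (s1 k)))
      rw [s_inv]; nth_rewrite 2 [← s_inv]; exact this⟩
    have := n _ e _ this
    rwa [show g * κ (s1 k) * ((κ (s1 k))⁻¹ * c * κ (s1 k)) * (g * κ (s1 k))⁻¹ = g * c * g⁻¹ by group]
      at this

theorem zz : σ (-1) * σ (-1) = 1 := by rw [← map_mul]; simp

theorem z2 : IsPGroup 2 (Zt σ (κ (s1 k))) := fun x => by
  have : Fact (Nat.Prime 2) := ⟨Nat.prime_two⟩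
  obtain ⟨n, hn⟩ := exists_pow_mem_res (p := 2) (mem_top (x : X))
  refine ⟨n + 1, Subtype.ext ?_⟩
  rw [coe_pow, pow_succ, pow_mul, sq]
  rcases h.cen _ hn (pow_mem x.2 _) with e | e <;> rw [e]
  exacts [mul_one _, h.zz]

theorem mem_Zt {x : X} : x ∈ Zt σ (κ (s1 k)) ↔ ∃ w, x = κ (cc w) := by
  refine ⟨fun hx => ?_, fun ⟨w, e⟩ => e ▸ h.cc_mem_Zt w⟩
  obtain ⟨c, -, rfl⟩ := h.xb.sy.syl.le_of_norm h.z2 le_top (fun g _ =>
    mem_norm_of_cj_le (cj_le_iff.2 fun _ hc => h.conj_Zt g hc)) hx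
  obtain ⟨w, rfl⟩ := eq_cc (g := c) fun q hq => h.xb.sy.inj (by
    obtain ⟨a, b, e⟩ := h.exK hq
    rw [map_mul, map_mul, e]
    exact ((((L4.mem_Zt.1 hx).1 a).mul_right ((L4.mem_Zt.1 hx).2 b)).eq).symm)
  exact ⟨w, rfl⟩

theorem comm_Zt {g c : X} (hg : g ∈ 𝐍[σ.range]) (hc : c ∈ Zt σ (κ (s1 k))) : Commute g c := by
  obtain ⟨t, ht, r, hr, rfl⟩ := h.dec0 hg
  have : pResidualOf 2 (⊤ : Subgroup X) ≤ Cen c := res_le_iff.2 fun x _ ho => by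
    refine mem_of_pow_mem (k := 1) ho (mem_Cen.2 ?_)
    have m := mem_res (mem_top x) ho
    rcases h.cen (x * c * x⁻¹ * c⁻¹) (by
      simpa only [mul_assoc] using mul_mem m (res_conj c (inv_mem m)))
      (mul_mem (h.conj_Zt x hc) (inv_mem hc)) with e | e
    · exact (show Commute x c from mul_inv_eq_iff_eq_mul.1 (mul_inv_eq_one.1 e)).symm.pow_right _
    · have e' : x * c = σ (-1) * c * x := by rw [← e]; group
      rw [pow_one, sq]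
      calc c * (x * x) = σ (-1) * (σ (-1) * c * x) * x := by
            rw [← mul_assoc, ← mul_assoc, ← mul_assoc, h.zz, one_mul]
        _ = σ (-1) * x * c * x := by rw [← e', ← mul_assoc]
        _ = x * (σ (-1) * c * x) := by rw [← (h.zc x).eq]; group
        _ = x * x * c := by rw [← e', mul_assoc x x]
  refine Commute.mul_left ?_ (mem_Cen.1 (this hr)).symm
  obtain ⟨w, rfl⟩ := h.mem_Zt.1 hc
  exact (show Commute t (cc w) from cc_comm ht w).map κ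

theorem ind_cc (w : R k) : Ind σ (κ (cc w)) 1 ∧ Ind (tw σ (κ (s1 k))) (κ (cc w)) 1 :=
  ⟨Ind.of_comm (fun a => ((L4.mem_Zt.1 (h.cc_mem_Zt w)).1 a).eq) isScal_one,
    Ind.of_comm (fun a => ((L4.mem_Zt.1 (h.cc_mem_Zt w)).2 a).eq) isScal_one⟩

theorem ind_Q {q : MB k} (hq : q ∈ Q k) :
    ∃ a b, Ind σ (κ q) (tG a) ∧ Ind (tw σ (κ (s1 k))) (κ q) (tG b) := by
  obtain ⟨a, b, e⟩ := h.exK hq
  refine ⟨a, b, e ▸ ?_, e ▸ ?_⟩
  · simpa using (Ind.map σ a).mul (Ind.of_comm (M := 1) (fun x => (h.comm x b).eq.symm) isScal_one)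
  · simpa using (Ind.of_comm (M := 1) (fun x => (h.comm a x).eq) isScal_one).mul (Ind.map _ b)

theorem ind_d : ∃ M, Ind σ (κ (d k)) M ∧ Ind (tw σ (κ (s1 k))) (κ (d k)) M ∧ ¬ IsSquare (dt M) := by
  obtain ⟨α, hα, -⟩ := ex_aut h.inj ((h.mem _).2 (T_le_S0 d_mem))
  obtain ⟨x, b, hx, -, h2, -, -, hs⟩ := h.ex_hb
  obtain ⟨y, hy⟩ := h.ex2 (PS.d2_mem 1)
  obtain ⟨M, e1, e2⟩ := aut_sqrt h.odd α h2 (h.inj (by
    rw [← hα, hx, ← map_mul, T_comm d_mem (b := em k (PS.d1 1)) (by simp), map_mul,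
      mul_inv_cancel_right])) (fun a => h.inj (by
    have := ((Ind.map σ x).mul (Ind.of_comm (M := 1) (fun x => (h.comm x y).eq.symm)
      isScal_one)).mul (h.ind_cc 1).1 a
    rw [mul_one, mul_one, cjM_tG, hx, hy, ← map_mul, ← map_mul, ← d_sq, map_mul] at this
    rw [← this, ← hα, ← hα]; group)) hs
  have i : Ind σ (κ (d k)) M := fun a => by rw [hα, e1]
  refine ⟨M, i, fun a => ?_, e2⟩
  have := i.mul (h.ind_cc (-1)).1 a
  rw [mul_one, ← map_mul, ← conj_d, map_mul, map_mul, map_inv, s_inv] at this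
  rw [tw_apply, tw_apply, ← this, s_inv]
  calc _ = κ (s1 k) * κ (s1 k) * κ (d k) * κ (s1 k) * σ a * κ (s1 k) * (κ (d k))⁻¹ *
      (κ (s1 k) * κ (s1 k)) := by rw [ss]; group
    _ = _ := by rw [mul_inv_rev, mul_inv_rev, s_inv]; group

theorem ind0 {c : MB k} (hc : c ∈ S0 k) :
    ∃ M N, Ind σ (κ c) M ∧ Ind (tw σ (κ (s1 k))) (κ c) N ∧ IsSquare (dt M * dt N) := by
  obtain ⟨q, hq, n, rfl⟩ := exists_Q_d hc
  obtain ⟨a, b, e1, e2⟩ := h.ind_Q hq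
  obtain ⟨M, e3, e4, -⟩ := h.ind_d
  rw [map_mul, map_pow]
  exact ⟨_, _, e1.mul (e3.pow n), e2.mul (e4.pow n), dt (M ^ n), by
    rw [SL.dt_mul, SL.dt_mul, SL.dt_tG, SL.dt_tG, one_mul]⟩

theorem cz : Cz σ (κ (s1 k)) where
  odd := h.odd
  big := h.big
  inj := h.inj
  ss := ss
  sz := h.zc _
  comm := h.comm
  nrm g _ := h.nrm g
  gl g hg := by
    obtain ⟨n, m, hm, e⟩ := Nat.exists_eq_two_pow_mul_odd (orderOf_pos g).ne'
    obtain ⟨x, hx, c, hc, e'⟩ := h.sy0.conj_mem (pow_mem hg m) (n := n)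
      (by rw [← pow_mul, mul_comm, ← e, pow_orderOf_eq_one])
    obtain ⟨M, N, e1, e2, e3⟩ := h.ind0 hc
    obtain ⟨M', f1, f2⟩ := ind_conj h.inj hx (e' ▸ e1)
    obtain ⟨N', f3, f4⟩ := ind_conj h.tw_inj (h.norm_tw hx) (e' ▸ e2)
    refine ⟨m, hm, M', N', f1, f3, ?_⟩
    rwa [G2I.isSquare_mul_iff (SL.dt_ne _) (SL.dt_ne _), f2, f4,
      ← G2I.isSquare_mul_iff (SL.dt_ne _) (SL.dt_ne _)]
  uniq c hc e := by
    obtain ⟨w, rfl⟩ := h.mem_Zt.1 hc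
    have e' : cc w * cc w = 1 := h.xb.sy.inj (by rw [map_mul, e, map_one])
    have e2 : 2 * (2 * w) = 0 := by
      have := congrArg MB.c e'
      simp at this
      linear_combination this
    rcases two_eq_zero.1 e2 with f | f
    · exact Or.inl (by rw [show cc w = 1 by ext <;> simp [f], map_one])
    · exact Or.inr (by rw [show cc w = z k by ext <;> simp [f], h.hz])
  inv f _ _ n c hc := by
    have e := h.comm_Zt ((h.nrm f).resolve_left n) (inv_mem hc)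
    obtain ⟨w, rfl⟩ := h.mem_Zt.1 hc
    have e' : κ (s1 k) * κ (cc w) * (κ (s1 k))⁻¹ = (κ (cc w))⁻¹ := by
      rw [← map_inv, ← map_mul, ← map_mul, conj_cc, map_inv]
    calc _ = f * (κ (s1 k) * κ (s1 k)) * κ (cc w) * (κ (s1 k) * κ (s1 k))⁻¹ * f⁻¹ := by rw [ss]; group
      _ = f * κ (s1 k) * (κ (s1 k) * κ (cc w) * (κ (s1 k))⁻¹) * (f * κ (s1 k))⁻¹ := by group
      _ = _ := by rw [e', e.eq, mul_inv_cancel_right]
  two g hg _ c hc := h.comm_Zt hg hc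
  out := by
    obtain ⟨a, -, e, -⟩ := h.ind_Q (q := em k (PS.d2 (-1) * PS.a0 k)) (em_mem_Q.2 (by simp))
    obtain ⟨M, e1, -, e2⟩ := h.ind_d
    refine ⟨κ (s2 k), κ (s1 k), by rw [← map_mul, s2_sq, map_one], h.zc _,
      fun n => s2_not_mem ((h.mem _).1 n), ss, h.zc _, fun n => s1_not_mem ((h.mem _).1 n),
      tG a * M, ?_, by rwa [SL.dt_mul, SL.dt_tG, one_mul]⟩
    rw [← map_mul, s2_eq, map_mul κ]
    exact e.mul e1

theorem inn (v : X) (vv : v * v = 1) (M : GL (Fin 2) F) (e : Ind σ v M) : IsSquare (dt M) := by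
  obtain ⟨x, hx, c, hc, e'⟩ := h.sy0.conj_mem (h.cz.norm_of_ind e) (n := 1) (by rw [pow_one, sq, vv])
  obtain ⟨q, hq, w, rfl⟩ := exists_Q_cc hc (inv_ev hc (h.xb.sy.inj (by
    rw [map_mul, ← e', conj_mul, vv]; simp)))
  obtain ⟨a, -, e1, -⟩ := h.ind_Q hq
  have := e1.mul (h.ind_cc w).1
  rw [← map_mul, ← e', mul_one] at this
  obtain ⟨M', f1, f2⟩ := ind_conj h.inj hx this
  exact e.isSquare h.inj f1 (f2.2 (by rw [SL.dt_tG]; exact IsSquare.one))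

theorem tor : (∃ c ∈ Zt σ (κ (s1 k)), c * c = σ (-1)) ∨
    ∀ a : SL(2, F), a * a * (a * a) ≠ -1 := by
  rcases Nat.eq_zero_or_pos k with rfl | hk
  · refine Or.inr fun a e => Inv.SLF.neg_one_ne_one h.two_ne ?_
    have e' : a ^ 2 ^ 2 = -1 := by rw [← e, show 2 ^ 2 = 2 + 2 from rfl, pow_add, sq]
    exact e'.symm.trans (h.pow_one' (n := 3) (by rw [pow_succ, pow_mul, e']; simp))
  · obtain ⟨w, hw⟩ := exists_c4 hk
    exact Or.inl ⟨κ (c4 hk), hw ▸ h.cc_mem_Zt w, by rw [← map_mul, c4_sq, h.hz]⟩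

theorem fu_u (hk : 1 ≤ k) : Fu κ ⊤ (u hk * r k) (u hk) := by
  obtain ⟨w, hw⟩ := exists_c4 hk
  have sq : ∀ {b} {c : PS k}, tw σ (κ (s1 k)) b = κ (em k c) → c * c = PS.z k → b * b = -1 :=
    fun e e' => h.tw_inj (by rw [map_mul, e, ← map_mul, ← map_mul, e', em_z, h.hz, h.tw_z])
  obtain ⟨b, hb⟩ := h.ex2 (PS.x2_mem (mm k + hf k))
  obtain ⟨b', hb'⟩ := h.ex2 (PS.d2_mem (mm k))
  obtain ⟨g, hg⟩ := sl_conj h.odd (sq hb (PS.x2_sq _)) (sq hb' PS.y2_sq)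
  refine Fu.trans ⟨tw σ (κ (s1 k)) g, trivial, ?_⟩ (Fu.of_top _ (conj_u hk))
  have c := ((L4.mem_Zt.1 (hw ▸ h.cc_mem_Zt w : κ (c4 hk) ∈ _)).2 g).inv_inv
  rw [ur_eq, map_mul, map_mul κ, map_inv, ← hb, ← hb', ← hg, map_mul, map_mul, map_inv,
    ← mul_assoc, mul_assoc _ (κ (c4 hk))⁻¹, c.eq, ← mul_assoc]

/-- The non-central involutions of `Q` act non-trivially on both factors. -/
theorem act {c : MB k} (hc : c ∈ Q k) (cc : c * c = 1) (c1 : c ≠ 1) (cz : c ≠ z k) :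
    (¬ ∀ a, Commute (κ c) (σ a)) ∧ ¬ ∀ a, Commute (κ c) (tw σ (κ (s1 k)) a) := by
  obtain ⟨c, hc', rfl⟩ := exists_em_Q hc
  obtain ⟨a, ha, b, hb, aa, bb, rfl⟩ := PS.exists_om hc' (em_inj (by rw [map_mul, cc, map_one]))
    (fun e => c1 (by rw [e, map_one])) fun e => cz (by rw [e, em_z])
  obtain ⟨a', e⟩ := h.ex1 ha
  obtain ⟨b', e'⟩ := h.ex2 hb
  have n : ∀ x : SL(2, F), x * x = -1 → ¬ ∀ y, y * x = x * y := fun x xx c => by
    rcases sl_center h.two_ne c with rfl | rfl <;>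
      exact Inv.SLF.neg_one_ne_one h.two_ne (by simpa using xx.symm)
  rw [map_mul, map_mul, ← e, ← e']
  refine ⟨fun c => n a' (h.inj ?_) fun y => h.inj ?_, fun c => n b' (h.tw_inj ?_) fun y => h.tw_inj ?_⟩
  · rw [map_mul, e, ← map_mul, ← map_mul, aa, em_z, h.hz]
  · have := (c y).mul_left (h.comm y b').symm.inv_left
    rw [mul_inv_cancel_right] at this
    rw [map_mul, map_mul, this.eq]
  · rw [map_mul, e', ← map_mul, ← map_mul, bb, em_z, h.hz, h.tw_z]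
  · have := (h.comm a' y).inv_left.mul_left (c y)
    rw [inv_mul_cancel_left] at this
    rw [map_mul, map_mul, this.eq]

end La

end Cfsg.Agent.L4
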