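import Mathlib
import Cfsg.Agent.L4.BDefs
import Cfsg.Agent.L4A.Model
import Cfsg.Agent.Cl.LinearBasic

/-! The Sylow 2-subgroup of `L₄(q)`, `q ≡ 3 mod 4`. -/

set_option autoImplicit false
set_option linter.unusedSectionVars false

namespace Cfsg.Agent.L4

open Cfsg.Agent.Loc.Mss Cfsg.Agent.GW Subgroup Cfsg.Agent.P4 Cfsg.Agent.G2T Cfsg.Agent.Cl.GL2 MB
open scoped MatrixGroups

namespace SylA

open scoped QuadraticAlgebra

theorem exists_lift {G : Type*} [Group G] {A B P Φ : G} (k : ℕ) (hB : B ^ 2 ^ (k + 2) = 1)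
    (hP : P * P = 1) (hΦ : Φ * Φ = 1) (h4 : P * A = B * P) (h5 : A * B = B * A)
    (h6 : Φ * A = A * Φ) (h7 : Φ * B * Φ * B = 1) (h8 : P * Φ * P * Φ = Φ * P * Φ * P) :
    ∃ ι : L4A.DW k →* G, ι (L4A.DW.z k) = A ^ 2 ^ (k + 1) * B ^ 2 ^ (k + 1) := by
  have hP' : ∀ x, P * (P * x) = x := fun x => by rw [← mul_assoc, hP, one_mul]
  have hA : A = P * B * P := by rw [mul_assoc, ← h4, hP']
  let b : R k → G := fun y => B ^ y.val
  have b1 : ∀ x y, b (x + y) = b x * b y := fun x y => by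
    simp only [b]
    rw [ZMod.val_add, ← pow_add]
    exact (pow_eq_pow_mod _ hB).symm
  have b0 : b 0 = 1 := by simp [b]
  have b2 : ∀ y, Φ * b y = b (-y) * Φ := fun y => by
    have e : SemiconjBy Φ B B⁻¹ := by
      rw [SemiconjBy, ← eq_inv_of_mul_eq_one_left h7, mul_assoc _ Φ Φ, hΦ, mul_one]
    rw [eq_inv_of_mul_eq_one_left (show b (-y) * b y = 1 by rw [← b1, neg_add_cancel, b0]),
      ← inv_pow]
    exact e.pow_right _
  let d : R k → Bool → G := fun y f => b y * cond f Φ 1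
  have d1 : ∀ y f y' f', d y f * d y' f' = d (y + sg f y') (xor f f') := by
    rintro y (_ | _) y' f'
    · simp only [d, cond_false, mul_one, sg_false, b1, Bool.false_xor, mul_assoc]
    · simp only [d, cond_true, sg_true, b1, mul_assoc]
      rw [← mul_assoc Φ, b2, mul_assoc]
      cases f' <;> simp [hΦ]
  let c : R k → Bool → G := fun y f => P * d y f * P
  have c1 : ∀ y f y' f', c y f * c y' f' = c (y + sg f y') (xor f f') := fun y f y' f' => by
    simp only [c, ← d1, mul_assoc, hP']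
  have pc : ∀ y f x, P * (c y f * x) = d y f * (P * x) := fun y f x => by
    simp only [c, mul_assoc, hP']
  have pd : ∀ y f x, P * (d y f * x) = c y f * (P * x) := fun y f x => by
    simp only [c, mul_assoc, hP']
  have pb : ∀ y, P * b y * P = A ^ y.val := fun y => by
    have e : SemiconjBy P B A := by rw [SemiconjBy, hA, mul_assoc _ P P, hP, mul_one]
    rw [(e.pow_right y.val).eq, mul_assoc, hP, mul_one]
  have cd : ∀ x e y f, Commute (c x e) (d y f) := fun x e y f => by
    have e1 : c x e = A ^ x.val * cond e (P * Φ * P) 1 := by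
      rw [← pb]
      cases e <;> simp only [c, d, cond_true, cond_false, mul_assoc, hP', mul_one, one_mul]
    have k1 : Commute A B := h5
    have k2 : Commute A Φ := h6.symm
    have k3 : Commute (P * Φ * P) B := by
      rw [Commute, SemiconjBy, ← mul_assoc, ← mul_assoc, ← h4, mul_assoc P A, ← h6, hA]
      simp only [mul_assoc, hP, mul_one]
    have k4 : Commute (P * Φ * P) Φ := h8.trans (by simp only [mul_assoc])
    rw [e1]
    refine Commute.mul_left (Commute.pow_left ?_ _) ?_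
    · cases f
      exacts [(k1.pow_right _).mul_right (Commute.one_right _), (k1.pow_right _).mul_right k2]
    · cases e
      · exact Commute.one_left _
      · cases f
        exacts [(k3.pow_right _).mul_right (Commute.one_right _), (k3.pow_right _).mul_right k4]
  have cd' : ∀ x e y f t, d y f * (c x e * t) = c x e * (d y f * t) := fun x e y f t => by
    rw [← mul_assoc, ← (cd x e y f).eq, mul_assoc]
  refine ⟨MonoidHom.mk' (fun g => c g.x g.e * (d g.y g.f * cond g.p P 1)) ?_, ?_⟩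
  · rintro ⟨x, y, e, f, _ | _⟩ ⟨x', y', e', f', p⟩
    · simp only [L4A.DW.mul_x, L4A.DW.mul_y, L4A.DW.mul_e, L4A.DW.mul_f, L4A.DW.mul_p, cond_false,
        ← c1, ← d1, mul_assoc, cd', Bool.false_xor, one_mul]
    · simp only [L4A.DW.mul_x, L4A.DW.mul_y, L4A.DW.mul_e, L4A.DW.mul_f, L4A.DW.mul_p, cond_true,
        ← c1, ← d1, mul_assoc, pc, pd, cd']
      cases p <;> simp [hP]
  · have e : (hf k).val = 2 ^ (k + 1) := by
      rw [show hf k = ((2 ^ (k + 1) : ℕ) : R k) by push_cast; rfl]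
      exact ZMod.val_cast_of_lt (Nat.pow_lt_pow_right one_lt_two (by omega))
    simp only [MonoidHom.mk'_apply, L4A.DW.z_x, L4A.DW.z_y, L4A.DW.z_e, L4A.DW.z_f, L4A.DW.z_p, c, d,
      cond_false, mul_one, pb]
    simp only [b, e]

variable {F : Type*} [Field F]

/-- The ring obtained by adjoining a square root of `-1`. -/
abbrev Kq (F : Type*) [Field F] := QuadraticAlgebra F (-1) 0

theorem exists_om [Fintype F] (hF : Fintype.card F % 4 = 3) : ∃ (k m : ℕ) (w : Kq F),
    Fintype.card F + 1 = 2 ^ (k + 2) * (2 * m + 1) ∧ w ^ 2 ^ (k + 2) = -1 ∧ w * star w = -1 := by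
  obtain ⟨k, _, ⟨m, rfl⟩, h⟩ := Nat.exists_eq_two_pow_mul_odd (Nat.succ_ne_zero (Fintype.card F))
  obtain ⟨k, rfl⟩ : ∃ j, k = j + 2 := by
    rcases k with _ | _ | k
    · omega
    · omega
    · exact ⟨k, rfl⟩
  have : Fact (∀ r : F, r ^ 2 ≠ -1 + 0 * r) := ⟨fun r e =>
    FiniteField.isSquare_neg_one_iff.1 ⟨r, by linear_combination -e⟩ hF⟩
  have : Finite (Kq F) := Finite.of_equiv _ (QuadraticAlgebra.equivProd (-1 : F) 0).symm
  have hc : Nat.card (Kq F) = Fintype.card F * Fintype.card F := by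
    rw [Nat.card_congr (QuadraticAlgebra.equivProd (-1 : F) 0), Nat.card_prod,
      Nat.card_eq_fintype_card]
  obtain ⟨t, ht⟩ : ∃ t, Fintype.card F = 4 * t + 3 := ⟨Fintype.card F / 4, by omega⟩
  obtain ⟨g, hg⟩ := IsCyclic.exists_ofOrder_eq_natCard (α := (Kq F)ˣ)
  have h0 : orderOf g = (2 * t + 1) * (2 * m + 1) * (2 ^ (k + 2) * 2) := by
    rw [hg, Nat.card_units, hc]
    refine Nat.sub_eq_of_eq_add ?_
    rw [Nat.succ_eq_add_one, ht] at h
    rw [ht]
    linear_combination (4 * t + 2) * h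
  have h1 : ((g ^ ((2 * t + 1) * (2 * m + 1)) : (Kq F)ˣ) : Kq F) ^ 2 ^ (k + 2) = -1 := by
    refine (sq_eq_one_iff.1 ?_).resolve_left fun e => ?_
    · rw [← pow_mul, ← Units.val_pow_eq_pow_val, ← pow_mul, ← h0, pow_orderOf_eq_one, Units.val_one]
    · rw [← Units.val_pow_eq_pow_val, ← pow_mul, Units.val_eq_one, ← orderOf_dvd_iff_pow_eq_one,
        h0] at e
      have := Nat.le_of_dvd (by positivity) e
      have : 0 < (2 * t + 1) * (2 * m + 1) * 2 ^ (k + 2) := by positivity
      nlinarith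
  generalize ((g ^ ((2 * t + 1) * (2 * m + 1)) : (Kq F)ˣ) : Kq F) = w at h1
  refine ⟨k, m, w, h, h1, ?_⟩
  have h2 : star w = w ^ Fintype.card F := by
    have e0 : (QuadraticAlgebra.omega : Kq F) ^ 2 = -1 := by ext <;> simp [pow_two]
    have e1 : FiniteField.frobeniusAlgHom F (Kq F) QuadraticAlgebra.omega =
        -QuadraticAlgebra.omega := by
      change (QuadraticAlgebra.omega : Kq F) ^ Fintype.card F = _
      rw [ht, show 4 * t + 3 = 2 * (2 * t + 1) + 1 by ring, pow_succ, pow_mul, e0,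
        Odd.neg_one_pow ⟨t, rfl⟩, neg_one_mul]
    change _ = FiniteField.frobeniusAlgHom F (Kq F) w
    obtain ⟨x, y⟩ := w
    conv_rhs => rw [QuadraticAlgebra.mk_eq_add_smul_omega, map_add, map_smul, e1, AlgHom.commutes]
    ext <;> simp
  rw [h2, ← pow_succ', ← Nat.succ_eq_add_one, h, pow_mul, h1, Odd.neg_one_pow ⟨m, rfl⟩]

/-- Two blocks of size two. -/
def blk (u v : Kq F) : Matrix (Fin 4) (Fin 4) F :=
  !![u.re, -u.im, 0, 0; u.im, u.re, 0, 0; 0, 0, v.re, -v.im; 0, 0, v.im, v.re]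

theorem blk_mul (u v u' v' : Kq F) : blk u v * blk u' v' = blk (u * u') (v * v') := by
  ext i j
  fin_cases i <;> fin_cases j <;> simp [blk, Matrix.mul_apply, Fin.sum_univ_succ] <;> ring

theorem blk_one : blk (1 : Kq F) 1 = 1 := by
  ext i j
  fin_cases i <;> fin_cases j <;> simp [blk]

theorem blk_neg : blk (-1 : Kq F) (-1) = -1 := by
  ext i j
  fin_cases i <;> fin_cases j <;> simp [blk]

theorem blk_pow (u v : Kq F) (n : ℕ) : blk u v ^ n = blk (u ^ n) (v ^ n) := by
  induction n with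
  | zero => simp [blk_one]
  | succ n ih => rw [pow_succ, ih, blk_mul, pow_succ, pow_succ]

theorem det_blk (u v : Kq F) :
    (blk u v).det = (u.re ^ 2 + u.im ^ 2) * (v.re ^ 2 + v.im ^ 2) := by
  simp [blk, Matrix.det_succ_row_zero, Fin.sum_univ_succ, Fin.succAbove]
  ring

theorem exists_sw (F : Type*) [Field F] :
    ∃ Φ : SL(4, F), Φ.1 = !![0, 0, 1, 0; 0, 0, 0, 1; 1, 0, 0, 0; 0, 1, 0, 0] :=
  ⟨⟨_, by simp [Matrix.det_succ_row_zero, Fin.sum_univ_succ, Fin.succAbove]⟩, rfl⟩

theorem exists_pp {a b : F} (h : a ^ 2 + b ^ 2 = -1) :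
    ∃ P : SL(4, F), P.1 = !![0, -1, 0, 0; 1, 0, 0, 0; 0, 0, a, -b; 0, 0, -b, -a] :=
  ⟨⟨_, by
    simp [Matrix.det_succ_row_zero, Fin.sum_univ_succ, Fin.succAbove]
    linear_combination -h⟩, rfl⟩

/-- The matrix `-1`. -/
def ng (F : Type*) [Field F] : SL(4, F) := ⟨-1, by simp [Matrix.det_neg]; norm_num⟩

theorem coe_ng : (ng F).1 = -1 := rfl

theorem ng_mem : ng F ∈ center SL(4, F) :=
  mem_center_iff.2 fun x => Subtype.ext (by simp [coe_ng])

theorem mk_eq {g h : SL(4, F)} (e : g.1 = -h.1) :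
    QuotientGroup.mk' (center SL(4, F)) g = QuotientGroup.mk' (center SL(4, F)) h := by
  rw [QuotientGroup.mk'_eq_mk']
  exact ⟨_, ng_mem, Subtype.ext (by simp [e, coe_ng])⟩

end SylA

open SylA in
open scoped QuadraticAlgebra in
theorem exists_dw {F : Type*} [Field F] [Fintype F] (hF : Fintype.card F % 4 = 3) :
    ∃ (k : ℕ) (ι : L4A.DW k →* Matrix.ProjectiveSpecialLinearGroup (Fin 4) F), Sy ι ⊤ ⊤ := by
  obtain ⟨k, m, w, h1, h2, h3⟩ := exists_om hF
  have h2' : star w ^ 2 ^ (k + 2) = -1 := by rw [← star_pow, h2, star_neg, star_one]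
  have hn : w.re ^ 2 + w.im ^ 2 = -1 := by
    have := congrArg QuadraticAlgebra.re h3
    simp at this
    linear_combination this
  have two : (2 : F) ≠ 0 := by
    refine Ring.two_ne_zero fun e => ?_
    have := FiniteField.even_card_iff_char_two.1 e
    omega
  obtain ⟨A, hA⟩ : ∃ A : SL(4, F), A.1 = blk w w := ⟨⟨blk w w, by rw [det_blk, hn]; ring⟩, rfl⟩
  obtain ⟨B, hB⟩ : ∃ B : SL(4, F), B.1 = blk w (star w) :=
    ⟨⟨blk w (star w), by rw [det_blk, hn]; simp [hn]⟩, rfl⟩
  obtain ⟨P, hP⟩ := exists_pp hn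
  obtain ⟨Φ, hΦ⟩ := exists_sw F
  let π := QuotientGroup.mk' (center SL(4, F))
  obtain ⟨ι, hι⟩ := exists_lift (A := π A) (B := π B) (P := π P) (Φ := π Φ) k
    (by
      rw [← map_pow, ← map_one π]
      exact mk_eq (by simp [hB, blk_pow, h2, h2', blk_neg]))
    (by
      rw [← map_mul, ← map_one π]
      refine mk_eq ?_
      ext i j
      fin_cases i <;> fin_cases j <;> simp [hP, Matrix.mul_apply, Fin.sum_univ_succ] <;>
        first | linear_combination hn | linear_combination)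
    (by
      rw [← map_mul, ← map_one π]
      congr 1
      ext i j
      fin_cases i <;> fin_cases j <;> simp [hΦ, Matrix.mul_apply, Fin.sum_univ_succ])
    (by
      rw [← map_mul, ← map_mul]
      congr 1
      ext i j
      fin_cases i <;> fin_cases j <;> simp [hA, hB, blk, hP, Matrix.mul_apply, Fin.sum_univ_succ] <;>
        ring)
    (by
      rw [← map_mul, ← map_mul]
      congr 1
      exact Subtype.ext (by simp [hA, hB, blk_mul, mul_comm]))
    (by
      rw [← map_mul, ← map_mul]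
      congr 1
      ext i j
      fin_cases i <;> fin_cases j <;> simp [hA, blk, hΦ, Matrix.mul_apply, Fin.sum_univ_succ])
    (by
      rw [← map_mul, ← map_mul, ← map_mul, ← map_one π]
      refine mk_eq ?_
      ext i j
      fin_cases i <;> fin_cases j <;> simp [hB, blk, hΦ, Matrix.mul_apply, Fin.sum_univ_succ] <;>
        first | linear_combination hn | linear_combination)
    (by
      simp only [← map_mul]
      refine mk_eq ?_
      ext i j
      fin_cases i <;> fin_cases j <;> simp [hP, hΦ, Matrix.mul_apply, Fin.sum_univ_succ])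
  have inj : Function.Injective ι := L4A.DW.injective_of_z ι fun e => by
    rw [hι, ← map_pow, ← map_pow, ← map_mul, QuotientGroup.mk'_apply, QuotientGroup.eq_one_iff] at e
    have e1 : (A ^ 2 ^ (k + 1) * B ^ 2 ^ (k + 1)).1 = blk (-1) 1 := by
      simp only [hA, hB, Matrix.SpecialLinearGroup.coe_mul, Matrix.SpecialLinearGroup.coe_pow,
        blk_pow, blk_mul]
      rw [← mul_pow w (star w), h3, ← pow_add, ← two_mul, ← pow_succ', h2,
        Even.neg_one_pow ⟨2 ^ k, by ring⟩]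
    generalize A ^ 2 ^ (k + 1) * B ^ 2 ^ (k + 1) = g at e e1
    have e2 := congrArg (fun g : SL(4, F) => g.1 0 2) (mem_center_iff.1 e Φ)
    simp [e1, blk, hΦ, Matrix.mul_apply, Fin.sum_univ_succ] at e2
    exact two (by linear_combination e2)
  refine ⟨k, ι, inj, le_top, (L4A.DW.isPGroup.to_subgroup ⊤).map _, fun hd => ?_⟩
  rw [relIndex_top_right] at hd
  have c1 := (map ι ⊤).card_mul_index
  rw [card_map_of_injective inj, card_top, L4A.DW.card] at c1
  have c2 := card_eq_card_quotient_mul_card_subgroup (center SL(4, F))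
  have c3 : 2 ∣ Nat.card (center SL(4, F)) := by
    have : Fact (Nat.Prime 2) := ⟨Nat.prime_two⟩
    have e : orderOf (⟨_, ng_mem⟩ : center SL(4, F)) = 2 :=
      orderOf_eq_prime (Subtype.ext (Subtype.ext (by simp [coe_ng]))) fun e => by
        have := congrArg (fun g : center SL(4, F) => g.1.1 0 0) e
        simp [coe_ng] at this
        exact two (by linear_combination -this)
    exact e ▸ orderOf_dvd_natCard _
  obtain ⟨i, hi⟩ := hd
  obtain ⟨j, hj⟩ := c3
  change Nat.card SL(4, F) = Nat.card (Matrix.ProjectiveSpecialLinearGroup (Fin 4) F) * _ at c2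
  rw [← c1, hi, hj, Cl.card_sl_four, Nat.card_eq_fintype_card] at c2
  obtain ⟨t, ht⟩ : ∃ t, Fintype.card F = 4 * t + 3 := ⟨Fintype.card F / 4, by omega⟩
  rw [ht] at h1 c2
  have p2 : (4 * t + 3) ^ 2 - 1 = 2 ^ (k + 3) * ((2 * t + 1) * (2 * m + 1)) :=
    Nat.sub_eq_of_eq_add (by linear_combination (4 * t + 2) * h1)
  have p3 : (4 * t + 3) ^ 3 - 1 = 2 * ((2 * t + 1) * (2 * (8 * t ^ 2 + 14 * t + 6) + 1)) :=
    Nat.sub_eq_of_eq_add (by ring)
  have p4 : (4 * t + 3) ^ 4 - 1 =
      2 ^ (k + 4) * ((2 * t + 1) * (2 * m + 1) * (2 * (4 * t ^ 2 + 6 * t + 2) + 1)) :=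
    Nat.sub_eq_of_eq_add (by linear_combination (4 * t + 2) * ((4 * t + 3) ^ 2 + 1) * h1)
  rw [p2, p3, p4] at c2
  have o : Odd ((2 * (2 * t + 1) + 1) ^ 6 * ((2 * t + 1) * (2 * m + 1)) *
      ((2 * t + 1) * (2 * (8 * t ^ 2 + 14 * t + 6) + 1)) *
      ((2 * t + 1) * (2 * m + 1) * (2 * (4 * t ^ 2 + 6 * t + 2) + 1))) := by
    simp only [Nat.odd_mul, odd_two_mul_add_one, (odd_two_mul_add_one _).pow, and_self]
  refine Nat.not_even_iff_odd.2 o ⟨i * j, Nat.eq_of_mul_eq_mul_left (pow_pos two_pos (2 * k + 8)) ?_⟩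
  linear_combination c2

end Cfsg.Agent.L4
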