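import Mathlib
import Cfsg.Agent.L4.BDefs
import Cfsg.Agent.L4.SylG

/-! The Sylow 2-subgroup of L4(q), q ≡ 1 mod 4. -/

set_option autoImplicit false
set_option linter.unusedSectionVars false

namespace Cfsg.Agent.L4

open Cfsg.Agent.Loc.Mss Cfsg.Agent.GW Subgroup Cfsg.Agent.P4 Cfsg.Agent.G2T Cfsg.Agent.Cl.GL2 MB
open scoped MatrixGroups

namespace SylB

open Matrix

/-- The permutation of the coordinates. -/
def σ (e f p : Bool) (i : Fin 4) : Fin 4 :=
  cond p ![0, 1, 3, 2] id (cond f ![2, 3, 0, 1] id (cond e ![3, 2, 1, 0] id i))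

/-- The signs. -/
def sn (e f p : Bool) : Fin 4 → ℤ :=
  cond p (cond e (cond f ![-1, -1, -1, 1] ![1, -1, 1, 1]) (cond f ![1, 1, 1, -1] ![1, -1, 1, 1]))
    (cond e ![1, -1, -1, 1] ![1, 1, 1, 1])

/-- The signed permutation matrices. -/
def W (e f p : Bool) : Matrix (Fin 4) (Fin 4) ℤ := of fun i j => if j = σ e f p i then sn e f p i else 0

theorem W_det : ∀ e f p, (W e f p).det = 1 := by decide +kernel

theorem W_mul : ∀ e f p e' f' p', ∃ c ∈ [(1 : ℤ), -1],
    W (xor e (cond p f' e')) (xor f (cond p e' f')) (xor p p') = c • (W e f p * W e' f' p') := by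
  decide +kernel

theorem W_one : W false false false = 1 := by decide +kernel

variable {F : Type*} [Field F] {k : ℕ}

theorem W_diag (e f p : Bool) (d : Fin 4 → F) :
    (W e f p).map (Int.castRingHom F) * diagonal d =
      diagonal (fun i => d (σ e f p i)) * (W e f p).map (Int.castRingHom F) := by
  ext i j
  rw [mul_diagonal, diagonal_mul, map_apply, W, of_apply]
  split_ifs with h
  · rw [h, mul_comm]
  · simp

/-- The exponents of the diagonal entries. -/
def xs (g : MB k) : Fin 4 → R k := ![g.c, g.c - g.a, g.b, 0]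

theorem xs_mul (g h : MB k) (i : Fin 4) :
    xs (g * h) i = -xs h (σ g.e g.f g.p 3) + (xs g i + xs h (σ g.e g.f g.p i)) := by
  rcases g with ⟨a, b, c, _ | _, _ | _, _ | _, ev⟩ <;> fin_cases i <;> simp [xs, σ] <;> ring

theorem exists_hom (χ : Multiplicative (R k) →* Fˣ) (hχ : Function.Injective χ) :
    ∃ ι : MB k →* ProjectiveSpecialLinearGroup (Fin 4) F, Function.Injective ι := by
  let X : R k → F := fun x => χ (Multiplicative.ofAdd x)
  have hX : ∀ x y, X (x + y) = X x * X y := fun x y => by simp [X, ofAdd_add]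
  have X0 : X 0 = 1 := by simp [X]
  obtain ⟨ι, hι⟩ := SylG.exists_hom
    (fun g : MB k => diagonal (fun i => X (xs g i)) * (W g.e g.f g.p).map (Int.castRingHom F))
    (fun g => by
      obtain ⟨u, hu⟩ := ev_iff.1 (show hf k * (2 * g.c + g.b - g.a) = 0 by
        linear_combination 2 * g.ev - (2 * g.c + g.b - g.a) * two_mm)
      obtain ⟨y, rfl⟩ := ev_iff.1 (show hf k * u = 0 by
        linear_combination g.ev - mm k * hu - u * two_mm)
      refine ⟨X (-y), ?_⟩
      rw [det_mul, ← RingHom.mapMatrix_apply, ← RingHom.map_det, W_det, map_one, mul_one,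
        det_diagonal, Fin.prod_univ_four, Fintype.card_fin, pow_succ, pow_three]
      simp only [← hX]
      rw [← X0]
      congr 1
      simp [xs]
      linear_combination hu)
    (fun g h => by
      obtain ⟨c, -, hc⟩ := W_mul g.e g.f g.p h.e h.f h.p
      refine ⟨c * X (-xs h (σ g.e g.f g.p 3)), ?_⟩
      rw [mul_e, mul_f, mul_p, hc, mul_assoc, ← mul_assoc _ (diagonal _), W_diag, mul_assoc,
        ← mul_assoc, diagonal_mul_diagonal, ← Matrix.map_mul]
      ext i j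
      simp only [diagonal_mul, Matrix.smul_apply, map_apply, xs_mul, hX, smul_eq_mul, eq_intCast,
        Int.cast_mul]
      ring)
  refine ⟨ι, injective_of_z ι fun e => hf_ne (k := k) ?_⟩
  obtain ⟨c, hc⟩ := hι _ e
  have h1 := congrFun₂ hc 0 0
  have h2 := congrFun₂ hc 3 3
  simp [W_one, xs] at h1 h2
  exact hχ (Units.ext (h1.trans (h2.symm.trans X0).symm.symm |>.trans X0.symm))

theorem arith {q k m N : ℕ} (h : q = 2 ^ (k + 2) * m + 1) (hm : Odd m)
    (e : 4 * N = q ^ 6 * (q ^ 2 - 1) * (q ^ 3 - 1) * (q ^ 4 - 1)) :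
    ∃ m', Odd m' ∧ N = 2 ^ (3 * k + 7) * m' := by
  obtain ⟨t, ht⟩ : ∃ t, t = 2 ^ k * m := ⟨_, rfl⟩
  have hq : q = 4 * t + 1 := by rw [h, ht]; ring
  have h2 : q ^ 2 - 1 = 8 * t * (2 * t + 1) := Nat.sub_eq_of_eq_add (by rw [hq]; ring)
  have h3 : q ^ 3 - 1 = 4 * t * (2 * (8 * t ^ 2 + 6 * t + 1) + 1) :=
    Nat.sub_eq_of_eq_add (by rw [hq]; ring)
  have h4 : q ^ 4 - 1 = 16 * t * (2 * t + 1) * (2 * (4 * t ^ 2 + 2 * t) + 1) :=
    Nat.sub_eq_of_eq_add (by rw [hq]; ring)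
  refine ⟨q ^ 6 * m ^ 3 * (2 * t + 1) ^ 2 * (2 * (8 * t ^ 2 + 6 * t + 1) + 1) *
    (2 * (4 * t ^ 2 + 2 * t) + 1), ?_, Nat.eq_of_mul_eq_mul_left (show 0 < 4 by norm_num) ?_⟩
  · exact (((Odd.pow ⟨2 * t, by omega⟩).mul hm.pow).mul (odd_two_mul_add_one _).pow).mul
      (odd_two_mul_add_one _) |>.mul (odd_two_mul_add_one _)
  · rw [e, h2, h3, h4]
    generalize 2 * t + 1 = a
    generalize 2 * (8 * t ^ 2 + 6 * t + 1) + 1 = b
    generalize 2 * (4 * t ^ 2 + 2 * t) + 1 = c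
    rw [ht]
    ring

end SylB

theorem exists_mb {F : Type*} [Field F] [Fintype F] (hF : Fintype.card F % 4 = 1) :
    ∃ (k : ℕ) (ι : MB k →* Matrix.ProjectiveSpecialLinearGroup (Fin 4) F), Sy ι ⊤ ⊤ := by
  rw [← Nat.card_eq_fintype_card] at hF
  have h1 : 1 < Nat.card F := Finite.one_lt_card
  have h4 : 4 ∣ Nat.card F - 1 := by omega
  obtain ⟨n, m, hm, e⟩ := Nat.exists_eq_two_pow_mul_odd (show Nat.card F - 1 ≠ 0 by omega)
  obtain ⟨k, rfl⟩ : ∃ k, n = k + 2 := by
    refine Nat.exists_eq_add_of_le' ((Nat.pow_dvd_pow_iff_le_right one_lt_two).1 ?_)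
    exact Nat.Coprime.dvd_of_dvd_mul_right (Nat.Coprime.pow_left 2 (by simpa using hm)) (e ▸ h4)
  obtain ⟨P, hP⟩ := Sylow.exists_subgroup_card_pow_prime (G := Fˣ) 2 (n := k + 2) (by
    rw [Nat.card_units, e]; exact dvd_mul_right _ _)
  let φ : Multiplicative (R k) ≃* P := mulEquivOfCyclicCardEq (by rw [hP]; simp)
  obtain ⟨ι, hι⟩ := SylB.exists_hom (P.subtype.comp φ.toMonoidHom) (P.subtype_injective.comp φ.injective)
  have h5 := SylG.card_psl4 (F := F)
  rw [Nat.gcd_eq_left h4] at h5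
  obtain ⟨m', h6, h7⟩ := SylB.arith (k := k) (by omega) hm h5
  exact ⟨k, ι, SylG.sy_of_card hι isPGroup h6 (by rw [h7, MB.card])⟩

end Cfsg.Agent.L4
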